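import Groth.Agent.H24Cot.Smooth
import Groth.Agent.H13CInt.MinGen
import Groth.Agent.S9442
import Groth.Agent.H02CA.SmoothRegular
import Mathlib.RingTheory.RingHom.Finite

/-!
Regular local rings and the cotangent functors.
-/

universe u

open TensorProduct CotT

set_option linter.style.haveILetI false

noncomputable section

namespace Groth.Agent.H24Cot

theorem exists_regular_generators {R S : Type u} [CommRing R] [IsRegularLocalRing R] [CommRing S]
    [IsRegularLocalRing S] (φ : R →+* S) (hφ : Function.Surjective φ) :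
    ∃ (c : ℕ) (g : Fin c → R), RingTheory.Sequence.IsRegular R (List.ofFn g) ∧
      Ideal.span (Set.range g) = RingHom.ker φ := by
  haveI : IsRegularLocalRing (R ⧸ RingHom.ker φ) :=
    IsRegularLocalRing.of_ringEquiv (RingHom.quotientKerEquivOfSurjective hφ).symm
  exact H13CInt.exists_fun_of_isRegularIdeal (H13CInt.isRegularIdeal_of_regular_quotient (RingHom.ker φ))

theorem relationsTrivial_ofFn {R : Type u} [CommRing R] {c : ℕ} (g : Fin c → R)
    (h : RingTheory.Sequence.IsWeaklyRegular R (List.ofFn g)) : RelationsTrivial g := by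
  refine relationsTrivial_of_regular g fun i x hx => ?_
  have e : Ideal.span (g '' {j | j < i}) = Ideal.ofList ((List.ofFn g).take i) := by
    unfold Ideal.ofList
    congr 1
    ext y
    simp only [Set.mem_image, Set.mem_ofPred_eq, List.mem_take_iff_getElem, List.getElem_ofFn]
    constructor
    · rintro ⟨j, hj, rfl⟩
      exact ⟨j, lt_min hj (by rw [List.length_ofFn]; exact j.2), rfl⟩
    · rintro ⟨j, hj, rfl⟩
      exact ⟨⟨j, (hj.trans_le (min_le_left _ _)).trans i.2⟩, hj.trans_le (min_le_left _ _), rfl⟩
  rw [e] at hx ⊢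
  have hr := (RingTheory.Sequence.isWeaklyRegular_iff_Fin R (List.ofFn g)).mp h ⟨i, by rw [List.length_ofFn]; exact i.2⟩
  simp only [Fin.getElem_fin, List.getElem_ofFn] at hr
  have hmem : ∀ y : R, (Submodule.Quotient.mk y : R ⧸ (Ideal.ofList ((List.ofFn g).take i) • ⊤ : Submodule R R)) = 0 ↔
      y ∈ Ideal.ofList ((List.ofFn g).take i) := fun y => by
    rw [Submodule.Quotient.mk_eq_zero, smul_eq_mul, Ideal.mul_top]
  rw [← hmem] at hx ⊢
  refine hr ?_
  change g i • Submodule.Quotient.mk x = g i • (0 : R ⧸ (Ideal.ofList ((List.ofFn g).take i) • ⊤ : Submodule R R))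
  rw [smul_zero, ← Submodule.Quotient.mk_smul, show g i • x = x * g i from mul_comm _ _]
  exact hx

theorem localRingHom_surjective {R S : Type u} [CommRing R] [CommRing S] (φ : R →+* S) (hφ : Function.Surjective φ)
    (q : Ideal S) [q.IsPrime] :
    Function.Surjective (Localization.localRingHom (q.comap φ) q φ rfl) := by
  intro z
  obtain ⟨⟨a, b⟩, rfl⟩ := IsLocalization.mk'_surjective q.primeCompl z
  obtain ⟨a', rfl⟩ := hφ a
  obtain ⟨b', hb'⟩ := hφ b
  refine ⟨IsLocalization.mk' _ a' (⟨b', fun hb => b.2 (by rw [← hb']; exact hb)⟩ : (q.comap φ).primeCompl), ?_⟩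
  rw [Localization.localRingHom_mk']
  congr 1
  exact Subtype.ext hb'

theorem ker_localRingHom {R S : Type u} [CommRing R] [CommRing S] (φ : R →+* S) (hφ : Function.Surjective φ)
    (q : Ideal S) [q.IsPrime] :
    RingHom.ker (Localization.localRingHom (q.comap φ) q φ rfl) =
      (RingHom.ker φ).map (algebraMap R (Localization.AtPrime (q.comap φ))) := by
  refine le_antisymm (fun z hz => ?_) (Ideal.map_le_iff_le_comap.mpr fun r hr => ?_)
  · obtain ⟨⟨a, b⟩, rfl⟩ := IsLocalization.mk'_surjective (q.comap φ).primeCompl z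
    rw [RingHom.mem_ker, Localization.localRingHom_mk', IsLocalization.mk'_eq_zero_iff] at hz
    obtain ⟨⟨c, hc⟩, hca⟩ := hz
    obtain ⟨c', rfl⟩ := hφ c
    rw [IsLocalization.mk'_mem_map_algebraMap_iff]
    exact ⟨c', hc, by rw [RingHom.mem_ker, map_mul]; exact hca⟩
  · rw [Ideal.mem_comap, RingHom.mem_ker, Localization.localRingHom_to_map, RingHom.mem_ker.mp hr, map_zero]

theorem isGeometricallyReduced_of_isAlgClosed (k L : Type u) [Field k] [IsAlgClosed k] [CommRing L] [Algebra k L]
    [IsReduced L] : Algebra.IsGeometricallyReduced k L := by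
  rw [Algebra.isGeometricallyReduced_field_iff]
  let e : k ≃ₐ[k] AlgebraicClosure k := AlgEquiv.ofBijective (Algebra.ofId k (AlgebraicClosure k))
    ⟨(algebraMap k (AlgebraicClosure k)).injective, IsAlgClosed.algebraMap_bijective_of_isIntegral.2⟩
  exact isReduced_of_injective ((Algebra.TensorProduct.congr e.symm AlgEquiv.refl).trans (Algebra.TensorProduct.lid k L))
    (AlgEquiv.injective _)

/-- Over an algebraically closed field regularity at every prime is formal smoothness. -/
theorem formallySmooth_iff_regular (k B : Type u) [Field k] [IsAlgClosed k] [CommRing B] [Algebra k B]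
    [Algebra.FiniteType k B] :
    Algebra.FormallySmooth k B ↔ ∀ (p : Ideal B) [p.IsPrime], IsRegularLocalRing (Localization.AtPrime p) := by
  haveI : Algebra.FinitePresentation k B := Algebra.FinitePresentation.of_finiteType.mp inferInstance
  have hiff : ∀ (p : Ideal B) [p.IsPrime], Algebra.IsSmoothAt k p ↔ IsRegularLocalRing (Localization.AtPrime p) :=
    fun p _ => by
    haveI := isGeometricallyReduced_of_isAlgClosed k p.ResidueField
    exact Groth.Agent.S9442.result k B p
  rw [← Algebra.smoothLocus_eq_univ_iff]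
  constructor
  · intro h p _
    exact (hiff p).mp (show (⟨p, inferInstance⟩ : PrimeSpectrum B) ∈ Algebra.smoothLocus k B by rw [h]; trivial)
  · intro h
    exact Set.eq_univ_of_forall fun p => (hiff p.asIdeal).mpr (h p.asIdeal)

theorem subsingleton_T2_of_regular (k B : Type u) [Field k] [IsAlgClosed k] [CommRing B] [Algebra k B]
    [Algebra.FiniteType k B] (h : ∀ (p : Ideal B) [p.IsPrime], IsRegularLocalRing (Localization.AtPrime p))
    (M : Type u) [AddCommGroup M] [Module B M] : Subsingleton (T2 (canon k B) M) := by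
  haveI : Algebra.FinitePresentation k B := Algebra.FinitePresentation.of_finiteType.mp inferInstance
  haveI := (formallySmooth_iff_regular k B).mpr h
  obtain ⟨n, π, hπ⟩ := Algebra.FiniteType.iff_quotient_mvPolynomial''.mp ‹Algebra.FiniteType k B›
  let ψ : MvPolynomial (ULift.{u} (Fin n)) k →ₐ[k] B := π.comp (MvPolynomial.renameEquiv k Equiv.ulift).toAlgHom
  have hψ : Function.Surjective ψ := hπ.comp (AlgEquiv.surjective _)
  obtain ⟨m, f, hf⟩ := Submodule.fg_iff_exists_fin_generating_family.mp (IsNoetherian.noetherian (RingHom.ker ψ.toRingHom))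
  let G : Algebra.Generators k B (ULift.{u} (Fin n)) := Algebra.Generators.ofAlgHom ψ hψ
  let P : Algebra.Presentation k B (ULift.{u} (Fin n)) (Fin m) :=
    { toGenerators := G
      relation := f
      span_range_relation_eq_ker := hf.trans (Algebra.Generators.ker_ofAlgHom ψ hψ).symm }
  have hd : Function.Injective (d2 P) := by
    refine d2_injective_of_local P fun 𝔪 _ hI => ?_
    let φ : P.toExtension.Ring →+* B := algebraMap P.toExtension.Ring B
    have hφ : Function.Surjective φ := algebraMap_ring_surjective P
    have hcm : (𝔪.map φ).comap φ = 𝔪 := by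
      rw [Ideal.comap_map_of_surjective' φ hφ]
      exact sup_eq_left.mpr hI
    have hp : (𝔪.map φ).IsPrime := (Ideal.map_isPrime_of_surjective hφ hI)
    have key : ∀ (p : Ideal P.toExtension.Ring) [p.IsPrime], p = (𝔪.map φ).comap φ →
        ∃ (c : ℕ) (g : Fin c → Localization.AtPrime p), RelationsTrivial g ∧
          P.toExtension.ker.map (algebraMap P.toExtension.Ring (Localization.AtPrime p)) = Ideal.span (Set.range g) := by
      rintro p _ rfl
      haveI : IsRegularLocalRing (Localization.AtPrime (𝔪.map φ)) := h _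
      haveI : IsRegularLocalRing (Localization.AtPrime ((𝔪.map φ).comap φ)) := by
        haveI : IsRegularRing P.toExtension.Ring :=
          inferInstanceAs (IsRegularRing (MvPolynomial (ULift.{u} (Fin n)) k))
        exact IsRegularRing.isRegularLocalRing_localization _
      obtain ⟨c, g, hg, hspan⟩ := exists_regular_generators _ (localRingHom_surjective φ hφ (𝔪.map φ))
      exact ⟨c, g, relationsTrivial_ofFn g hg.toIsWeaklyRegular, by rw [hspan, ker_localRingHom φ hφ]⟩
    exact key 𝔪 hcm.symm
  haveI := subsingleton_T2_of_d2_injective P hd M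
  exact (T2equiv (M := M) (canon k B) P).toEquiv.symm.subsingleton

end Groth.Agent.H24Cot
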