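import Groth.Agent.H24Cot.Compare

/-!
`T²` of a presentation only depends on the polynomial ring of the presentation as a base ring.
-/

universe u v w t u' w' t' m

open TensorProduct CotT Function

set_option linter.style.haveILetI false

noncomputable section

namespace Groth.Agent.H24Cot

variable {A : Type u} {B : Type v} {ι : Type w} {σ : Type t} {A' : Type u'} {ι' : Type w'}
variable [CommRing A] [CommRing B] [Algebra A B] [CommRing A'] [Algebra A' B]
variable [Algebra A A'] [IsScalarTower A A' B]
variable {P : Algebra.Presentation A B ι σ} {P' : Algebra.Presentation A' B ι' σ} (h : PresHom P P')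

theorem relModMap_eq_mapRange (hrel : ∀ s, h.relVal s = Finsupp.single s 1) (f : relMod P) :
    h.relModMap f = Finsupp.mapRange h.ringHom (map_zero _) f := by
  induction f using Finsupp.induction_linear with
  | zero => rw [map_zero, Finsupp.mapRange_zero]
  | add f g hf hg => rw [map_add, Finsupp.mapRange_add (map_add _), hf, hg]
  | single s r => rw [PresHom.relModMap_single, hrel, Finsupp.smul_single', mul_one, Finsupp.mapRange_single]

variable (hbij : Bijective h.ringHom) (hrel : ∀ s, h.relVal s = Finsupp.single s 1)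

include hbij hrel in
theorem relModMap_bijective : Bijective h.relModMap := by
  have e : ⇑h.relModMap = Finsupp.mapRange h.ringHom (map_zero _) := funext (relModMap_eq_mapRange h hrel)
  rw [e]
  exact ⟨Finsupp.mapRange_injective _ _ hbij.1, Finsupp.mapRange_surjective _ _ hbij.2⟩

include hbij hrel in
theorem relKerMap_bijective : Bijective h.relKerMap := by
  refine ⟨fun a b e => Subtype.ext ((relModMap_bijective h hbij hrel).1 (congrArg Subtype.val e)), fun x => ?_⟩
  obtain ⟨f, hf⟩ := (relModMap_bijective h hbij hrel).2 (x : relMod P')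
  refine ⟨⟨f, hbij.1 ?_⟩, Subtype.ext hf⟩
  rw [map_zero, ← h.jmap_relModMap, hf]
  exact x.2

include hbij hrel in
theorem exists_mem_trivRel {y : relMod P'} (hy : y ∈ trivRel P') :
    ∃ x ∈ trivRel P, h.relModMap x = y := by
  refine Submodule.span_induction (p := fun y _ => ∃ x ∈ trivRel P, h.relModMap x = y) ?_ ?_ ?_ ?_ hy
  · rintro _ ⟨a, b, rfl⟩
    obtain ⟨a, rfl⟩ := (relModMap_bijective h hbij hrel).2 a
    obtain ⟨b, rfl⟩ := (relModMap_bijective h hbij hrel).2 b
    refine ⟨jmap P a • b - jmap P b • a, Submodule.subset_span ⟨a, b, rfl⟩, ?_⟩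
    rw [map_sub, LinearMap.map_smulₛₗ, LinearMap.map_smulₛₗ, h.jmap_relModMap, h.jmap_relModMap]
  · exact ⟨0, zero_mem _, map_zero _⟩
  · rintro a b _ _ ⟨x, hx, rfl⟩ ⟨y, hy, rfl⟩
    exact ⟨x + y, add_mem hx hy, map_add _ _ _⟩
  · rintro r a _ ⟨x, hx, rfl⟩
    obtain ⟨r, rfl⟩ := hbij.2 r
    exact ⟨r • x, Submodule.smul_mem _ _ hx, LinearMap.map_smulₛₗ _ _ _⟩

/-- The inverse of `R → R'`. -/
def invHom : P'.toExtension.Ring →+* P.toExtension.Ring := (RingEquiv.ofBijective h.ringHom hbij).symm.toRingHom

theorem ringHom_invHom (r : P'.toExtension.Ring) : h.ringHom (invHom h hbij r) = r :=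
  (RingEquiv.ofBijective h.ringHom hbij).apply_symm_apply r

theorem algebraMap_invHom (r : P'.toExtension.Ring) :
    algebraMap P.toExtension.Ring B (invHom h hbij r) = algebraMap B B (algebraMap P'.toExtension.Ring B r) := by
  conv_rhs => rw [← ringHom_invHom h hbij r, h.algebraMap_ringHom]
  rfl

theorem relKerMap_symm (x : relKer P') :
    h.relKerMap ((Equiv.ofBijective _ (relKerMap_bijective h hbij hrel)).symm x) = x :=
  Equiv.ofBijective_apply_symm_apply h.relKerMap (relKerMap_bijective h hbij hrel) x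

/-- The inverse of `Q → Q'`. -/
def invKer : relKer P' →ₛₗ[invHom h hbij] relKer P where
  toFun := (Equiv.ofBijective _ (relKerMap_bijective h hbij hrel)).symm
  map_add' a b := by
    refine (relKerMap_bijective h hbij hrel).1 ?_
    rw [relKerMap_symm h hbij hrel, map_add, relKerMap_symm h hbij hrel, relKerMap_symm h hbij hrel]
  map_smul' r a := by
    refine (relKerMap_bijective h hbij hrel).1 ?_
    rw [relKerMap_symm h hbij hrel, LinearMap.map_smulₛₗ, relKerMap_symm h hbij hrel, ringHom_invHom]

theorem relKerMap_invKer (a : relKer P') : h.relKerMap (invKer h hbij hrel a) = a :=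
  relKerMap_symm h hbij hrel a

variable (M : Type m) [AddCommGroup M] [Module B M]

include hrel in
theorem pull1_surjective : Surjective (h.pull1 M) := fun φ => by
  refine ⟨(L1basis P').constr B fun s => φ (L1basis P s), (L1basis P).ext fun s => ?_⟩
  rw [PresHom.pull1_apply]
  conv_lhs => rw [L1basis_apply, L1map_one_tmul, PresHom.relModMap_single, map_one, one_smul, hrel, ← L1basis_apply]
  rw [Module.Basis.constr_basis]

theorem pull2_eq_of_eta (ψ : L2 P' →ₗ[B] M) (φ : L2 P →ₗ[B] M)
    (e : ∀ q : relKer P, ψ (eta (P' := P') (h.relKerMap q)) = φ (Submodule.Quotient.mk ((1 : B) ⊗ₜ q))) :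
    h.pull2 M ψ = φ := by
  refine LinearMap.ext fun z => ?_
  obtain ⟨z, rfl⟩ := Submodule.Quotient.mk_surjective _ z
  obtain ⟨q, rfl⟩ := TensorProduct.mk_surjective P.toExtension.Ring (relKer P) B (algebraMap_ring_surjective P) z
  exact (congrArg ψ (L2map_one_tmul h q)).trans (e q)

include hbij hrel in
set_option maxHeartbeats 1000000 in
theorem pull2_bijective : Bijective (h.pull2 M) := by
  constructor
  · intro a b e
    refine LinearMap.ext fun z => ?_
    obtain ⟨z, rfl⟩ := Submodule.Quotient.mk_surjective _ z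
    obtain ⟨q, rfl⟩ := TensorProduct.mk_surjective P'.toExtension.Ring (relKer P') B (algebraMap_ring_surjective P') z
    have := LinearMap.congr_fun e (Submodule.Quotient.mk ((1 : B) ⊗ₜ invKer h hbij hrel q))
    rw [PresHom.pull2_apply, PresHom.pull2_apply, L2map_one_tmul, relKerMap_invKer] at this
    exact this
  · intro φ
    let Φ : B ⊗[P'.toExtension.Ring] relKer P' →ₗ[B] M :=
      PresHom.linOfSemilinear M ((φ.comp (Submodule.mkQ _)).comp
        (tensorMap (invHom h hbij) (algebraMap_invHom h hbij) (invKer h hbij hrel)))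
    have hΦ : ∀ q, Φ ((1 : B) ⊗ₜ q) = φ (Submodule.Quotient.mk ((1 : B) ⊗ₜ invKer h hbij hrel q)) := fun q => rfl
    refine ⟨Submodule.liftQ _ Φ ?_, ?_⟩
    · rintro _ ⟨z, rfl⟩
      obtain ⟨k, rfl⟩ := TensorProduct.mk_surjective P'.toExtension.Ring (trivRelKer P') B (algebraMap_ring_surjective P') z
      rw [LinearMap.mem_ker, TensorProduct.mk_apply, LinearMap.baseChange_tmul, hΦ]
      obtain ⟨x, hx, hxk⟩ := exists_mem_trivRel h hbij hrel k.2
      have e : invKer h hbij hrel (k : relKer P') = ⟨x, trivRel_le_relKer P hx⟩ :=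
        (relKerMap_bijective h hbij hrel).1 (by rw [relKerMap_invKer]; exact Subtype.ext hxk.symm)
      rw [Submodule.subtype_apply, e]
      have h0 := eta_eq_zero (P' := P) ⟨x, trivRel_le_relKer P hx⟩ hx
      exact (congrArg φ h0).trans (map_zero φ)
    · refine pull2_eq_of_eta h M _ φ fun q => ?_
      have e := (relKerMap_bijective h hbij hrel).1 (relKerMap_invKer h hbij hrel (h.relKerMap q))
      exact (hΦ (h.relKerMap q)).trans (by rw [e])

include hbij hrel in
set_option maxHeartbeats 1000000 in
theorem T2pull_bijective_of_ringHom : Bijective (h.T2pull M) := by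
  constructor
  · refine (injective_iff_map_eq_zero _).mpr fun x hx => ?_
    obtain ⟨ψ, rfl⟩ := Submodule.Quotient.mk_surjective _ x
    obtain ⟨φ, hφ⟩ := (Submodule.Quotient.mk_eq_zero _).mp hx
    obtain ⟨φ', rfl⟩ := pull1_surjective h hrel M φ
    rw [← h.pull2_d2Star] at hφ
    exact (Submodule.Quotient.mk_eq_zero _).mpr ⟨φ', (pull2_bijective h hbij hrel M).1 hφ⟩
  · intro x
    obtain ⟨φ, rfl⟩ := Submodule.Quotient.mk_surjective _ x
    obtain ⟨ψ, rfl⟩ := (pull2_bijective h hbij hrel M).2 φ
    exact ⟨Submodule.Quotient.mk ψ, rfl⟩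

end Groth.Agent.H24Cot
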