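import Groth.Prelude.Def_CotT
import Groth.Prelude.Def_CotT2
import Mathlib.RingTheory.Extension.Cotangent.Basis
import Mathlib.LinearAlgebra.TensorProduct.RightExactness

/-!
Basic facts on the cotangent complex of a presentation: `L₂ → L₁ → I/I² → 0` is exact and `T⁰` is the
module of derivations.
-/

universe u v w t m

open TensorProduct

set_option linter.style.haveILetI false

namespace Groth.Agent.H24Cot

open CotT

variable {A : Type u} {B : Type v} {ι : Type w} {σ : Type t}
variable [CommRing A] [CommRing B] [Algebra A B] (P : Algebra.Presentation A B ι σ)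

theorem exists_jmap_eq {x : P.toExtension.Ring} (hx : algebraMap P.toExtension.Ring B x = 0) :
    ∃ f, jmap P f = x := by
  have h : x ∈ LinearMap.range (jmap P) := by rw [range_jmap]; exact hx
  exact h

theorem algebraMap_ring_surjective : Function.Surjective (algebraMap P.toExtension.Ring B) :=
  P.toExtension.algebraMap_surjective

theorem exists_one_tmul_eq {N : Type m} [AddCommGroup N] [Module P.toExtension.Ring N]
    (z : B ⊗[P.toExtension.Ring] N) : ∃ x, (1 : B) ⊗ₜ[P.toExtension.Ring] x = z :=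
  TensorProduct.mk_surjective P.toExtension.Ring N B (algebraMap_ring_surjective P) z

theorem one_tmul_smul {N : Type m} [AddCommGroup N] [Module P.toExtension.Ring N] (r : P.toExtension.Ring)
    (x : N) : (1 : B) ⊗ₜ[P.toExtension.Ring] (r • x) = algebraMap P.toExtension.Ring B r • ((1 : B) ⊗ₜ x) := by
  rw [TensorProduct.tmul_smul, algebraMap_smul]

theorem toCot_surjective : Function.Surjective (toCot P) := by
  intro x
  obtain ⟨⟨y, hy⟩, rfl⟩ := Algebra.Extension.Cotangent.mk_surjective x
  obtain ⟨f, hf⟩ := exists_jmap_eq P hy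
  refine ⟨1 ⊗ₜ f, ?_⟩
  rw [toCot_tmul, one_smul]
  exact congrArg _ (Subtype.ext hf)

theorem ker_toCot_le : LinearMap.ker (toCot P) ≤ LinearMap.range (d2 P) := by
  intro z hz
  obtain ⟨f, rfl⟩ := exists_one_tmul_eq P z
  rw [LinearMap.mem_ker, toCot_tmul, one_smul, Algebra.Extension.Cotangent.mk_eq_zero_iff, pow_two] at hz
  have key : ∀ x ∈ P.toExtension.ker * P.toExtension.ker,
      ∃ g, jmap P g = x ∧ (1 : B) ⊗ₜ[P.toExtension.Ring] g = 0 := by
    intro x hx
    refine Submodule.mul_induction_on hx (fun a ha b hb => ?_) ?_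
    · obtain ⟨g, hg⟩ := exists_jmap_eq P (x := b) hb
      refine ⟨a • g, by rw [map_smul, hg, smul_eq_mul], ?_⟩
      rw [one_tmul_smul, show algebraMap P.toExtension.Ring B a = 0 from ha, zero_smul]
    · rintro a b ⟨g, hg, hg'⟩ ⟨g', hh, hh'⟩
      exact ⟨g + g', by rw [map_add, hg, hh], by rw [TensorProduct.tmul_add, hg', hh', add_zero]⟩
  obtain ⟨g, hg, hg0⟩ := key _ hz
  refine ⟨Submodule.Quotient.mk (1 ⊗ₜ (⟨f - g, ?_⟩ : relKer P)), ?_⟩
  · change jmap P (f - g) = 0
    rw [map_sub, hg, jker_apply, sub_self]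
  · rw [d2_mk_tmul, TensorProduct.tmul_sub, hg0, sub_zero]

theorem exact_d2_toCot : Function.Exact (d2 P) (toCot P) := by
  intro z
  refine ⟨fun hz => ker_toCot_le P hz, ?_⟩
  rintro ⟨w, rfl⟩
  exact LinearMap.congr_fun (toCot_comp_d2 P) w

variable (M : Type m) [AddCommGroup M] [Module B M]

theorem exists_comp_toCot_eq {φ : L1 P →ₗ[B] M} (hφ : φ ∘ₗ d2 P = 0) : ∃ ψ, ψ ∘ₗ toCot P = φ := by
  have hle : LinearMap.ker (toCot P) ≤ LinearMap.ker φ := fun z hz => by
    obtain ⟨w, rfl⟩ := ker_toCot_le P hz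
    exact LinearMap.congr_fun hφ w
  refine ⟨(Submodule.liftQ _ φ hle).comp (LinearMap.quotKerEquivOfSurjective _ (toCot_surjective P)).symm.toLinearMap,
    LinearMap.ext fun z => ?_⟩
  rw [LinearMap.comp_apply, LinearMap.comp_apply, LinearEquiv.coe_coe,
    ← LinearMap.quotKerEquivOfSurjective_apply_mk (toCot P) (toCot_surjective P) z,
    LinearEquiv.symm_apply_apply, Submodule.liftQ_apply]

theorem ker_d1Star : LinearMap.ker (d1Star P M) = LinearMap.ker (LinearMap.lcomp B M P.toExtension.cotangentComplex) := by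
  ext φ
  simp only [LinearMap.mem_ker, d1Star_apply, LinearMap.lcomp_apply', d1, ← LinearMap.comp_assoc]
  refine ⟨fun h => ?_, fun h => by rw [h, LinearMap.zero_comp]⟩
  refine LinearMap.ext fun x => ?_
  obtain ⟨z, rfl⟩ := toCot_surjective P x
  exact LinearMap.congr_fun h z

theorem homToT1_surjective : Function.Surjective (homToT1 P M) := by
  intro x
  obtain ⟨⟨φ, hφ⟩, rfl⟩ := Submodule.Quotient.mk_surjective _ x
  obtain ⟨ψ, hψ⟩ := exists_comp_toCot_eq P M hφ
  exact ⟨ψ, congrArg Submodule.Quotient.mk (Subtype.ext hψ)⟩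

theorem ker_homToT1 :
    LinearMap.ker (homToT1 P M) = LinearMap.range (LinearMap.lcomp B M P.toExtension.cotangentComplex) := by
  ext φ
  rw [LinearMap.mem_ker]
  refine (Submodule.Quotient.mk_eq_zero _).trans ?_
  change φ ∘ₗ toCot P ∈ LinearMap.range (d1Star P M) ↔ _
  simp only [LinearMap.mem_range, d1Star_apply, LinearMap.lcomp_apply', d1, ← LinearMap.comp_assoc]
  refine exists_congr fun ψ => ⟨fun h => LinearMap.ext fun x => ?_, fun h => by rw [h]⟩
  obtain ⟨z, rfl⟩ := toCot_surjective P x
  exact LinearMap.congr_fun h z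

theorem derToT0_bijective [Module A M] [IsScalarTower A B M] : Function.Bijective (derToT0 P M) := by
  constructor
  · refine (injective_iff_map_eq_zero _).mpr fun D hD => Derivation.ext fun b => ?_
    obtain ⟨r, rfl⟩ := algebraMap_ring_surjective P b
    have h := derLift_tmul_D P M D 1 r
    rw [one_smul, ← derToT0_apply, hD] at h
    exact h.symm
  · rintro ⟨φ, hφ⟩
    rw [ker_d1Star, LinearMap.mem_ker, LinearMap.lcomp_apply'] at hφ
    have hle : LinearMap.ker P.toExtension.toKaehler ≤ LinearMap.ker φ := fun z hz => by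
      obtain ⟨y, rfl⟩ := (P.toExtension.exact_cotangentComplex_toKaehler z).mp hz
      exact LinearMap.congr_fun hφ y
    let χ : Ω[B⁄A] →ₗ[B] M := (Submodule.liftQ _ φ hle).comp
      (LinearMap.quotKerEquivOfSurjective _ P.toExtension.toKaehler_surjective).symm.toLinearMap
    have hχ : ∀ z, χ (P.toExtension.toKaehler z) = φ z := fun z => by
      simp only [χ, LinearMap.comp_apply, LinearEquiv.coe_coe]
      rw [← LinearMap.quotKerEquivOfSurjective_apply_mk _ P.toExtension.toKaehler_surjective z,
        LinearEquiv.symm_apply_apply, Submodule.liftQ_apply]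
    refine ⟨χ.compDer (KaehlerDifferential.D A B), Subtype.ext (P.cotangentSpaceBasis.ext fun i => ?_)⟩
    rw [derToT0_apply, derLift_basis]
    change χ (KaehlerDifferential.D A B (P.val i)) = φ _
    rw [← hχ]
    congr 1
    exact (Algebra.Generators.toKaehler_cotangentSpaceBasis (P := P.toGenerators) i).symm

end Groth.Agent.H24Cot
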