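import Groth.Agent.H24Cot.Compare

/-!
Composition of morphisms of presentations over composable squares.
-/

universe u v w t u' v' w' t' u'' v'' w'' t'' m

open TensorProduct CotT

set_option linter.style.haveILetI false

noncomputable section

namespace Groth.Agent.H24Cot

variable {A : Type u} {B : Type v} [CommRing A] [CommRing B] [Algebra A B]
variable {A' : Type u'} {B' : Type v'} [CommRing A'] [CommRing B'] [Algebra A' B']
variable {A'' : Type u''} {B'' : Type v''} [CommRing A''] [CommRing B''] [Algebra A'' B'']
variable [Algebra A A'] [Algebra B B'] [Algebra A B'] [IsScalarTower A A' B'] [IsScalarTower A B B']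
variable [Algebra A' A''] [Algebra B' B''] [Algebra A' B''] [IsScalarTower A' A'' B''] [IsScalarTower A' B' B'']
variable [Algebra A A''] [Algebra B B''] [Algebra A B''] [IsScalarTower A A'' B''] [IsScalarTower A B B'']
variable [IsScalarTower A A' A''] [IsScalarTower A A' B''] [IsScalarTower A B' B''] [IsScalarTower B B' B'']
variable {ι : Type w} {σ : Type t} {ι' : Type w'} {σ' : Type t'} {ι'' : Type w''} {σ'' : Type t''}
variable {P : Algebra.Presentation A B ι σ} {P' : Algebra.Presentation A' B' ι' σ'}
  {P'' : Algebra.Presentation A'' B'' ι'' σ''}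

theorem ringHom_comp2 (g : Algebra.Generators.Hom P.toGenerators P'.toGenerators)
    (f : Algebra.Generators.Hom P'.toGenerators P''.toGenerators) (x : P.toExtension.Ring) :
    (f.comp g).toExtensionHom.toRingHom x = f.toExtensionHom.toRingHom (g.toExtensionHom.toRingHom x) := by
  rw [Algebra.Generators.Hom.toExtensionHom_comp]
  rfl

/-- composite of morphisms of presentations over composable squares -/
def compHom2 (k : PresHom P' P'') (h : PresHom P P') : PresHom P P'' where
  hom := k.hom.comp h.hom
  relVal s := k.relModMap (h.relVal s)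
  jmap_relVal s := by rw [k.jmap_relModMap, h.jmap_relVal, ringHom_comp2]

theorem ringHom_compHom2 (k : PresHom P' P'') (h : PresHom P P') (x : P.toExtension.Ring) :
    (compHom2 k h).ringHom x = k.ringHom (h.ringHom x) :=
  ringHom_comp2 h.hom k.hom x

theorem relModMap_compHom2 (k : PresHom P' P'') (h : PresHom P P') (f : relMod P) :
    (compHom2 k h).relModMap f = k.relModMap (h.relModMap f) := by
  induction f using Finsupp.induction_linear with
  | zero => simp only [map_zero]
  | add f g hf hg => simp only [map_add, hf, hg]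
  | single s r =>
    rw [PresHom.relModMap_single, PresHom.relModMap_single, LinearMap.map_smulₛₗ, ringHom_compHom2]
    rfl

variable (M : Type m) [AddCommGroup M] [Module B M] [Module B' M] [Module B'' M]
variable [IsScalarTower B B' M] [IsScalarTower B B'' M] [IsScalarTower B' B'' M]

theorem T0pull_compHom2 (k : PresHom P' P'') (h : PresHom P P') (x : T0 P'' M) :
    (compHom2 k h).T0pull M x = h.T0pull M (k.T0pull M x) := by
  refine Subtype.ext (P.cotangentSpaceBasis.ext fun i => ?_)
  change (x : L0 P'' →ₗ[B''] M) ((compHom2 k h).L0map _) = (x : L0 P'' →ₗ[B''] M) (k.L0map (h.L0map _))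
  rw [← basis_eq, L0map_one_tmul_D, L0map_one_tmul_D, L0map_one_tmul_D, ringHom_compHom2]

theorem T1pull_compHom2 (k : PresHom P' P'') (h : PresHom P P') (x : T1 P'' M) :
    (compHom2 k h).T1pull M x = h.T1pull M (k.T1pull M x) := by
  obtain ⟨ψ, rfl⟩ := Submodule.Quotient.mk_surjective _ x
  refine congrArg Submodule.Quotient.mk (Subtype.ext (LinearMap.ext fun z => ?_))
  obtain ⟨f, rfl⟩ := exists_one_tmul_eq P z
  change (ψ : L1 P'' →ₗ[B''] M) ((compHom2 k h).L1map _) = (ψ : L1 P'' →ₗ[B''] M) (k.L1map (h.L1map _))
  rw [L1map_one_tmul, L1map_one_tmul, L1map_one_tmul, relModMap_compHom2]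

set_option maxHeartbeats 1000000 in
theorem T2pull_compHom2 (k : PresHom P' P'') (h : PresHom P P') (x : T2 P'' M) :
    (compHom2 k h).T2pull M x = h.T2pull M (k.T2pull M x) := by
  obtain ⟨ψ, rfl⟩ := Submodule.Quotient.mk_surjective _ x
  refine congrArg Submodule.Quotient.mk (LinearMap.ext fun z => ?_)
  obtain ⟨z, rfl⟩ := Submodule.Quotient.mk_surjective _ z
  obtain ⟨q, rfl⟩ := TensorProduct.mk_surjective P.toExtension.Ring (relKer P) B (algebraMap_ring_surjective P) z
  change ψ ((compHom2 k h).L2map (Submodule.Quotient.mk ((1 : B) ⊗ₜ q))) =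
    ψ (k.L2map (h.L2map (Submodule.Quotient.mk ((1 : B) ⊗ₜ q))))
  rw [L2map_one_tmul, L2map_one_tmul]
  have e : (compHom2 k h).relKerMap q = k.relKerMap (h.relKerMap q) :=
    Subtype.ext (relModMap_compHom2 k h (q : relMod P))
  rw [e]
  exact congrArg ψ (L2map_one_tmul k (h.relKerMap q)).symm

end Groth.Agent.H24Cot
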