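import Groth.Agent.H24Cot.Homotopy

/-!
Composition of morphisms of presentations; the `Tⁱ` do not depend on the presentation.
-/

universe u v w t w' t' w'' t'' m

open TensorProduct CotT

set_option linter.style.haveILetI false

noncomputable section

namespace Groth.Agent.H24Cot

variable {A : Type u} {B : Type v} [CommRing A] [CommRing B] [Algebra A B]
variable {ι : Type w} {σ : Type t} {ι' : Type w'} {σ' : Type t'} {ι'' : Type w''} {σ'' : Type t''}
variable {P : Algebra.Presentation A B ι σ} {P' : Algebra.Presentation A B ι' σ'}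
  {P'' : Algebra.Presentation A B ι'' σ''}

theorem ringHom_comp (g : Algebra.Generators.Hom P.toGenerators P'.toGenerators)
    (f : Algebra.Generators.Hom P'.toGenerators P''.toGenerators) (x : P.toExtension.Ring) :
    (f.comp g).toExtensionHom.toRingHom x = f.toExtensionHom.toRingHom (g.toExtensionHom.toRingHom x) := by
  rw [Algebra.Generators.Hom.toExtensionHom_comp]
  rfl

/-- composite of morphisms of presentations -/
def compHom (k : PresHom P' P'') (h : PresHom P P') : PresHom P P'' where
  hom := k.hom.comp h.hom
  relVal s := k.relModMap (h.relVal s)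
  jmap_relVal s := by rw [k.jmap_relModMap, h.jmap_relVal, ringHom_comp]

theorem ringHom_compHom (k : PresHom P' P'') (h : PresHom P P') (x : P.toExtension.Ring) :
    (compHom k h).ringHom x = k.ringHom (h.ringHom x) :=
  ringHom_comp h.hom k.hom x

theorem relModMap_compHom (k : PresHom P' P'') (h : PresHom P P') (f : relMod P) :
    (compHom k h).relModMap f = k.relModMap (h.relModMap f) := by
  induction f using Finsupp.induction_linear with
  | zero => simp only [map_zero]
  | add f g hf hg => simp only [map_add, hf, hg]
  | single s r =>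
    rw [PresHom.relModMap_single, PresHom.relModMap_single, LinearMap.map_smulₛₗ, ringHom_compHom]
    rfl

variable (M : Type m) [AddCommGroup M] [Module B M]

theorem algebraMap_self_apply (b : B) : algebraMap B B b = b := rfl

theorem pull1_compHom (k : PresHom P' P'') (h : PresHom P P') (ψ : L1 P'' →ₗ[B] M) :
    (compHom k h).pull1 M ψ = h.pull1 M (k.pull1 M ψ) := by
  refine LinearMap.ext fun z => ?_
  obtain ⟨f, rfl⟩ := exists_one_tmul_eq P z
  rw [PresHom.pull1_apply, PresHom.pull1_apply, PresHom.pull1_apply, L1map_one_tmul, L1map_one_tmul,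
    L1map_one_tmul, relModMap_compHom]

set_option maxHeartbeats 1000000 in
theorem pull2_compHom (k : PresHom P' P'') (h : PresHom P P') (ψ : L2 P'' →ₗ[B] M) :
    (compHom k h).pull2 M ψ = h.pull2 M (k.pull2 M ψ) := by
  refine LinearMap.ext fun z => ?_
  obtain ⟨z, rfl⟩ := Submodule.Quotient.mk_surjective _ z
  obtain ⟨q, rfl⟩ := TensorProduct.mk_surjective P.toExtension.Ring (relKer P) B (algebraMap_ring_surjective P) z
  rw [TensorProduct.mk_apply, PresHom.pull2_apply, PresHom.pull2_apply, PresHom.pull2_apply, L2map_one_tmul,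
    L2map_one_tmul]
  have e : (compHom k h).relKerMap q = k.relKerMap (h.relKerMap q) :=
    Subtype.ext (relModMap_compHom k h (q : relMod P))
  rw [e]
  exact congrArg ψ (L2map_one_tmul k (h.relKerMap q)).symm

theorem pull0_compHom (k : PresHom P' P'') (h : PresHom P P') (ψ : L0 P'' →ₗ[B] M) :
    (compHom k h).pull0 M ψ = h.pull0 M (k.pull0 M ψ) := by
  refine P.cotangentSpaceBasis.ext fun i => ?_
  rw [← basis_eq, PresHom.pull0_apply, PresHom.pull0_apply, PresHom.pull0_apply, L0map_one_tmul_D,
    L0map_one_tmul_D, L0map_one_tmul_D, ringHom_compHom]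

theorem T0pull_compHom (k : PresHom P' P'') (h : PresHom P P') (x : T0 P'' M) :
    (compHom k h).T0pull M x = h.T0pull M (k.T0pull M x) :=
  Subtype.ext (pull0_compHom M k h x)

theorem T1pull_compHom (k : PresHom P' P'') (h : PresHom P P') (x : T1 P'' M) :
    (compHom k h).T1pull M x = h.T1pull M (k.T1pull M x) := by
  obtain ⟨ψ, rfl⟩ := Submodule.Quotient.mk_surjective _ x
  exact congrArg Submodule.Quotient.mk (Subtype.ext (pull1_compHom M k h ψ))

theorem T2pull_compHom (k : PresHom P' P'') (h : PresHom P P') (x : T2 P'' M) :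
    (compHom k h).T2pull M x = h.T2pull M (k.T2pull M x) := by
  obtain ⟨ψ, rfl⟩ := Submodule.Quotient.mk_surjective _ x
  exact congrArg Submodule.Quotient.mk (pull2_compHom M k h ψ)

theorem relModMap_id (f : relMod P) : (PresHom.id P).relModMap f = f := by
  induction f using Finsupp.induction_linear with
  | zero => simp only [map_zero]
  | add f g hf hg => simp only [map_add, hf, hg]
  | single s r =>
    rw [PresHom.relModMap_single, show (PresHom.id P).relVal s = Finsupp.single s 1 from rfl,
      Finsupp.smul_single', mul_one]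
    congr 1
    change (Algebra.Generators.Hom.id P.toGenerators).toExtensionHom.toRingHom r = r
    rw [Algebra.Generators.Hom.toExtensionHom_id]
    rfl

theorem T0pull_id (x : T0 P M) : (PresHom.id P).T0pull M x = x := by
  refine Subtype.ext (P.cotangentSpaceBasis.ext fun i => ?_)
  change (x : L0 P →ₗ[B] M) ((PresHom.id P).L0map _) = (x : L0 P →ₗ[B] M) _
  rw [← basis_eq, L0map_one_tmul_D]
  congr 4
  change (Algebra.Generators.Hom.id P.toGenerators).toExtensionHom.toRingHom _ = _
  rw [Algebra.Generators.Hom.toExtensionHom_id]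
  rfl

theorem T1pull_id (x : T1 P M) : (PresHom.id P).T1pull M x = x := by
  obtain ⟨ψ, rfl⟩ := Submodule.Quotient.mk_surjective _ x
  refine congrArg Submodule.Quotient.mk (Subtype.ext (LinearMap.ext fun z => ?_))
  obtain ⟨f, rfl⟩ := exists_one_tmul_eq P z
  change (ψ : L1 P →ₗ[B] M) _ = _
  rw [L1map_one_tmul, relModMap_id]

set_option maxHeartbeats 1000000 in
theorem T2pull_id (x : T2 P M) : (PresHom.id P).T2pull M x = x := by
  obtain ⟨ψ, rfl⟩ := Submodule.Quotient.mk_surjective _ x
  refine congrArg Submodule.Quotient.mk (LinearMap.ext fun z => ?_)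
  obtain ⟨z, rfl⟩ := Submodule.Quotient.mk_surjective _ z
  obtain ⟨q, rfl⟩ := TensorProduct.mk_surjective P.toExtension.Ring (relKer P) B (algebraMap_ring_surjective P) z
  rw [TensorProduct.mk_apply, PresHom.pull2_apply, L2map_one_tmul,
    show (PresHom.id P).relKerMap q = q from Subtype.ext (relModMap_id (q : relMod P))]
  rfl

variable (P P') in
theorem exists_relVal (s : σ) : ∃ f, jmap P' f = (Algebra.Generators.defaultHom P.toGenerators
    P'.toGenerators).toExtensionHom.toRingHom (rel P s) :=
  exists_jmap_eq P' (by rw [Algebra.Extension.Hom.algebraMap_toRingHom, algebraMap_rel, map_zero])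

variable (P P') in
/-- A morphism of presentations of the same algebra. -/
def someHom : PresHom P P' where
  hom := Algebra.Generators.defaultHom _ _
  relVal s := (exists_relVal P P' s).choose
  jmap_relVal s := (exists_relVal P P' s).choose_spec

variable (P P') in
/-- `T⁰` is independent of the presentation. -/
def T0equiv : T0 P' M ≃ₗ[B] T0 P M :=
  LinearEquiv.ofLinear ((someHom P P').T0pull M) ((someHom P' P).T0pull M)
    (LinearMap.ext fun x => by
      rw [LinearMap.comp_apply, ← T0pull_compHom, T0pull_eq _ (PresHom.id P) M, T0pull_id]; rfl)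
    (LinearMap.ext fun x => by
      rw [LinearMap.comp_apply, ← T0pull_compHom, T0pull_eq _ (PresHom.id P') M, T0pull_id]; rfl)

variable (P P') in
/-- `T¹` is independent of the presentation. -/
def T1equiv : T1 P' M ≃ₗ[B] T1 P M :=
  LinearEquiv.ofLinear ((someHom P P').T1pull M) ((someHom P' P).T1pull M)
    (LinearMap.ext fun x => by
      rw [LinearMap.comp_apply, ← T1pull_compHom, T1pull_eq _ (PresHom.id P) M, T1pull_id]; rfl)
    (LinearMap.ext fun x => by
      rw [LinearMap.comp_apply, ← T1pull_compHom, T1pull_eq _ (PresHom.id P') M, T1pull_id]; rfl)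

variable (P P') in
set_option maxHeartbeats 1000000 in
/-- `T²` is independent of the presentation. -/
def T2equiv : T2 P' M ≃ₗ[B] T2 P M :=
  LinearEquiv.ofLinear ((someHom P P').T2pull M) ((someHom P' P).T2pull M)
    (LinearMap.ext fun x => by
      rw [LinearMap.comp_apply, ← T2pull_compHom, T2pull_eq _ (PresHom.id P) M, T2pull_id]; rfl)
    (LinearMap.ext fun x => by
      rw [LinearMap.comp_apply, ← T2pull_compHom, T2pull_eq _ (PresHom.id P') M, T2pull_id]; rfl)

theorem T1pull_bijective (h : PresHom P P') : Function.Bijective (h.T1pull M) := by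
  rw [T1pull_eq h (someHom P P') M]
  exact (T1equiv P P' M).bijective

theorem T2pull_bijective (h : PresHom P P') : Function.Bijective (h.T2pull M) := by
  rw [T2pull_eq h (someHom P P') M]
  exact (T2equiv P P' M).bijective

end Groth.Agent.H24Cot
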