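import Groth.Agent.H24Cot.SqZero

/-!
Square-zero extensions and extensions of `Ω`.
-/

universe u

open TensorProduct Algebra KaehlerDifferential

set_option linter.style.haveILetI false

noncomputable section

namespace Groth.Agent.H24Cot

variable {A B : Type u} [CommRing A] [CommRing B] [Algebra A B]

theorem mul_eq_zero_of_sq (P : Algebra.Extension.{u} A B) (hsq : P.ker ^ 2 = ⊥) {a b : P.Ring}
    (ha : a ∈ P.ker) (hb : b ∈ P.ker) : a * b = 0 := by
  have : a * b ∈ P.ker ^ 2 := by rw [pow_two]; exact Ideal.mul_mem_mul ha hb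
  rwa [hsq, Ideal.mem_bot] at this

theorem cotangentMk_injective (P : Algebra.Extension.{u} A B) (hsq : P.ker ^ 2 = ⊥) :
    Function.Injective (Extension.Cotangent.mk (P := P)) := by
  rw [injective_iff_map_eq_zero]
  intro x hx
  have h := (Extension.Cotangent.mk_eq_zero_iff x).mp hx
  rw [hsq, Ideal.mem_bot] at h
  exact Subtype.ext h

theorem toKaehler_tmul_D (P : Algebra.Extension.{u} A B) (r : P.Ring) :
    P.toKaehler ((1 : B) ⊗ₜ KaehlerDifferential.D A P.Ring r) = KaehlerDifferential.D A B (algebraMap P.Ring B r) := by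
  change KaehlerDifferential.mapBaseChange A P.Ring B _ = _
  rw [KaehlerDifferential.mapBaseChange_tmul, one_smul, KaehlerDifferential.map_D]

/-- With injective conormal maps, isomorphic conormal sequences come from an isomorphism of extensions. -/
theorem exists_hom_of_sequences (P P' : Algebra.Extension.{u} A B) (hsq : P.ker ^ 2 = ⊥) (hsq' : P'.ker ^ 2 = ⊥)
    (hinj : Function.Injective P.cotangentComplex) (hinj' : Function.Injective P'.cotangentComplex)
    (e₁ : P.Cotangent ≃ₗ[B] P'.Cotangent) (e₂ : P.CotangentSpace ≃ₗ[B] P'.CotangentSpace)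
    (h₁ : ∀ x, e₂ (P.cotangentComplex x) = P'.cotangentComplex (e₁ x))
    (h₂ : ∀ y, P'.toKaehler (e₂ y) = P.toKaehler y) :
    ∃ f : P.Hom P', Function.Bijective f.toRingHom ∧ Extension.Cotangent.map f = e₁.toLinearMap := by
  let d : P.Ring → P.CotangentSpace := fun r => (1 : B) ⊗ₜ KaehlerDifferential.D A P.Ring r
  let d' : P'.Ring → P'.CotangentSpace := fun r => (1 : B) ⊗ₜ KaehlerDifferential.D A P'.Ring r
  have hd'add : ∀ y z, d' (y + z) = d' y + d' z := fun y z => by
    simp only [d', Derivation.map_add, TensorProduct.tmul_add]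
  have hd'mul : ∀ y z, d' (y * z) = algebraMap P'.Ring B y • d' z + algebraMap P'.Ring B z • d' y := fun y z => by
    simp only [d', Derivation.leibniz, TensorProduct.tmul_add, tmul_smul_D]
  have hdadd : ∀ y z, d (y + z) = d y + d z := fun y z => by
    simp only [d, Derivation.map_add, TensorProduct.tmul_add]
  have hdmul : ∀ y z, d (y * z) = algebraMap P.Ring B y • d z + algebraMap P.Ring B z • d y := fun y z => by
    simp only [d, Derivation.leibniz, TensorProduct.tmul_add, tmul_smul_D]
  have uniq : ∀ y z : P'.Ring, algebraMap P'.Ring B y = algebraMap P'.Ring B z → d' y = d' z → y = z := by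
    intro y z hb hd
    have hm : y - z ∈ P'.ker := by change algebraMap P'.Ring B (y - z) = 0; rw [map_sub, hb, sub_self]
    have h0 : P'.cotangentComplex (Extension.Cotangent.mk ⟨y - z, hm⟩) = 0 := by
      rw [Extension.cotangentComplex_mk]
      change d' (y - z) = 0
      have h2 : d' (y - z) + d' z = d' y := by rw [← hd'add, sub_add_cancel]
      rw [hd] at h2
      exact add_eq_right.mp h2
    have := cotangentMk_injective P' hsq' ((hinj' (h0.trans (map_zero _).symm)).trans (map_zero _).symm)
    exact sub_eq_zero.mp (congrArg Subtype.val this)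
  have ex : ∀ r : P.Ring, ∃ y : P'.Ring, algebraMap P'.Ring B y = algebraMap P.Ring B r ∧ d' y = e₂ (d r) := by
    intro r
    obtain ⟨y₀, hy₀⟩ := P'.algebraMap_surjective (algebraMap P.Ring B r)
    have h0 : P'.toKaehler (e₂ (d r) - d' y₀) = 0 := by
      rw [map_sub, h₂, toKaehler_tmul_D, toKaehler_tmul_D, hy₀, sub_self]
    obtain ⟨c, hc⟩ := (P'.exact_cotangentComplex_toKaehler _).mp h0
    obtain ⟨⟨a, ha⟩, rfl⟩ := Extension.Cotangent.mk_surjective c
    rw [Extension.cotangentComplex_mk] at hc
    refine ⟨y₀ + a, ?_, ?_⟩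
    · rw [map_add, (ha : algebraMap P'.Ring B a = 0), add_zero, hy₀]
    · rw [hd'add, show d' a = e₂ (d r) - d' y₀ from hc, add_sub_cancel]
  choose F hFb hFd using ex
  let f : P.Hom P' :=
    { toRingHom :=
        { toFun := F
          map_one' := uniq _ _ (by rw [hFb, map_one, map_one]) (by
            rw [hFd]; simp [d, d'])
          map_mul' := fun x y => uniq _ _ (by rw [hFb, map_mul, map_mul, hFb, hFb]) (by
            rw [hFd, hd'mul, hFd, hFd, hFb, hFb, hdmul, map_add, map_smul, map_smul])
          map_zero' := uniq _ _ (by rw [hFb, map_zero, map_zero]) (by rw [hFd]; simp [d, d'])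
          map_add' := fun x y => uniq _ _ (by rw [hFb, map_add, map_add, hFb, hFb]) (by
            rw [hFd, hd'add, hFd, hFd, hdadd, map_add]) }
      toRingHom_algebraMap := fun a => uniq _ _
        (by change algebraMap P'.Ring B (F (algebraMap A P.Ring a)) = _
            rw [hFb, ← IsScalarTower.algebraMap_apply, ← IsScalarTower.algebraMap_apply]
            rfl)
        (by change d' (F (algebraMap A P.Ring a)) = _
            rw [hFd]
            simp [d, d', Algebra.algebraMap_self])
      algebraMap_toRingHom := fun r => hFb r }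
  have hmap : ∀ x, Extension.Cotangent.map f x = e₁ x := fun x => hinj' (by
    obtain ⟨⟨a, ha⟩, rfl⟩ := Extension.Cotangent.mk_surjective x
    rw [Extension.Cotangent.map_mk, ← h₁, Extension.cotangentComplex_mk, Extension.cotangentComplex_mk]
    exact hFd a)
  refine ⟨f, ⟨(injective_iff_map_eq_zero _).mpr fun r hr => ?_, fun y => ?_⟩, LinearMap.ext hmap⟩
  · have hr' : F r = 0 := hr
    have hb : r ∈ P.ker := by
      change algebraMap P.Ring B r = 0
      rw [← hFb, hr', map_zero]
    have h0 : e₂ (d r) = 0 := by rw [← hFd, hr']; simp [d']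
    have h1 : P.cotangentComplex (Extension.Cotangent.mk ⟨r, hb⟩) = 0 := by
      rw [Extension.cotangentComplex_mk]
      exact e₂.injective (h0.trans (map_zero e₂).symm)
    exact congrArg Subtype.val (cotangentMk_injective P hsq ((hinj (h1.trans (map_zero _).symm)).trans (map_zero _).symm))
  · obtain ⟨r, hr⟩ := P.algebraMap_surjective (algebraMap P'.Ring B y)
    have hm : y - F r ∈ P'.ker := by change algebraMap P'.Ring B (y - F r) = 0; rw [map_sub, hFb, hr, sub_self]
    obtain ⟨x, hx⟩ := e₁.surjective (Extension.Cotangent.mk ⟨y - F r, hm⟩)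
    obtain ⟨⟨a, ha⟩, rfl⟩ := Extension.Cotangent.mk_surjective x
    rw [← hmap, Extension.Cotangent.map_mk] at hx
    have h3 : F a = y - F r := congrArg Subtype.val (cotangentMk_injective P' hsq' hx)
    refine ⟨r + a, ?_⟩
    rw [map_add]
    change F r + F a = y
    rw [h3, add_sub_cancel]

section Realize

variable {M N : Type u} [AddCommGroup M] [Module B M] [AddCommGroup N] [Module B N]

/-- Pairs `(b, n)` with `q n = db`. -/
def Realize (q : N →ₗ[B] Ω[B⁄A]) : Type u := {x : B × N // q x.2 = KaehlerDifferential.D A B x.1}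

namespace Realize

variable {q : N →ₗ[B] Ω[B⁄A]}

instance : Zero (Realize q) := ⟨⟨(0, 0), by simp⟩⟩
instance : One (Realize q) := ⟨⟨(1, 0), by simp⟩⟩
instance : Add (Realize q) := ⟨fun x y => ⟨(x.1.1 + y.1.1, x.1.2 + y.1.2), by
  rw [map_add, x.2, y.2, Derivation.map_add]⟩⟩
instance : Neg (Realize q) := ⟨fun x => ⟨(-x.1.1, -x.1.2), by rw [map_neg, x.2, Derivation.map_neg]⟩⟩
instance : Mul (Realize q) := ⟨fun x y => ⟨(x.1.1 * y.1.1, x.1.1 • y.1.2 + y.1.1 • x.1.2), by
  rw [map_add, map_smul, map_smul, x.2, y.2, Derivation.leibniz]⟩⟩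

theorem ext' {x y : Realize q} (h1 : x.1.1 = y.1.1) (h2 : x.1.2 = y.1.2) : x = y := Subtype.ext (Prod.ext h1 h2)

@[simp] theorem zero_fst : (0 : Realize q).1.1 = 0 := rfl
@[simp] theorem zero_snd : (0 : Realize q).1.2 = 0 := rfl
@[simp] theorem one_fst : (1 : Realize q).1.1 = 1 := rfl
@[simp] theorem one_snd : (1 : Realize q).1.2 = 0 := rfl
@[simp] theorem add_fst (x y : Realize q) : (x + y).1.1 = x.1.1 + y.1.1 := rfl
@[simp] theorem add_snd (x y : Realize q) : (x + y).1.2 = x.1.2 + y.1.2 := rfl
@[simp] theorem neg_fst (x : Realize q) : (-x).1.1 = -x.1.1 := rfl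
@[simp] theorem neg_snd (x : Realize q) : (-x).1.2 = -x.1.2 := rfl
@[simp] theorem mul_fst (x y : Realize q) : (x * y).1.1 = x.1.1 * y.1.1 := rfl
@[simp] theorem mul_snd (x y : Realize q) : (x * y).1.2 = x.1.1 • y.1.2 + y.1.1 • x.1.2 := rfl

instance : CommRing (Realize q) where
  add_assoc x y z := ext' (add_assoc _ _ _) (add_assoc _ _ _)
  zero_add x := ext' (zero_add _) (zero_add _)
  add_zero x := ext' (add_zero _) (add_zero _)
  add_comm x y := ext' (add_comm _ _) (add_comm _ _)
  neg_add_cancel x := ext' (neg_add_cancel _) (neg_add_cancel _)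
  nsmul := nsmulRec
  zsmul := zsmulRec
  left_distrib x y z := ext' (mul_add _ _ _) (by simp only [mul_snd, add_fst, add_snd]; module)
  right_distrib x y z := ext' (add_mul _ _ _) (by simp only [mul_snd, add_fst, add_snd]; module)
  zero_mul x := ext' (zero_mul _) (by simp)
  mul_zero x := ext' (mul_zero _) (by simp)
  mul_assoc x y z := ext' (mul_assoc _ _ _) (by simp only [mul_snd, mul_fst]; module)
  one_mul x := ext' (one_mul _) (by simp)
  mul_one x := ext' (mul_one _) (by simp)
  mul_comm x y := ext' (mul_comm _ _) (by simp only [mul_snd]; abel)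

/-- The first projection. -/
def fstHom (q : N →ₗ[B] Ω[B⁄A]) : Realize q →+* B where
  toFun x := x.1.1
  map_one' := rfl
  map_mul' _ _ := rfl
  map_zero' := rfl
  map_add' _ _ := rfl

/-- The structure map. -/
def ofBase (q : N →ₗ[B] Ω[B⁄A]) : A →+* Realize q where
  toFun a := ⟨(algebraMap A B a, 0), by simp⟩
  map_one' := ext' (map_one _) rfl
  map_mul' a b := ext' (map_mul _ _ _) (by simp)
  map_zero' := ext' (map_zero _) rfl
  map_add' a b := ext' (map_add _ _ _) (by simp)

instance : Algebra A (Realize q) := (ofBase q).toAlgebra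

instance : Algebra (Realize q) B := (fstHom q).toAlgebra

instance : IsScalarTower A (Realize q) B := IsScalarTower.of_algebraMap_eq fun _ => rfl

/-- The extension. -/
def toExtension (hq : Function.Surjective q) : Algebra.Extension.{u} A B :=
  Extension.ofSurjective (IsScalarTower.toAlgHom A (Realize q) B) fun b => by
    obtain ⟨n, hn⟩ := hq (KaehlerDifferential.D A B b)
    exact ⟨⟨(b, n), hn⟩, rfl⟩

theorem toExtension_algebraMap (hq : Function.Surjective q) (x : (toExtension hq).Ring) :
    algebraMap (toExtension hq).Ring B x = (show Realize q from x).1.1 := rfl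

theorem toExtension_algebraMap_base (hq : Function.Surjective q) (a : A) :
    (show Realize q from algebraMap A (toExtension hq).Ring a).1.2 = 0 := rfl

theorem toExtension_ker_sq (hq : Function.Surjective q) : (toExtension hq).ker ^ 2 = ⊥ := by
  rw [pow_two, ← le_bot_iff, Ideal.mul_le]
  intro a ha b hb
  refine (Submodule.mem_bot _).mpr (ext' (q := q) (x := (show Realize q from a) * (show Realize q from b)) ?_ ?_)
  · rw [mul_fst, ← toExtension_algebraMap hq a, (ha : algebraMap (toExtension hq).Ring B a = 0), zero_mul]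
    rfl
  · rw [mul_snd, ← toExtension_algebraMap hq a, ← toExtension_algebraMap hq b,
      (ha : algebraMap (toExtension hq).Ring B a = 0), (hb : algebraMap (toExtension hq).Ring B b = 0), zero_smul,
      zero_smul, add_zero]
    rfl

/-- The derivation `(b, n) ↦ n`. -/
theorem exists_cotangentSpaceMap (hq : Function.Surjective q) :
    ∃ g : (toExtension hq).CotangentSpace →ₗ[B] N, ∀ x : (toExtension hq).Ring,
      g ((1 : B) ⊗ₜ KaehlerDifferential.D A (toExtension hq).Ring x) = (show Realize q from x).1.2 := by
  let E := (toExtension hq).Ring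
  letI : Module E N := Module.compHom N (algebraMap E B)
  haveI : IsScalarTower E B N := IsScalarTower.of_compHom _ _ _
  letI : Module A N := Module.compHom N (algebraMap A B)
  haveI : IsScalarTower A B N := IsScalarTower.of_compHom _ _ _
  haveI : IsScalarTower A E N := ⟨fun c r w => by
    change algebraMap E B (c • r) • w = algebraMap A B c • algebraMap E B r • w
    rw [Algebra.smul_def, map_mul, mul_smul, ← IsScalarTower.algebraMap_apply]⟩
  let Dv : Derivation A E N :=
    Derivation.mk'
      { toFun := fun x => (show Realize q from x).1.2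
        map_add' := fun x y => rfl
        map_smul' := fun c x => by
          change (show Realize q from c • x).1.2 = algebraMap A B c • (show Realize q from x).1.2
          rw [Algebra.smul_def]
          change algebraMap A B c • (show Realize q from x).1.2 + (show Realize q from x).1.1 • (0 : N) = _
          rw [smul_zero, add_zero] }
      fun x y => rfl
  exact ⟨LinearMap.liftBaseChange B Dv.liftKaehlerDifferential, fun x => by
    rw [LinearMap.liftBaseChange_tmul, one_smul, Derivation.liftKaehlerDifferential_comp_D]; rfl⟩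

theorem realize (i : M →ₗ[B] N) (hi : Function.Injective i) (hq : Function.Surjective q) (hex : Function.Exact i q) :
    ∃ P : Algebra.Extension.{u} A B, P.ker ^ 2 = ⊥ ∧
      ∃ (e₁ : P.Cotangent ≃ₗ[B] M) (e₂ : P.CotangentSpace ≃ₗ[B] N),
        (∀ x, e₂ (P.cotangentComplex x) = i (e₁ x)) ∧ (∀ y, q (e₂ y) = P.toKaehler y) := by
  let P := toExtension hq
  obtain ⟨g, hg⟩ := exists_cotangentSpaceMap hq
  let j : M → P.ker := fun m => ⟨(show P.Ring from (⟨(0, i m), by simp [hex.apply_apply_eq_zero]⟩ : Realize q)),
    show algebraMap P.Ring B _ = 0 from rfl⟩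
  have hj : ∀ r : P.Ring, ∀ m, algebraMap P.Ring B r • Extension.Cotangent.mk (j m) =
      Extension.Cotangent.mk (j (algebraMap P.Ring B r • m)) := fun r m => by
    rw [algebraMap_smul, ← map_smul]
    congr 1
    refine Subtype.ext (ext' (q := q) (x := (show Realize q from r) * _) ?_ ?_)
    · exact mul_zero _
    · change (show Realize q from r).1.1 • i m + (0 : B) • _ = i (_ • m)
      rw [zero_smul, add_zero, map_smul]
      rfl
  let J : M →ₗ[B] P.Cotangent :=
    { toFun := fun m => Extension.Cotangent.mk (j m)
      map_add' := fun a b => by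
        rw [← map_add]
        congr 1
        refine Subtype.ext (ext' (q := q) ?_ ?_)
        · exact (add_zero (0 : B)).symm
        · exact map_add i a b
      map_smul' := fun b m => by
        obtain ⟨r, rfl⟩ := P.algebraMap_surjective b
        exact (hj r m).symm }
  have hJ : Function.Bijective J := by
    refine ⟨fun a b h => hi ?_, fun x => ?_⟩
    · have h0 := congrArg Subtype.val (cotangentMk_injective P (toExtension_ker_sq hq) h)
      exact congrArg (fun w : Realize q => w.1.2) h0
    · obtain ⟨⟨a, ha⟩, rfl⟩ := Extension.Cotangent.mk_surjective x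
      have h1 : (show Realize q from a).1.1 = 0 := ha
      obtain ⟨m, hm⟩ := (hex _).mp (show q (show Realize q from a).1.2 = 0 by
        rw [(show Realize q from a).2, h1, map_zero])
      exact ⟨m, congrArg Extension.Cotangent.mk (Subtype.ext (ext' (q := q) h1.symm hm))⟩
  let e₁ := (LinearEquiv.ofBijective J hJ).symm
  have hcc : ∀ x, g (P.cotangentComplex x) = i (e₁ x) := fun x => by
    obtain ⟨m, rfl⟩ := hJ.2 x
    rw [show e₁ (J m) = m from LinearEquiv.ofBijective_symm_apply_apply J m]
    change g (P.cotangentComplex (Extension.Cotangent.mk (j m))) = i m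
    rw [Extension.cotangentComplex_mk]
    exact hg _
  have hK : ∀ y, q (g y) = P.toKaehler y := fun y => by
    induction y using TensorProduct.induction_on with
    | zero => simp only [map_zero]
    | add x y hx hy => rw [map_add, map_add, map_add, hx, hy]
    | tmul b z =>
      have hz : z ∈ Submodule.span P.Ring (Set.range (KaehlerDifferential.D A P.Ring)) := by
        rw [KaehlerDifferential.span_range_derivation]; trivial
      induction hz using Submodule.span_induction generalizing b with
      | mem z hz =>
        obtain ⟨r, rfl⟩ := hz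
        rw [show b ⊗ₜ[P.Ring] KaehlerDifferential.D A P.Ring r = b • ((1 : B) ⊗ₜ[P.Ring] KaehlerDifferential.D A P.Ring r)
          by rw [TensorProduct.smul_tmul', smul_eq_mul, mul_one], map_smul, map_smul, map_smul, hg, toKaehler_tmul_D]
        exact congrArg (b • ·) (show Realize q from r).2
      | zero => simp only [TensorProduct.tmul_zero, map_zero]
      | add x y _ _ hx hy => rw [TensorProduct.tmul_add, map_add, map_add, map_add, hx, hy]
      | smul r x _ hx => rw [← TensorProduct.smul_tmul]; exact hx _
  have hbij : Function.Bijective g := by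
    refine ⟨(injective_iff_map_eq_zero g).mpr fun y hy => ?_, fun n => ?_⟩
    · obtain ⟨x, rfl⟩ := (P.exact_cotangentComplex_toKaehler y).mp (by rw [← hK, hy, map_zero])
      rw [hcc] at hy
      rw [e₁.injective ((hi (hy.trans (map_zero i).symm)).trans (map_zero e₁).symm), map_zero]
    · obtain ⟨y, hy⟩ := P.toKaehler_surjective (q n)
      obtain ⟨m, hm⟩ := (hex _).mp (show q (n - g y) = 0 by rw [map_sub, hK, hy, sub_self])
      exact ⟨y + P.cotangentComplex (e₁.symm m), by
        rw [map_add, hcc, LinearEquiv.apply_symm_apply, hm, add_sub_cancel]⟩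
  exact ⟨P, toExtension_ker_sq hq, e₁, LinearEquiv.ofBijective g hbij, hcc, hK⟩

end Realize

end Realize

end Groth.Agent.H24Cot
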