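import Groth.Agent.H24Cot.Homotopy
import Groth.Prelude.Def_Exal
import Mathlib.RingTheory.Ideal.Quotient.Operations

/-!
Extensions of `B` by `M` are classified by `T¹`.
-/

universe u

open TensorProduct CotT

set_option linter.style.haveILetI false

noncomputable section

namespace Groth.Agent.H24Cot

variable {A B M : Type u} [CommRing A] [CommRing B] [Algebra A B] [AddCommGroup M] [Module B M]
variable {ι σ : Type u} (P : Algebra.Presentation A B ι σ)


/-- `φ` is the class of the extension `X`. -/
def Classifies (X : Exal.Ext A B M) (φ : P.toExtension.Cotangent →ₗ[B] M) : Prop :=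
  ∃ ρ : P.toExtension.Ring →ₐ[A] X.E, (∀ r, X.proj (ρ r) = algebraMap P.toExtension.Ring B r) ∧
    ∀ x : P.toExtension.ker, ρ x = X.incl (φ (Algebra.Extension.Cotangent.mk x))

theorem incl_mul_incl (X : Exal.Ext A B M) (a b : M) : X.incl a * X.incl b = 0 := by
  rw [X.isExtension.mul_incl, (X.isExtension.exact _).mpr ⟨a, rfl⟩, zero_smul, map_zero]

theorem cotMk_smul (r : P.toExtension.Ring) (x : P.toExtension.ker) :
    Algebra.Extension.Cotangent.mk (r • x) =
      algebraMap P.toExtension.Ring B r • Algebra.Extension.Cotangent.mk x := by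
  rw [map_smul, algebraMap_smul]

theorem exists_aeval {E : Type u} [CommRing E] [Algebra A E] (p : E →ₐ[A] B) (hp : Function.Surjective p) :
    ∃ ρ : P.toExtension.Ring →ₐ[A] E, ∀ r, p (ρ r) = algebraMap P.toExtension.Ring B r := by
  let v := fun i => (hp (P.val i)).choose
  let ρ : P.toExtension.Ring →ₐ[A] E := MvPolynomial.aeval v
  refine ⟨ρ, fun r => RingHom.congr_fun (?_ : (p : E →+* B).comp (ρ : P.toExtension.Ring →+* E) =
    algebraMap P.toExtension.Ring B) r⟩
  refine ring_hom_ext (fun a => ?_) fun i => ?_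
  · change p (ρ (Cv P a)) = algebraMap P.toExtension.Ring B (Cv P a)
    rw [show Cv P a = algebraMap A P.toExtension.Ring a from rfl, AlgHom.commutes, AlgHom.commutes,
      ← IsScalarTower.algebraMap_apply]
  · change p (MvPolynomial.aeval v (MvPolynomial.X i)) = algebraMap P.toExtension.Ring B (Xv P i)
    rw [MvPolynomial.aeval_X]
    exact ((hp (P.val i)).choose_spec).trans ((algebraMap_toExtension P _).trans (MvPolynomial.aeval_X _ i)).symm

theorem exists_classifies (X : Exal.Ext A B M) : ∃ φ, Classifies P X φ := by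
  obtain ⟨ρ, hρ⟩ := exists_aeval P X.proj X.isExtension.proj_surjective
  have hI : ∀ x : P.toExtension.ker, X.proj (ρ x) = 0 := fun x => (hρ x).trans x.2
  let F : P.toExtension.ker → M := fun x => X.kerLift _ (hI x)
  have hF : ∀ x : P.toExtension.ker, X.incl (F x) = ρ x := fun x => X.incl_kerLift _ (hI x)
  have hFadd : ∀ x y, F (x + y) = F x + F y := fun x y => X.isExtension.incl_injective (by
    rw [map_add, hF, hF, hF, Submodule.coe_add, map_add])
  have hFsmul : ∀ (r : P.toExtension.Ring) (x : P.toExtension.ker),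
      F (r • x) = algebraMap P.toExtension.Ring B r • F x := fun r x => X.isExtension.incl_injective (by
    rw [← hρ, ← X.isExtension.mul_incl, hF, hF, Submodule.coe_smul, smul_eq_mul, map_mul])
  have hF2 : ∀ x : P.toExtension.ker, (x : P.toExtension.Ring) ∈ P.toExtension.ker ^ 2 → F x = 0 := by
    intro x hx
    refine X.isExtension.incl_injective ?_
    rw [map_zero, hF]
    rw [pow_two] at hx
    refine Submodule.mul_induction_on (C := fun z => ρ z = 0) hx (fun a ha b hb => ?_) fun a b ha hb => ?_
    · rw [map_mul, ← hF ⟨a, ha⟩, ← hF ⟨b, hb⟩, incl_mul_incl]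
    · rw [map_add, ha, hb, add_zero]
  let sec := Function.surjInv (Algebra.Extension.Cotangent.mk_surjective (P := P.toExtension))
  have hsec : ∀ x, F (sec (Algebra.Extension.Cotangent.mk x)) = F x := fun x => by
    have h : Algebra.Extension.Cotangent.mk (sec (Algebra.Extension.Cotangent.mk x) - x) = 0 := by
      rw [map_sub, Function.surjInv_eq Algebra.Extension.Cotangent.mk_surjective, sub_self]
    have h0 := hF2 _ ((Algebra.Extension.Cotangent.mk_eq_zero_iff _).mp h)
    have h1 := hFadd (sec (Algebra.Extension.Cotangent.mk x) - x) x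
    rw [sub_add_cancel, h0, zero_add] at h1
    exact h1
  let φ : P.toExtension.Cotangent →ₗ[B] M :=
    { toFun := fun z => F (sec z)
      map_add' := fun a b => by
        obtain ⟨x, rfl⟩ := Algebra.Extension.Cotangent.mk_surjective a
        obtain ⟨y, rfl⟩ := Algebra.Extension.Cotangent.mk_surjective b
        rw [← map_add, hsec, hsec, hsec, hFadd]
      map_smul' := fun b a => by
        obtain ⟨x, rfl⟩ := Algebra.Extension.Cotangent.mk_surjective a
        obtain ⟨r, rfl⟩ := algebraMap_ring_surjective P b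
        rw [← cotMk_smul, hsec, hsec, hFsmul, RingHom.id_apply] }
  exact ⟨φ, ρ, hρ, fun x => ((congrArg X.incl (hsec x)).trans (hF x)).symm⟩

theorem classifies_add {X : Exal.Ext A B M} {φ} (h : Classifies P X φ) (χ : L0 P →ₗ[B] M) :
    Classifies P X (φ + χ ∘ₗ P.toExtension.cotangentComplex) := by
  obtain ⟨ρ, hρ, hφ⟩ := h
  let D : P.toExtension.Ring → M := fun r => χ ((1 : B) ⊗ₜ KaehlerDifferential.D A P.toExtension.Ring r)
  have hD : ∀ r s, D (r * s) = algebraMap P.toExtension.Ring B r • D s + algebraMap P.toExtension.Ring B s • D r :=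
    fun r s => by
      simp only [D, Derivation.leibniz, TensorProduct.tmul_add, one_tmul_smul, LinearMap.map_add, LinearMap.map_smul]
  have hDA : ∀ a, D (algebraMap A P.toExtension.Ring a) = 0 := fun a => by
    simp only [D, Derivation.map_algebraMap, TensorProduct.tmul_zero, map_zero]
  have hDadd : ∀ r s, D (r + s) = D r + D s := fun r s => by
    simp only [D, Derivation.map_add, TensorProduct.tmul_add, LinearMap.map_add]
  let ρ' : P.toExtension.Ring →ₐ[A] X.E :=
    { toFun := fun r => ρ r + X.incl (D r)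
      map_one' := by
        have h1 := hDA 1
        rw [map_one] at h1
        rw [map_one, h1, map_zero, add_zero]
      map_mul' := fun r s => by
        rw [hD, map_add, map_mul, ← hρ r, ← hρ s, ← X.isExtension.mul_incl, ← X.isExtension.mul_incl]
        linear_combination -(incl_mul_incl X (D r) (D s))
      map_zero' := by
        have h1 := hDA 0
        rw [map_zero] at h1
        rw [map_zero, h1, map_zero, add_zero]
      map_add' := fun r s => by rw [map_add, hDadd, map_add]; abel
      commutes' := fun a => by rw [hDA, map_zero, add_zero, AlgHom.commutes] }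
  refine ⟨ρ', fun r => ?_, fun x => ?_⟩
  · change X.proj (ρ r + X.incl (D r)) = _
    rw [map_add, hρ, (X.isExtension.exact _).mpr ⟨_, rfl⟩, add_zero]
  · change ρ x + X.incl (D x) = _
    rw [hφ, ← map_add, LinearMap.add_apply, LinearMap.comp_apply, Algebra.Extension.cotangentComplex_mk]

theorem sub_mem_of_classifies {X : Exal.Ext A B M} {φ φ'} (h : Classifies P X φ) (h' : Classifies P X φ') :
    ∃ χ : L0 P →ₗ[B] M, φ' = φ + χ ∘ₗ P.toExtension.cotangentComplex := by
  obtain ⟨ρ, hρ, hφ⟩ := h
  obtain ⟨ρ', hρ', hφ'⟩ := h'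
  have h0 : ∀ r, X.proj (ρ' r - ρ r) = 0 := fun r => by rw [map_sub, hρ, hρ', sub_self]
  let D : P.toExtension.Ring → M := fun r => X.kerLift _ (h0 r)
  have hD : ∀ r, X.incl (D r) = ρ' r - ρ r := fun r => X.incl_kerLift _ (h0 r)
  let χ : L0 P →ₗ[B] M := P.cotangentSpaceBasis.constr B fun i => D (Xv P i)
  have hχ : ∀ r, χ ((1 : B) ⊗ₜ KaehlerDifferential.D A P.toExtension.Ring r) = D r := by
    intro r
    induction r using ring_induction with
    | C a =>
      rw [show Cv P a = algebraMap A P.toExtension.Ring a from rfl, Derivation.map_algebraMap,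
        TensorProduct.tmul_zero, map_zero]
      exact X.isExtension.incl_injective (by rw [map_zero, hD, AlgHom.commutes, AlgHom.commutes, sub_self])
    | add p q hp hq =>
      rw [(KaehlerDifferential.D A P.toExtension.Ring).map_add, TensorProduct.tmul_add, LinearMap.map_add, hp, hq]
      exact X.isExtension.incl_injective (by rw [map_add, hD, hD, hD, map_add, map_add]; abel)
    | mul_X p i hp =>
      rw [Derivation.leibniz, TensorProduct.tmul_add, one_tmul_smul, one_tmul_smul, LinearMap.map_add,
        LinearMap.map_smul, LinearMap.map_smul, hp, basis_eq, Module.Basis.constr_basis]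
      refine X.isExtension.incl_injective ?_
      have e := incl_mul_incl X (D p) (D (Xv P i))
      rw [map_add, hD, map_mul, map_mul, ← hρ p, ← hρ (Xv P i), ← X.isExtension.mul_incl,
        ← X.isExtension.mul_incl, hD, hD]
      rw [hD, hD] at e
      linear_combination -e
  refine ⟨χ, LinearMap.ext fun z => ?_⟩
  obtain ⟨x, rfl⟩ := Algebra.Extension.Cotangent.mk_surjective z
  rw [LinearMap.add_apply, LinearMap.comp_apply, Algebra.Extension.cotangentComplex_mk, hχ]
  exact X.isExtension.incl_injective (by rw [map_add, hD, ← hφ, ← hφ', add_sub_cancel])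

theorem classifies_of_equiv {X Y : Exal.Ext A B M} (e : Exal.Ext.Equiv X Y) {φ} (h : Classifies P X φ) :
    Classifies P Y φ := by
  obtain ⟨ρ, hρ, hφ⟩ := h
  exact ⟨e.toAlgEquiv.toAlgHom.comp ρ, fun r => (e.proj_apply (ρ r)).trans (hρ r),
    fun x => (congrArg e.toAlgEquiv (hφ x)).trans (e.apply_incl _)⟩

theorem exists_rep (X : Exal.Ext A B M) (ρ : P.toExtension.Ring →ₐ[A] X.E)
    (hρ : ∀ r, X.proj (ρ r) = algebraMap P.toExtension.Ring B r) (x : X.E) : ∃ r m, x = ρ r + X.incl m := by
  obtain ⟨r, hr⟩ := algebraMap_ring_surjective P (X.proj x)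
  obtain ⟨m, hm⟩ := (X.isExtension.exact (x - ρ r)).mp (by rw [map_sub, hρ, hr, sub_self])
  exact ⟨r, m, by rw [hm, add_sub_cancel]⟩

theorem exists_hom_of_classifies {X Y : Exal.Ext A B M} {φ : P.toExtension.Cotangent →ₗ[B] M} (ρ : P.toExtension.Ring →ₐ[A] X.E)
    (hρ : ∀ r, X.proj (ρ r) = algebraMap P.toExtension.Ring B r)
    (hφ : ∀ x : P.toExtension.ker, ρ x = X.incl (φ (Algebra.Extension.Cotangent.mk x)))
    (ρ' : P.toExtension.Ring →ₐ[A] Y.E) (hρ' : ∀ r, Y.proj (ρ' r) = algebraMap P.toExtension.Ring B r)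
    (hφ' : ∀ x : P.toExtension.ker, ρ' x = Y.incl (φ (Algebra.Extension.Cotangent.mk x))) :
    ∃ f : X.E →ₐ[A] Y.E, ∀ r m, f (ρ r + X.incl m) = ρ' r + Y.incl m := by
  choose r m hrm using exists_rep P X ρ hρ
  have key : ∀ s n, ρ' (r (ρ s + X.incl n)) + Y.incl (m (ρ s + X.incl n)) = ρ' s + Y.incl n := by
    intro s n
    have e := hrm (ρ s + X.incl n)
    set s' := r (ρ s + X.incl n)
    set n' := m (ρ s + X.incl n)
    have hmem : s - s' ∈ P.toExtension.ker := by
      have e1 := congrArg X.proj e
      rw [map_add, map_add, hρ, hρ, (X.isExtension.exact _).mpr ⟨_, rfl⟩, (X.isExtension.exact _).mpr ⟨_, rfl⟩,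
        add_zero, add_zero] at e1
      change algebraMap P.toExtension.Ring B (s - s') = 0
      rw [map_sub, e1, sub_self]
    have h1 := hφ ⟨_, hmem⟩
    have h2 := hφ' ⟨_, hmem⟩
    have hn : n' - n = φ (Algebra.Extension.Cotangent.mk ⟨_, hmem⟩) := X.isExtension.incl_injective (by
      rw [← h1, map_sub, map_sub]
      linear_combination -e)
    rw [← hn, map_sub, map_sub] at h2
    linear_combination -h2
  refine ⟨
    { toFun := fun x => ρ' (r x) + Y.incl (m x)
      map_one' := by
        have h := key 1 0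
        simpa using h
      map_mul' := fun x y => by
        have h := key (r x * r y)
          (algebraMap P.toExtension.Ring B (r x) • m y + algebraMap P.toExtension.Ring B (r y) • m x)
        have e : x * y = ρ (r x * r y) +
            X.incl (algebraMap P.toExtension.Ring B (r x) • m y + algebraMap P.toExtension.Ring B (r y) • m x) := by
          conv_lhs => rw [hrm x, hrm y]
          rw [map_mul, map_add, ← hρ, ← hρ, ← X.isExtension.mul_incl, ← X.isExtension.mul_incl]
          linear_combination incl_mul_incl X (m x) (m y)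
        rw [← e] at h
        rw [h, map_mul, map_add, ← hρ' (r x), ← hρ' (r y), ← Y.isExtension.mul_incl, ← Y.isExtension.mul_incl]
        linear_combination -(incl_mul_incl Y (m x) (m y))
      map_zero' := by
        have h := key 0 0
        simpa using h
      map_add' := fun x y => by
        have h := key (r x + r y) (m x + m y)
        have e : x + y = ρ (r x + r y) + X.incl (m x + m y) := by
          conv_lhs => rw [hrm x, hrm y]
          rw [map_add, map_add]; abel
        rw [← e] at h
        rw [h, map_add, map_add]; abel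
      commutes' := fun a => by
        have h := key (algebraMap A P.toExtension.Ring a) 0
        simpa using h }, key⟩

theorem equiv_of_classifies {X Y : Exal.Ext A B M} {φ} (hX : Classifies P X φ) (hY : Classifies P Y φ) :
    Nonempty (Exal.Ext.Equiv X Y) := by
  obtain ⟨ρ, hρ, hφ⟩ := hX
  obtain ⟨ρ', hρ', hφ'⟩ := hY
  obtain ⟨f, hf⟩ := exists_hom_of_classifies P ρ hρ hφ ρ' hρ' hφ'
  obtain ⟨g, hg⟩ := exists_hom_of_classifies P ρ' hρ' hφ' ρ hρ hφ
  refine ⟨{ toAlgEquiv := AlgEquiv.ofAlgHom f g ?_ ?_, proj_apply := fun x => ?_, apply_incl := fun z => ?_ }⟩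
  · refine AlgHom.ext fun y => ?_
    obtain ⟨r, m, rfl⟩ := exists_rep P Y ρ' hρ' y
    rw [AlgHom.comp_apply, hg, hf]
    rfl
  · refine AlgHom.ext fun y => ?_
    obtain ⟨r, m, rfl⟩ := exists_rep P X ρ hρ y
    rw [AlgHom.comp_apply, hf, hg]
    rfl
  · obtain ⟨r, m, rfl⟩ := exists_rep P X ρ hρ x
    change Y.proj (f _) = _
    rw [hf, map_add, map_add, hρ, hρ', (X.isExtension.exact _).mpr ⟨_, rfl⟩, (Y.isExtension.exact _).mpr ⟨_, rfl⟩]
  · change f _ = _
    have h := hf 0 z
    simpa using h

theorem exists_ext_classified (φ : P.toExtension.Cotangent →ₗ[B] M) :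
    ∃ X : Exal.Ext A B M, Classifies P X φ := by
  letI : Module P.toExtension.Ring M := Module.compHom M (algebraMap P.toExtension.Ring B)
  have hsmul : ∀ (r : P.toExtension.Ring) (m : M), r • m = algebraMap P.toExtension.Ring B r • m := fun _ _ => rfl
  let T := Exal.Ext.trivial A P.toExtension.Ring M
  let j : P.toExtension.Ring →ₐ[A] T.E :=
    { toFun := fun r => TrivSqZeroExt.inl r
      map_one' := TrivSqZeroExt.inl_one M
      map_mul' := fun a b => (letI := Exal.opModule P.toExtension.Ring M;
        haveI := Exal.isCentralScalar_opModule P.toExtension.Ring M; TrivSqZeroExt.inl_mul M a b)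
      map_zero' := TrivSqZeroExt.inl_zero M
      map_add' := fun a b => TrivSqZeroExt.inl_add M a b
      commutes' := fun a => rfl }
  have hj : ∀ r, T.proj (j r) = r := fun r => rfl
  have hrep : ∀ x : T.E, ∃ n, x = j (T.proj x) + T.incl n := fun x => by
    obtain ⟨n, hn⟩ := (T.isExtension.exact (x - j (T.proj x))).mp (by rw [map_sub, hj, sub_self])
    exact ⟨n, by rw [hn, add_sub_cancel]⟩
  have hji : ∀ (x : P.toExtension.ker) (n : M), j x * T.incl n = 0 := fun x n => by
    rw [T.isExtension.mul_incl, hj, hsmul, show algebraMap P.toExtension.Ring B x = 0 from x.2, zero_smul, map_zero]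
  let J : Ideal T.E :=
    { carrier := {e | ∃ x : P.toExtension.ker, e = j x - T.incl (φ (Algebra.Extension.Cotangent.mk x))}
      zero_mem' := ⟨0, by simp⟩
      add_mem' := by
        rintro _ _ ⟨x, rfl⟩ ⟨y, rfl⟩
        exact ⟨x + y, by rw [Submodule.coe_add, map_add, map_add, map_add, map_add]; abel⟩
      smul_mem' := by
        rintro c _ ⟨x, rfl⟩
        obtain ⟨n, hn⟩ := hrep c
        refine ⟨T.proj c • x, ?_⟩
        rw [Submodule.coe_smul, smul_eq_mul, smul_eq_mul, cotMk_smul, LinearMap.map_smul, ← hsmul, map_mul]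
        have h1 := hji x n
        have h2 : c * T.incl (φ (Algebra.Extension.Cotangent.mk x)) =
            T.incl (T.proj c • φ (Algebra.Extension.Cotangent.mk x)) := T.isExtension.mul_incl _ _
        rw [← h2]
        conv_lhs => rw [mul_sub]; arg 1; rw [hn]
        linear_combination h1 }
  have hJ : ∀ e, e ∈ J ↔ ∃ x : P.toExtension.ker, e = j x - T.incl (φ (Algebra.Extension.Cotangent.mk x)) :=
    fun e => Iff.rfl
  let p0 : T.E →ₐ[A] B := (IsScalarTower.toAlgHom A P.toExtension.Ring B).comp T.proj
  have hp0 : ∀ e, p0 e = algebraMap P.toExtension.Ring B (T.proj e) := fun e => rfl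
  let p : (T.E ⧸ J) →ₐ[A] B := Ideal.Quotient.liftₐ J p0 fun e he => by
    obtain ⟨x, rfl⟩ := (hJ e).mp he
    rw [hp0, map_sub, hj, (T.isExtension.exact _).mpr ⟨_, rfl⟩, sub_zero]
    exact x.2
  let i : M →+ T.E ⧸ J := (Ideal.Quotient.mk J).toAddMonoidHom.comp T.incl
  refine ⟨⟨T.E ⧸ J, p, i, ⟨fun b => ?_, ?_, fun e => ?_, fun e z => ?_⟩⟩,
    (Ideal.Quotient.mkₐ A J).comp j, fun r => ?_, fun x => ?_⟩
  · obtain ⟨r, hr⟩ := algebraMap_ring_surjective P b
    exact ⟨Ideal.Quotient.mk J (j r), hr⟩
  · refine (injective_iff_map_eq_zero i).mpr fun z hz => ?_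
    obtain ⟨x, hx⟩ := (hJ _).mp (Ideal.Quotient.eq_zero_iff_mem.mp hz)
    have hx' := congrArg T.proj hx
    rw [map_sub, hj, (T.isExtension.exact _).mpr ⟨_, rfl⟩, (T.isExtension.exact _).mpr ⟨_, rfl⟩, sub_zero] at hx'
    have hx0 : x = 0 := Subtype.ext hx'.symm
    rw [hx0, Submodule.coe_zero, map_zero, map_zero, map_zero, map_zero, sub_zero] at hx
    exact T.isExtension.incl_injective (hx.trans (map_zero T.incl).symm)
  · obtain ⟨e, rfl⟩ := Ideal.Quotient.mk_surjective e
    constructor
    · intro he
      obtain ⟨n, hn⟩ := hrep e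
      have hmem : T.proj e ∈ P.toExtension.ker := he
      refine ⟨φ (Algebra.Extension.Cotangent.mk ⟨_, hmem⟩) + n, Ideal.Quotient.eq.mpr ((hJ _).mpr ⟨-⟨_, hmem⟩, ?_⟩)⟩
      conv_lhs => arg 2; rw [hn]
      rw [Submodule.coe_neg, map_neg, map_neg, map_neg, map_neg, map_add]
      abel
    · rintro ⟨z, hz⟩
      rw [← hz]
      change algebraMap P.toExtension.Ring B (T.proj (T.incl z)) = 0
      rw [(T.isExtension.exact _).mpr ⟨_, rfl⟩, map_zero]
  · obtain ⟨e, rfl⟩ := Ideal.Quotient.mk_surjective e
    change Ideal.Quotient.mk J e * Ideal.Quotient.mk J (T.incl z) = Ideal.Quotient.mk J (T.incl (_ • z))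
    rw [← map_mul, T.isExtension.mul_incl, hsmul]
    rfl
  · rfl
  · exact Ideal.Quotient.eq.mpr ((hJ _).mpr ⟨x, rfl⟩)

theorem classifies_trivial : Classifies P (Exal.Ext.trivial A B M) 0 := by
  let j : B →ₐ[A] (Exal.Ext.trivial A B M).E :=
    { toFun := fun r => TrivSqZeroExt.inl r
      map_one' := TrivSqZeroExt.inl_one M
      map_mul' := fun a b => (letI := Exal.opModule B M;
        haveI := Exal.isCentralScalar_opModule B M; TrivSqZeroExt.inl_mul M a b)
      map_zero' := TrivSqZeroExt.inl_zero M
      map_add' := fun a b => TrivSqZeroExt.inl_add M a b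
      commutes' := fun a => rfl }
  refine ⟨j.comp (IsScalarTower.toAlgHom A P.toExtension.Ring B), fun r => rfl, fun x => ?_⟩
  rw [LinearMap.zero_apply, map_zero, AlgHom.comp_apply, IsScalarTower.coe_toAlgHom',
    show algebraMap P.toExtension.Ring B x = 0 from x.2, map_zero]

/-- Classes of extensions are in bijection with `T¹`. -/
theorem exists_equiv_T1 :
    ∃ e : Exal.Exalcom A B M ≃ T1 P M, e 0 = 0 := by
  classical
  let F₀ : Exal.Ext A B M → T1 P M := fun X => homToT1 P M (exists_classifies P X).choose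
  have hF : ∀ X φ, Classifies P X φ → F₀ X = homToT1 P M φ := fun X φ h => by
    obtain ⟨χ, hχ⟩ := sub_mem_of_classifies P h (exists_classifies P X).choose_spec
    change homToT1 P M _ = _
    rw [hχ, map_add, add_eq_left]
    have : χ ∘ₗ P.toExtension.cotangentComplex ∈ LinearMap.ker (homToT1 P M) := by
      rw [ker_homToT1]; exact ⟨χ, rfl⟩
    exact this
  let F : Exal.Exalcom A B M → T1 P M := Quotient.lift F₀ fun X Y ⟨e⟩ =>
    (hF Y _ (classifies_of_equiv P e (exists_classifies P X).choose_spec)).symm
  have hbij : Function.Bijective F := by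
    constructor
    · rintro ⟨X⟩ ⟨Y⟩ (hXY : F₀ X = F₀ Y)
      have hmem : (exists_classifies P Y).choose - (exists_classifies P X).choose ∈ LinearMap.ker (homToT1 P M) := by
        rw [LinearMap.mem_ker, map_sub, sub_eq_zero]; exact hXY.symm
      rw [ker_homToT1] at hmem
      obtain ⟨χ, hχ⟩ := hmem
      have hX := classifies_add P (exists_classifies P X).choose_spec χ
      rw [show χ ∘ₗ P.toExtension.cotangentComplex = _ from hχ, add_sub_cancel] at hX
      exact Quotient.sound (equiv_of_classifies P hX (exists_classifies P Y).choose_spec)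
    · intro t
      obtain ⟨φ, rfl⟩ := homToT1_surjective P M t
      obtain ⟨X, hX⟩ := exists_ext_classified P φ
      exact ⟨X.cl, hF X φ hX⟩
  exact ⟨Equiv.ofBijective F hbij, (hF _ 0 (classifies_trivial P)).trans (map_zero _)⟩

end Groth.Agent.H24Cot
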