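import Mathlib
import Groth.Prelude.Def_LCI2
import Groth.Agent.S1830
import Groth.Agent.S3826
import Groth.Agent.H29Slice.KoszulReg
import Groth.Agent.H29Slice.H1Quasi
import Groth.Agent.H4Goren.Basic
import Groth.Agent.H4Depth.DepthLemmas
import Groth.Agent.H8Props.FlatDepth
import Groth.Agent.H02CA.GorFlatLocal
import Groth.Agent.H05EGA4.SerreCond

/-!
# Vanishing of `H₁` of the naive cotangent complex of a flat lci algebra with generically smooth fibres (helper24)
-/

set_option autoImplicit false
set_option linter.style.haveILetI false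
universe u
open IsLocalRing Groth.Agent
open scoped TensorProduct

namespace Groth.Agent.H24Cot.LciH1

theorem projective_cotangent {R : Type u} [CommRing R] {I : Ideal R} (hI : LCI.IsKoszulRegularIdeal I) :
    Module.Projective (R ⧸ I) I.Cotangent := by
  refine ((S3826.result R I).mp ?_).2.1
  intro P _ hP
  obtain ⟨g, hg, l, hl, hspan⟩ := hI ⟨P, inferInstance⟩ hP
  exact ⟨g, hg, l.length, l.get,
    H29Slice.isQuasiRegular_of_isH1Regular (H29Slice.isH1Regular_of_isKoszulRegular hl),
    by rw [hspan, Set.range_list_get]⟩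

variable {A P : Type u} [CommRing A] [IsNoetherianRing A] [CommRing P] [Algebra A P] [Module.Flat A P]

theorem depth_quot_congr {R : Type u} [CommRing R] {I I' : Ideal R} (h : I = I') [IsLocalRing (R ⧸ I)]
    [IsLocalRing (R ⧸ I')] : LocCoh.depth (R ⧸ I) (R ⧸ I) = LocCoh.depth (R ⧸ I') (R ⧸ I') := by
  subst h; rfl

/-- A point where the local ring of the fibre has depth zero is minimal in its fibre. -/
theorem minimal_of_fibre_depth_zero [IsNoetherianRing P] (hlci : LCI.IsLCI A P) (q : Ideal P) [q.IsPrime]
    [IsLocalRing (Localization.AtPrime q ⧸ (q.comap (algebraMap A P)).map (algebraMap A (Localization.AtPrime q)))]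
    (hd : LocCoh.depth
      (Localization.AtPrime q ⧸ (q.comap (algebraMap A P)).map (algebraMap A (Localization.AtPrime q)))
      (Localization.AtPrime q ⧸ (q.comap (algebraMap A P)).map (algebraMap A (Localization.AtPrime q))) = 0)
    (q' : Ideal P) [q'.IsPrime]
    (hle : q' ≤ q) (hcomap : q'.comap (algebraMap A P) = q.comap (algebraMap A P)) : q' = q := by
  let p := q.comap (algebraMap A P)
  haveI : q.LiesOver p := ⟨rfl⟩
  letI := Localization.AtPrime.algebraOfLiesOver p q
  haveI : IsLocalHom (algebraMap (Localization.AtPrime p) (Localization.AtPrime q)) := by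
    rw [Localization.AtPrime.IsLiesOverAlgebra.algebraMap_eq]
    infer_instance
  let L := Localization.AtPrime q
  let J := (maximalIdeal (Localization.AtPrime p)).map (algebraMap (Localization.AtPrime p) L)
  have hJ : J = p.map (algebraMap A L) := by
    simp only [J]
    rw [← Localization.AtPrime.map_eq_maximalIdeal, Ideal.map_map, ← IsScalarTower.algebraMap_eq]
  haveI : Nontrivial (L ⧸ J) := Ideal.Quotient.nontrivial_iff.mpr
    (ne_top_of_le_ne_top (maximalIdeal.isMaximal L).ne_top (map_maximalIdeal_le _))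
  haveI : IsLocalRing (L ⧸ J) := .of_surjective' _ Ideal.Quotient.mk_surjective
  have hgor : LocCoh.IsGorensteinLocalRing (L ⧸ J) := by
    let Q := PrimeSpectrum.preimageEquivFiber A P ⟨p, inferInstance⟩ ⟨⟨q, inferInstance⟩, rfl⟩
    have hQ : Q.asIdeal.comap Algebra.TensorProduct.includeRight = q :=
      congr($((PrimeSpectrum.preimageEquivFiber A P ⟨p, inferInstance⟩).left_inv ⟨⟨q, inferInstance⟩, rfl⟩).1.asIdeal)
    have hF : LocCoh.IsGorensteinRing (p.Fiber P) := H02CA.GorFlat.isGorensteinRing_of_ringEquiv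
      (Algebra.TensorProduct.comm A P p.ResidueField).toRingEquiv (S1830.result A P hlci ⟨p, inferInstance⟩)
    have h1 := hF.isGorensteinLocalRing_localization Q.asIdeal
    revert h1
    have key : ∀ (q2 : Ideal P) [q2.IsPrime], q2 = Q.asIdeal.comap Algebra.TensorProduct.includeRight →
        LocCoh.IsGorensteinLocalRing (Localization.AtPrime Q.asIdeal) →
        LocCoh.IsGorensteinLocalRing (Localization.AtPrime q2 ⧸ p.map (algebraMap A (Localization.AtPrime q2))) := by
      intro q2 _ h2 h3
      subst h2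
      haveI : (Q.asIdeal.comap Algebra.TensorProduct.includeRight).LiesOver p :=
        ⟨congr($(((PrimeSpectrum.preimageEquivFiber A P ⟨p, inferInstance⟩).symm ⟨Q.asIdeal, inferInstance⟩).2.symm).asIdeal)⟩
      letI := Localization.AtPrime.algebraOfLiesOver p (Q.asIdeal.comap Algebra.TensorProduct.includeRight)
      exact H02CA.GorFlat.gor_of_ringEquiv (Ideal.Fiber.localizationAlgEquivQuotient p Q.asIdeal).toRingEquiv h3
    intro h1
    exact H02CA.GorFlat.gor_of_ringEquiv (Ideal.quotEquivOfEq hJ.symm) (key q hQ.symm h1)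
  replace hd : LocCoh.depth (L ⧸ J) (L ⧸ J) = 0 := by
    exact (depth_quot_congr hJ).trans hd
  haveI := hgor
  have hdim : ringKrullDim (L ⧸ J) = 0 := by
    have h := (H8Props.FlatDepth.isCM_iff_dim (L ⧸ J)).mp (H4Goren.isCohenMacaulayLocalRing (L ⧸ J))
    rw [hd] at h
    simpa using h
  haveI : Ring.KrullDimLE 0 (L ⧸ J) := Ring.krullDimLE_iff.mpr hdim.le
  have hdisj : Disjoint (q.primeCompl : Set P) q' := Set.disjoint_left.mpr fun a ha hap => ha (hle hap)
  haveI := IsLocalization.isPrime_of_isPrime_disjoint q.primeCompl L q' ‹q'.IsPrime› hdisj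
  let M := q'.map (algebraMap P L)
  have hJM : J ≤ M := by
    rw [hJ, Ideal.map_le_iff_le_comap]
    intro a ha
    rw [Ideal.mem_comap, IsScalarTower.algebraMap_apply A P L]
    refine Ideal.mem_map_of_mem _ ?_
    exact hcomap.ge ha
  haveI : (M.map (Ideal.Quotient.mk J)).IsPrime := Ideal.isPrime_map_quotientMk_of_isPrime hJM
  have hM : M = maximalIdeal L := by
    have h1 : M.map (Ideal.Quotient.mk J) = maximalIdeal (L ⧸ J) :=
      IsLocalRing.eq_maximalIdeal (Ideal.IsPrime.isMaximal' inferInstance)
    rw [← IsLocalRing.map_maximalIdeal_of_surjective _ (Ideal.Quotient.mk_surjective (I := J))] at h1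
    have h2 := congrArg (Ideal.comap (Ideal.Quotient.mk J)) h1
    rwa [Ideal.comap_map_of_surjective' _ Ideal.Quotient.mk_surjective,
      Ideal.comap_map_of_surjective' _ Ideal.Quotient.mk_surjective, Ideal.mk_ker, sup_eq_left.mpr hJM,
      sup_eq_left.mpr (hJM.trans (le_maximalIdeal (Ideal.IsPrime.ne_top inferInstance)))] at h2
  have h3 := congrArg (Ideal.comap (algebraMap P L)) hM
  exact ((IsLocalization.under_map_of_isPrime_disjoint q.primeCompl L ‹q'.IsPrime› hdisj).symm.trans h3).trans
    (IsLocalization.AtPrime.under_maximalIdeal L q)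

/-- A point of depth zero is minimal in its fibre. -/
theorem minimal_of_depth_zero [IsNoetherianRing P] (hlci : LCI.IsLCI A P) (q : Ideal P) [q.IsPrime]
    (hq : LocCoh.depth (Localization.AtPrime q) (Localization.AtPrime q) = 0) (q' : Ideal P) [q'.IsPrime]
    (hle : q' ≤ q) (hcomap : q'.comap (algebraMap A P) = q.comap (algebraMap A P)) : q' = q := by
  let p := q.comap (algebraMap A P)
  haveI : q.LiesOver p := ⟨rfl⟩
  letI := Localization.AtPrime.algebraOfLiesOver p q
  haveI : IsLocalHom (algebraMap (Localization.AtPrime p) (Localization.AtPrime q)) := by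
    rw [Localization.AtPrime.IsLiesOverAlgebra.algebraMap_eq]
    infer_instance
  have hJ : (maximalIdeal (Localization.AtPrime p)).map (algebraMap (Localization.AtPrime p) (Localization.AtPrime q))
      = p.map (algebraMap A (Localization.AtPrime q)) := by
    rw [← Localization.AtPrime.map_eq_maximalIdeal, Ideal.map_map, ← IsScalarTower.algebraMap_eq]
  haveI : IsLocalRing (Localization.AtPrime q ⧸ p.map (algebraMap A (Localization.AtPrime q))) := by
    rw [← hJ]
    exact H8Props.FlatDepth.isLocalRing_fibre (Localization.AtPrime p) (Localization.AtPrime q)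
  have h := H8Props.FlatDepth.depth_eq_add (Localization.AtPrime p) (Localization.AtPrime q)
  rw [hq] at h
  exact minimal_of_fibre_depth_zero hlci q ((depth_quot_congr hJ).symm.trans (add_eq_zero.mp h.symm).2) q' hle hcomap

/-- The main statement. -/
theorem subsingleton_h1Cotangent (hlci : LCI.IsLCI A P)
    (hgs : ∀ 𝔓 : PrimeSpectrum P,
      (∀ 𝔔 : PrimeSpectrum P, 𝔔 ≤ 𝔓 →
          𝔔.asIdeal.comap (algebraMap A P) = 𝔓.asIdeal.comap (algebraMap A P) → 𝔔 = 𝔓) →
        𝔓 ∈ Algebra.smoothLocus A P) :
    Subsingleton (Algebra.H1Cotangent A P) := by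
  classical
  obtain ⟨hft, n, f, hf, hI⟩ := hlci
  haveI := hft
  haveI : IsNoetherianRing P := Algebra.FiniteType.isNoetherianRing A P
  have hlci' : LCI.IsLCI A P := ⟨hft, n, f, hf, hI⟩
  have haeval : f = MvPolynomial.aeval (fun i => f (MvPolynomial.X i)) :=
    MvPolynomial.algHom_ext fun i => by simp
  let G : Algebra.Generators A P (Fin n) :=
    Algebra.Generators.ofSurjective (fun i => f (MvPolynomial.X i)) (fun b => by
      obtain ⟨a, ha⟩ := hf b
      exact ⟨a, by rw [← haeval]; exact ha⟩)
  let E := G.toExtension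
  have halg : ∀ a : MvPolynomial (Fin n) A, algebraMap E.Ring P a = f a := fun a =>
    (AlgHom.congr_fun haeval a).symm
  have hker : E.ker = RingHom.ker f.toRingHom := by
    refine Ideal.ext fun a => ?_
    exact (RingHom.mem_ker.trans (Eq.congr_left (halg a))).trans RingHom.mem_ker.symm
  have hproj : Module.Projective (E.Ring ⧸ E.ker) E.ker.Cotangent := by
    refine projective_cotangent ?_
    have h : (E.ker : Ideal (MvPolynomial (Fin n) A)) = RingHom.ker f.toRingHom := hker
    exact h ▸ hI
  suffices h : Subsingleton E.H1Cotangent from (G.equivH1Cotangent).symm.toEquiv.subsingleton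
  haveI : IsNoetherianRing E.Ring := inferInstanceAs (IsNoetherianRing (MvPolynomial (Fin n) A))
  obtain ⟨s, hs⟩ := Module.projective_def.mp hproj
  have hsinj : Function.Injective s := hs.injective
  let val : E.H1Cotangent → E.ker.Cotangent := fun x => x.1.val
  have hval : ∀ (a : E.Ring) (x : E.H1Cotangent), algebraMap E.Ring P a • x = 0 ↔ a • val x = 0 := by
    intro a x
    constructor
    · intro h
      have h1 : (algebraMap E.Ring P a • x.1 : E.Cotangent) = 0 := congrArg Subtype.val h
      rw [algebraMap_smul] at h1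
      simpa [val] using congrArg Algebra.Extension.Cotangent.val h1
    · intro h
      refine Subtype.ext ?_
      change (algebraMap E.Ring P a • x.1 : E.Cotangent) = 0
      rw [algebraMap_smul]
      refine Algebra.Extension.Cotangent.ext ?_
      simpa [val] using h
  have hcoord : ∀ (a : E.Ring) (x : E.H1Cotangent), a • val x = 0 ↔
      ∀ j, Ideal.Quotient.mk E.ker a * s (val x) j = 0 := by
    intro a x
    rw [← algebraMap_smul (E.Ring ⧸ E.ker) a (val x), ← map_eq_zero_iff s hsinj, map_smul, Finsupp.ext_iff]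
    simp [Ideal.Quotient.algebraMap_eq]
  refine not_nontrivial_iff_subsingleton.mp fun hnt => ?_
  haveI := hnt
  obtain ⟨q, hqA⟩ := associatedPrimes.nonempty P E.H1Cotangent
  haveI : q.IsPrime := hqA.isPrime
  obtain ⟨-, x, hx⟩ := isAssociatedPrime_iff.mp hqA
  have hxann : ∀ b : P, b ∈ q ↔ b • x = 0 := fun b => by
    rw [hx, Submodule.mem_colon_singleton, Submodule.mem_bot]
  have hmk : ∀ a : E.Ring, a ∈ E.ker ↔ algebraMap E.Ring P a = 0 := fun a => RingHom.mem_ker
  let e : (E.Ring ⧸ E.ker) →+* P := Ideal.Quotient.lift E.ker (algebraMap E.Ring P) fun a ha => (hmk a).mp ha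
  have heinj : Function.Injective e := by
    refine (injective_iff_map_eq_zero e).mpr fun c hc => ?_
    obtain ⟨a, rfl⟩ := Ideal.Quotient.mk_surjective c
    exact Ideal.Quotient.eq_zero_iff_mem.mpr ((hmk a).mpr hc)
  have hiff : ∀ b : P, b • x = 0 ↔ ∀ j, b * e (s (val x) j) = 0 := by
    intro b
    obtain ⟨a', ha'⟩ := hf b
    obtain ⟨a, rfl⟩ : ∃ a : E.Ring, algebraMap E.Ring P a = b := ⟨a', (halg a').trans ha'⟩
    rw [hval, hcoord]
    refine forall_congr' fun j => ?_
    rw [show algebraMap E.Ring P a = e (Ideal.Quotient.mk E.ker a) from rfl, ← map_mul, map_eq_zero_iff e heinj]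
  let L := Localization.AtPrime q
  obtain ⟨j, hj⟩ : ∃ j, algebraMap P L (e (s (val x) j)) ≠ 0 := by
    by_contra h
    push Not at h
    choose t ht using fun j => (IsLocalization.map_eq_zero_iff q.primeCompl L _).mp (h j)
    let T : P := ∏ j ∈ (s (val x)).support, (t j : P)
    have hT : T ∉ q := fun hT => by
      obtain ⟨j, -, hj⟩ := Ideal.IsPrime.prod_mem_iff.mp hT
      exact (t j).2 hj
    refine hT ((hxann T).mpr ((hiff T).mpr fun j => ?_))
    by_cases hjs : j ∈ (s (val x)).support
    · obtain ⟨w, hw⟩ : (t j : P) ∣ T := Finset.dvd_prod_of_mem (fun j => (t j : P)) hjs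
      rw [hw, mul_comm (t j : P) w, mul_assoc, ht j, mul_zero]
    · rw [Finsupp.notMem_support_iff.mp hjs, map_zero, mul_zero]
  have hdepth : LocCoh.depth L L = 0 := by
    haveI : IsNoetherianRing L := IsLocalization.isNoetherianRing q.primeCompl L inferInstance
    have hIM : maximalIdeal L • (⊤ : Submodule L L) ≠ ⊤ := by
      rw [smul_eq_mul, Ideal.mul_top]; exact (maximalIdeal.isMaximal L).ne_top
    refine (H4Depth.idealDepth_eq_zero_iff hIM).mpr fun y hy hreg => hj ?_
    obtain ⟨b, t, rfl⟩ := IsLocalization.exists_mk'_eq q.primeCompl y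
    have hb : b ∈ q := (IsLocalization.AtPrime.mk'_mem_maximal_iff L q b t).mp hy
    refine (isSMulRegular_iff_right_eq_zero_of_smul.mp hreg) _ ?_
    rw [smul_eq_mul, ← IsLocalization.mk'_one (M := q.primeCompl) (S := L), ← IsLocalization.mk'_mul,
      (hiff b).mp ((hxann b).mp hb) j, IsLocalization.mk'_zero]
  have hsm := hgs ⟨q, inferInstance⟩ fun 𝔔 hle hc =>
    PrimeSpectrum.ext (minimal_of_depth_zero hlci' q hdepth 𝔔.asIdeal hle hc)
  rw [Algebra.smoothLocus_eq_compl_support_inter] at hsm
  have hsub := Module.notMem_support_iff.mp hsm.1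
  rw [LocalizedModule.subsingleton_iff] at hsub
  obtain ⟨t, ht, htx⟩ := hsub (G.equivH1Cotangent x)
  refine ht ((hxann t).mpr ?_)
  rw [← map_smul] at htx
  exact (map_eq_zero_iff _ (G.equivH1Cotangent).injective).mp htx

end Groth.Agent.H24Cot.LciH1
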