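import Mathlib
import Groth.Agent.H24Cot.LciH1
import Groth.Agent.H3CAlg.CompletedCI
import Groth.Agent.H02CA.FibreAss
import Groth.Agent.S2069

/-!
# Base change of `Ext¹(Ω, P)` for flat lci algebras with generically smooth fibres (helper24)
-/

set_option autoImplicit false
set_option linter.style.haveILetI false
universe u
open IsLocalRing Groth.Agent CategoryTheory CategoryTheory.Abelian Matrix
open scoped TensorProduct

namespace Groth.Agent.H24Cot.ExtBaseChange

section Ext

variable {B : Type u} [CommRing B] {c r : ℕ}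

/-- Generators and relations of `Ext¹(Ω, B)` for a presentation of `Ω` with projective kernel. -/
theorem exists_ext_presentation_idem {Ω : Type u} [AddCommGroup Ω] [Module B Ω]
    (A : Matrix (Fin c) (Fin r) B) (E : Matrix (Fin c) (Fin c) B) (hE : E * E = E) (hEA : E * A = A)
    (π : (Fin r → B) →ₗ[B] Ω) (hπ : Function.Surjective π)
    (hker : LinearMap.ker π = LinearMap.range A.vecMulLinear)
    (hA : ∀ v, v ᵥ* A = 0 → v ᵥ* E = 0) :
    ∃ e : Fin c → Ext.{u} (ModuleCat.of B Ω) (ModuleCat.of B B) 1,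
      Submodule.span B (Set.range e) = ⊤ ∧
      ∀ v : Fin c → B, ∑ i, v i • e i = 0 ↔ v ∈ Submodule.span B (Set.range
        (Sum.elim (fun j i => A i j) (fun k i => (1 - E) i k))) := by
  classical
  let Q : Submodule B (Fin c → B) := LinearMap.range E.vecMulLinear
  have hQ : ∀ x ∈ Q, x ᵥ* E = x := by
    rintro x ⟨v, rfl⟩
    simp only [Matrix.vecMulLinear_apply, Matrix.vecMul_vecMul, hE]
  let ψ : Q →ₗ[B] (Fin r → B) := A.vecMulLinear ∘ₗ Q.subtype
  have hψ : Function.Injective ψ := by
    refine (injective_iff_map_eq_zero ψ).mpr fun x hx => Subtype.ext ?_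
    exact (hQ x x.2).symm.trans (hA x hx)
  have hrange : LinearMap.range ψ = LinearMap.ker π := by
    rw [hker, LinearMap.range_comp, Submodule.range_subtype]
    refine le_antisymm LinearMap.map_le_range ?_
    rintro _ ⟨v, rfl⟩
    exact ⟨v ᵥ* E, ⟨v, rfl⟩, by simp [Matrix.vecMul_vecMul, hEA]⟩
  have hexact : Function.Exact ψ π := LinearMap.exact_iff.mpr hrange.symm
  let S : ShortComplex (ModuleCat.{u} B) := ShortComplex.mk (ModuleCat.ofHom ψ) (ModuleCat.ofHom π)
    (ModuleCat.hom_ext (LinearMap.ext fun w => hexact.apply_apply_eq_zero w))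
  have hS : S.ShortExact :=
    { exact := by
        rw [ShortComplex.moduleCat_exact_iff]
        intro w hw
        exact (hexact w).mp hw
      mono_f := (ModuleCat.mono_iff_injective _).mpr hψ
      epi_g := (ModuleCat.epi_iff_surjective _).mpr hπ }
  let Y := ModuleCat.of B B
  let δ : (Q →ₗ[B] B) →ₗ[B] Ext.{u} (ModuleCat.of B Ω) Y 1 :=
    { toFun := fun f => hS.extClass.comp (Ext.mk₀ (ModuleCat.ofHom f)) (add_zero 1)
      map_add' := fun f g => by
        rw [ModuleCat.ofHom_add, Ext.mk₀_add, Ext.comp_add]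
      map_smul' := fun b f => by
        rw [RingHom.id_apply, show (ModuleCat.ofHom (b • f) : ModuleCat.of B Q ⟶ Y) =
            b • ModuleCat.ofHom f from rfl, Ext.mk₀_smul, Ext.comp_smul] }
  have hsurj : Function.Surjective δ := by
    intro x
    have : Projective S.X₂ := ModuleCat.projective_of_free (M := S.X₂) (Pi.basisFun B (Fin r))
    obtain ⟨x₁, hx₁⟩ := Ext.contravariant_sequence_exact₃ hS Y x
      (Ext.eq_zero_of_projective _) (n₀ := 0) rfl
    obtain ⟨g, rfl⟩ := (Ext.mk₀_bijective S.X₁ Y).2 x₁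
    exact ⟨g.hom, hx₁⟩
  have hzero : ∀ f, δ f = 0 ↔ ∃ g : (Fin r → B) →ₗ[B] B, g ∘ₗ ψ = f := by
    intro f
    constructor
    · intro h
      obtain ⟨x₂, hx₂⟩ := Ext.contravariant_sequence_exact₁ hS Y (Ext.mk₀ (ModuleCat.ofHom f)) rfl h
      obtain ⟨g, rfl⟩ := (Ext.mk₀_bijective S.X₂ Y).2 x₂
      rw [Ext.mk₀_comp_mk₀] at hx₂
      refine ⟨g.hom, ?_⟩
      exact congrArg ModuleCat.Hom.hom ((Ext.mk₀_bijective _ _).1 hx₂)
    · rintro ⟨g, rfl⟩
      show hS.extClass.comp (Ext.mk₀ (ModuleCat.ofHom (g ∘ₗ ψ))) (add_zero 1) = 0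
      rw [show (ModuleCat.ofHom (g ∘ₗ ψ) : S.X₁ ⟶ Y) = S.f ≫ ModuleCat.ofHom g from rfl,
        ← Ext.mk₀_comp_mk₀, ← Ext.comp_assoc hS.extClass (Ext.mk₀ S.f) _ (add_zero 1) (zero_add 0)
          (by omega), hS.extClass_comp, Ext.zero_comp]
  let φ : (Fin c → B) →ₗ[B] (Q →ₗ[B] B) :=
    LinearMap.lcomp B B Q.subtype ∘ₗ dotProductBilin B B
  have hφ : ∀ v (x : Q), φ v x = v ⬝ᵥ (x : Fin c → B) := fun v x => rfl
  have hφsurj : Function.Surjective φ := fun f => by
    refine ⟨fun i => f ⟨E i, ⟨Pi.single i 1, by simp; rfl⟩⟩, LinearMap.ext fun x => ?_⟩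
    have hx : x = ∑ i, (x : Fin c → B) i • (⟨E i, ⟨Pi.single i 1, by simp; rfl⟩⟩ : Q) := by
      refine Subtype.ext ?_
      refine (hQ x x.2).symm.trans ?_
      simp only [Submodule.coe_sum, Submodule.coe_smul, vecMul_eq_sum]
    rw [hφ]
    conv_rhs => rw [hx]
    simp [dotProduct, mul_comm]
  refine ⟨fun i => δ (φ (Pi.single i 1)), ?_, fun v => ?_⟩
  · refine eq_top_iff.mpr fun x _ => ?_
    obtain ⟨f, rfl⟩ := hsurj x
    obtain ⟨v, rfl⟩ := hφsurj f
    rw [pi_eq_sum_univ' v, map_sum, map_sum]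
    refine Submodule.sum_mem _ fun i _ => ?_
    rw [map_smul, map_smul]
    exact Submodule.smul_mem _ _ (Submodule.subset_span ⟨i, rfl⟩)
  · have hsum : ∑ i, v i • δ (φ (Pi.single i 1)) = δ (φ v) := by
      conv_rhs => rw [pi_eq_sum_univ' v, map_sum, map_sum]
      simp only [map_smul]
    rw [hsum, hzero, Submodule.mem_span_range_iff_exists_fun]
    constructor
    · rintro ⟨g, hg⟩
      refine ⟨Sum.elim (fun j => g (Pi.single j 1)) v, funext fun i => ?_⟩
      have h := LinearMap.congr_fun hg ⟨E i, ⟨Pi.single i 1, by simp; rfl⟩⟩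
      have h2 : ψ ⟨E i, ⟨Pi.single i 1, by simp; rfl⟩⟩ = A i := congrFun hEA i
      rw [hφ, LinearMap.comp_apply, h2, pi_eq_sum_univ' (A i), map_sum] at h
      simp only [map_smul, smul_eq_mul] at h
      simp only [Fintype.sum_sum_type, Sum.elim_inl, Sum.elim_inr, Pi.add_apply, Finset.sum_apply,
        Pi.smul_apply, smul_eq_mul, Matrix.sub_apply, mul_sub, Finset.sum_sub_distrib, Matrix.one_apply,
        mul_ite, mul_one, mul_zero, Finset.sum_ite_eq, Finset.mem_univ, if_true]
      rw [Finset.sum_congr rfl (fun j _ => mul_comm (g (Pi.single j 1)) (A i j)), h]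
      simp [dotProduct]
    · rintro ⟨w, hw⟩
      refine ⟨dotProductBilin B B (fun j => w (Sum.inl j)), LinearMap.ext fun x => ?_⟩
      have h1 : v = A *ᵥ (fun j => w (Sum.inl j)) + (1 - E) *ᵥ (fun k => w (Sum.inr k)) := by
        rw [← hw]
        ext i
        simp [Fintype.sum_sum_type, Matrix.mulVec, dotProduct, mul_comm]
      have h2 : (x : Fin c → B) ᵥ* (1 - E) = 0 := by
        rw [Matrix.vecMul_sub, Matrix.vecMul_one, hQ x x.2, sub_self]
      show (fun j => w (Sum.inl j)) ⬝ᵥ ((x : Fin c → B) ᵥ* A) = v ⬝ᵥ (x : Fin c → B)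
      rw [h1, add_dotProduct, dotProduct_comm _ (x : Fin c → B), dotProduct_comm _ (x : Fin c → B),
        dotProduct_mulVec, dotProduct_mulVec, h2, zero_dotProduct, add_zero, dotProduct_comm]

end Ext

section Split

variable {B : Type u} [CommRing B] {n : ℕ}

/-- The matrices attached to a presentation with finite projective kernel. -/
theorem exists_matrices {K Ω : Type u} [AddCommGroup K] [Module B K] [AddCommGroup Ω] [Module B Ω]
    [Module.Projective B K] [Module.Finite B K] (d : K →ₗ[B] (Fin n → B)) (π : (Fin n → B) →ₗ[B] Ω)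
    (hd : Function.Injective d) (hex : Function.Exact d π) :
    ∃ (c : ℕ) (A : Matrix (Fin c) (Fin n) B) (E : Matrix (Fin c) (Fin c) B),
      E * E = E ∧ E * A = A ∧ LinearMap.ker π = LinearMap.range A.vecMulLinear ∧
      (∀ v, v ᵥ* A = 0 → v ᵥ* E = 0) ∧
      ∀ (t : B) (σ : Ω →ₗ[B] (Fin n → B)), π ∘ₗ σ = t • LinearMap.id →
        ∃ M : Matrix (Fin n) (Fin c) B, t • E = A * M := by
  classical
  obtain ⟨c, q, hq⟩ := Module.Finite.exists_fin' B K
  obtain ⟨s, hs⟩ := Module.projective_lifting_property q LinearMap.id hq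
  have hsq : ∀ k, q (s k) = k := fun k => LinearMap.congr_fun hs k
  let A : Matrix (Fin c) (Fin n) B := LinearMap.toMatrixRight' (d ∘ₗ q)
  let E : Matrix (Fin c) (Fin c) B := LinearMap.toMatrixRight' (s ∘ₗ q)
  have hA : ∀ v, v ᵥ* A = d (q v) := fun v =>
    LinearMap.congr_fun ((LinearMap.toMatrixRight').symm_apply_apply (d ∘ₗ q)) v
  have hE : ∀ v, v ᵥ* E = s (q v) := fun v =>
    LinearMap.congr_fun ((LinearMap.toMatrixRight').symm_apply_apply (s ∘ₗ q)) v
  refine ⟨c, A, E, ?_, ?_, ?_, ?_, ?_⟩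
  · exact Matrix.ext_of_single_vecMul fun i => by rw [← Matrix.vecMul_vecMul, hE, hE, hsq]
  · exact Matrix.ext_of_single_vecMul fun i => by rw [← Matrix.vecMul_vecMul, hA, hE, hA, hsq]
  · rw [LinearMap.exact_iff.mp hex]
    ext y
    constructor
    · rintro ⟨k, rfl⟩
      exact ⟨s k, (hA _).trans (by rw [hsq])⟩
    · rintro ⟨v, rfl⟩
      exact ⟨q v, (hA v).symm⟩
  · intro v hv
    rw [hA, map_eq_zero_iff d hd] at hv
    rw [hE, hv, map_zero]
  · intro t σ hσ
    have hmem : ∀ y, ∃ k, d k = t • y - σ (π y) := fun y => by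
      refine (hex _).mp ?_
      rw [map_sub, map_smul, show π (σ (π y)) = t • π y from LinearMap.congr_fun hσ (π y), sub_self]
    choose l hl using hmem
    let L : (Fin n → B) →ₗ[B] K :=
      { toFun := l
        map_add' := fun x y => hd (by simp only [map_add, hl, smul_add]; abel)
        map_smul' := fun a x => hd (by simp only [map_smul, hl, RingHom.id_apply, smul_sub]; rw [smul_comm]) }
    refine ⟨LinearMap.toMatrixRight' (s ∘ₗ L), Matrix.ext_of_single_vecMul fun i => ?_⟩
    rw [Matrix.vecMul_smul, hE, ← Matrix.vecMul_vecMul, hA]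
    refine Eq.symm ((LinearMap.congr_fun ((LinearMap.toMatrixRight').symm_apply_apply (s ∘ₗ L)) _).trans ?_)
    rw [LinearMap.comp_apply, ← map_smul]
    refine congrArg s (hd ?_)
    show d (l _) = _
    rw [hl, hex.apply_apply_eq_zero, map_zero, sub_zero, map_smul]

theorem exists_section_of_localized {M N : Type u} [AddCommGroup M] [Module B M] [AddCommGroup N] [Module B N]
    [Module.FinitePresentation B M] (π : N →ₗ[B] M) (hπ : Function.Surjective π) (q : Ideal B) [q.IsPrime]
    [Module.Projective (Localization.AtPrime q) (LocalizedModule q.primeCompl M)] :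
    ∃ t ∉ q, ∃ σ : M →ₗ[B] N, π ∘ₗ σ = t • LinearMap.id := by
  let S := q.primeCompl
  let fM := LocalizedModule.mkLinearMap S M
  let fN := LocalizedModule.mkLinearMap S N
  let π' := IsLocalizedModule.mapExtendScalars S fN fM (Localization.AtPrime q) π
  have hπ' : Function.Surjective π' := IsLocalizedModule.map_surjective S fN fM π hπ
  obtain ⟨σ', hσ'⟩ := Module.projective_lifting_property π' LinearMap.id hπ'
  obtain ⟨σ, t₁, hσ⟩ := Module.FinitePresentation.exists_lift_of_isLocalizedModule S fN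
    (σ'.restrictScalars B ∘ₗ fM)
  obtain ⟨t₂, ht₂⟩ : ∃ t₂ : S, t₂ • (π ∘ₗ σ) = t₂ • ((t₁ : B) • LinearMap.id) := by
    refine Module.Finite.exists_smul_of_comp_eq_of_isLocalizedModule S fM _ _ (LinearMap.ext fun m => ?_)
    have h1 : fN (σ m) = (t₁ : B) • σ' (fM m) := LinearMap.congr_fun hσ m
    have h2 : π' (fN (σ m)) = fM (π (σ m)) := IsLocalizedModule.map_apply S fN fM π (σ m)
    rw [h1, LinearMap.map_smul_of_tower, show π' (σ' (fM m)) = fM m from LinearMap.congr_fun hσ' (fM m)] at h2
    show fM (π (σ m)) = fM ((t₁ : B) • m)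
    rw [map_smul, ← h2]
  refine ⟨(t₂ : B) * t₁, (t₂ * t₁).2, (t₂ : B) • σ, ?_⟩
  rw [LinearMap.comp_smul, mul_smul]
  exact ht₂

end Split

section Quot

variable {A P : Type u} [CommRing A] [CommRing P] [Algebra A P] (J : Ideal A)

/-- Differentials of `P/JP` are `Ω_{P/A}` modulo `J`. -/
theorem ker_kaehler_map :
    LinearMap.ker (KaehlerDifferential.map A A P (P ⧸ J.map (algebraMap A P))) =
      J.map (algebraMap A P) • (⊤ : Submodule P (KaehlerDifferential A P)) := by
  let I := J.map (algebraMap A P)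
  have hzero : KaehlerDifferential.kerToTensor A P (P ⧸ I) = 0 := by
    refine LinearMap.ext fun x => ?_
    have hx : (x : P) ∈ I := Ideal.Quotient.eq_zero_iff_mem.mp x.2
    rw [KaehlerDifferential.kerToTensor_apply, LinearMap.zero_apply]
    revert hx
    generalize (x : P) = y
    intro hy
    refine Submodule.span_induction ?_ (by simp) (fun a b _ _ ha hb => by rw [map_add, TensorProduct.tmul_add, ha, hb, add_zero]) ?_ hy
    · rintro _ ⟨a, ha, rfl⟩
      rw [Derivation.map_algebraMap, TensorProduct.tmul_zero]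
    · intro a b hb h
      rw [smul_eq_mul, Derivation.leibniz, TensorProduct.tmul_add, ← TensorProduct.smul_tmul,
        ← TensorProduct.smul_tmul, Algebra.smul_def b, show algebraMap P (P ⧸ I) b = 0 from
          Ideal.Quotient.eq_zero_iff_mem.mpr hb, zero_mul, TensorProduct.zero_tmul, add_zero,
        show (a • (1 : P ⧸ I)) = a • 1 from rfl, ← TensorProduct.smul_tmul', h, smul_zero]
  have hsurj : Function.Surjective (algebraMap P (P ⧸ I)) := Ideal.Quotient.mk_surjective
  have hinj : Function.Injective (KaehlerDifferential.mapBaseChange A P (P ⧸ I)) := by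
    rw [← LinearMap.ker_eq_bot, eq_bot_iff]
    intro z hz
    obtain ⟨y, rfl⟩ := ((KaehlerDifferential.exact_kerCotangentToTensor_mapBaseChange A P (P ⧸ I) hsurj) z).mp hz
    obtain ⟨x, rfl⟩ := Ideal.toCotangent_surjective _ y
    exact LinearMap.congr_fun hzero x
  ext w
  rw [LinearMap.mem_ker]
  have h1 : KaehlerDifferential.mapBaseChange A P (P ⧸ I) (1 ⊗ₜ w) = KaehlerDifferential.map A A P (P ⧸ I) w := by
    rw [KaehlerDifferential.mapBaseChange_tmul, one_smul]
  rw [← h1, map_eq_zero_iff _ hinj, ← (TensorProduct.quotTensorEquivQuotSMul _ I).map_eq_zero_iff,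
    ← map_one (Ideal.Quotient.mk I), TensorProduct.quotTensorEquivQuotSMul_mk_tmul, one_smul,
    Submodule.Quotient.mk_eq_zero]

theorem associated_fibre_minimal [IsNoetherianRing A] [IsNoetherianRing P] [Module.Flat A P]
    (hlci : LCI.IsLCI A P) (q : Ideal P) (hq : q ∈ associatedPrimes P (P ⧸ J.map (algebraMap A P)))
    (q' : Ideal P) [q'.IsPrime] (hle : q' ≤ q)
    (hcomap : q'.comap (algebraMap A P) = q.comap (algebraMap A P)) : q' = q := by
  have hq2 : q ∈ associatedPrimes P (P ⊗[A] (A ⧸ J)) := by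
    rw [← LinearEquiv.AssociatedPrimes.eq (Algebra.TensorProduct.quotIdealMapEquivTensorQuot P J).toLinearEquiv]
    exact hq
  rw [S2069.result] at hq2
  simp only [Set.mem_iUnion] at hq2
  obtain ⟨p, hp, hqp⟩ := hq2
  haveI := hp.isPrime
  haveI := hqp.isPrime
  obtain ⟨-, m, hm⟩ := isAssociatedPrime_iff.mp hqp
  have hpq : q.comap (algebraMap A P) = p :=
    H02CA.FibreAss.comap_eq_of_ass_quot p ⟨inferInstance, m, hm.trans (by
      ext b
      rw [Submodule.mem_colon_singleton, Submodule.mem_bot, Submodule.mem_annihilator_span_singleton])⟩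
  subst hpq
  suffices h : ∃ _ : IsLocalRing
      (Localization.AtPrime q ⧸ (q.comap (algebraMap A P)).map (algebraMap A (Localization.AtPrime q))),
      LocCoh.depth (Localization.AtPrime q ⧸ (q.comap (algebraMap A P)).map (algebraMap A (Localization.AtPrime q)))
        (Localization.AtPrime q ⧸ (q.comap (algebraMap A P)).map (algebraMap A (Localization.AtPrime q))) = 0 by
    obtain ⟨hloc, hd⟩ := h
    exact LciH1.minimal_of_fibre_depth_zero hlci q hd q' hle hcomap
  obtain ⟨b, rfl⟩ := Submodule.Quotient.mk_surjective _ m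
  let L := Localization.AtPrime q
  let I := (q.comap (algebraMap A P)).map (algebraMap A P)
  let M := L ⧸ (q.comap (algebraMap A P)).map (algebraMap A L)
  have hI : (q.comap (algebraMap A P)).map (algebraMap A L) = I.map (algebraMap P L) := by
    rw [Ideal.map_map, ← IsScalarTower.algebraMap_eq]
  have hmem : ∀ x : P, x ∈ q ↔ x * b ∈ I := fun x => by
    rw [hm, Submodule.mem_colon_singleton, Submodule.mem_bot, ← Submodule.Quotient.mk_smul,
      Submodule.Quotient.mk_eq_zero, smul_eq_mul, smul_eq_mul, Ideal.mul_top]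
  let z : M := Ideal.Quotient.mk _ (algebraMap P L b)
  have hz : z ≠ 0 := by
    intro h
    rw [Ideal.Quotient.eq_zero_iff_mem, hI, IsLocalization.algebraMap_mem_map_algebraMap_iff q.primeCompl] at h
    obtain ⟨t, ht, htb⟩ := h
    exact ht ((hmem t).mpr htb)
  haveI : Nontrivial M := ⟨⟨z, 0, hz⟩⟩
  haveI : IsLocalRing M := .of_surjective' _ Ideal.Quotient.mk_surjective
  have hIM : maximalIdeal M • (⊤ : Submodule M M) ≠ ⊤ := by
    rw [smul_eq_mul, Ideal.mul_top]; exact (maximalIdeal.isMaximal M).ne_top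
  refine ⟨inferInstance, (H4Depth.idealDepth_eq_zero_iff hIM).mpr fun y hy hreg => hz ?_⟩
  rw [← IsLocalRing.map_maximalIdeal_of_surjective _ Ideal.Quotient.mk_surjective,
    ← Localization.AtPrime.map_eq_maximalIdeal, Ideal.map_map] at hy
  refine (isSMulRegular_iff_right_eq_zero_of_smul.mp hreg) _ ?_
  rw [smul_eq_mul]
  refine Submodule.span_induction ?_ (zero_mul _) (fun u v _ _ hu hv => by rw [add_mul, hu, hv, add_zero])
    (fun u v _ hv => by rw [smul_eq_mul, mul_assoc, hv, mul_zero]) hy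
  rintro _ ⟨x, hx, rfl⟩
  rw [RingHom.comp_apply, ← map_mul, ← map_mul, Ideal.Quotient.eq_zero_iff_mem, hI]
  exact Ideal.mem_map_of_mem _ ((hmem x).mp hx)

end Quot

section Main

variable {A P : Type u} [CommRing A] [IsNoetherianRing A] [CommRing P] [Algebra A P] [Module.Flat A P]

theorem exists_data (hlci : LCI.IsLCI A P)
    (hgs : ∀ 𝔓 : PrimeSpectrum P,
      (∀ 𝔔 : PrimeSpectrum P, 𝔔 ≤ 𝔓 →
          𝔔.asIdeal.comap (algebraMap A P) = 𝔓.asIdeal.comap (algebraMap A P) → 𝔔 = 𝔓) →
        𝔓 ∈ Algebra.smoothLocus A P) :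
    ∃ (n c : ℕ) (π : (Fin n → P) →ₗ[P] KaehlerDifferential A P)
      (M : Matrix (Fin c) (Fin n) P) (E : Matrix (Fin c) (Fin c) P),
      Function.Surjective π ∧ E * E = E ∧ E * M = M ∧ LinearMap.ker π = LinearMap.range M.vecMulLinear ∧
      (∀ v, v ᵥ* M = 0 → v ᵥ* E = 0) ∧
      ∀ (t : P) (σ : KaehlerDifferential A P →ₗ[P] (Fin n → P)), π ∘ₗ σ = t • LinearMap.id →
        ∃ B : Matrix (Fin n) (Fin c) P, t • E = M * B := by
  have h1 := LciH1.subsingleton_h1Cotangent hlci hgs
  obtain ⟨hft, n, f, hf, hI⟩ := hlci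
  haveI := hft
  have haeval : f = MvPolynomial.aeval (fun i => f (MvPolynomial.X i)) :=
    MvPolynomial.algHom_ext fun i => by simp
  let G : Algebra.Generators A P (Fin n) :=
    Algebra.Generators.ofSurjective (fun i => f (MvPolynomial.X i)) (fun b => by
      obtain ⟨a, ha⟩ := hf b
      exact ⟨a, by rw [← haeval]; exact ha⟩)
  let X := G.toExtension
  have halg : ∀ a : MvPolynomial (Fin n) A, algebraMap X.Ring P a = f a := fun a =>
    (AlgHom.congr_fun haeval a).symm
  have hker : X.ker = RingHom.ker f.toRingHom := by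
    refine Ideal.ext fun a => ?_
    exact (RingHom.mem_ker.trans (Eq.congr_left (halg a))).trans RingHom.mem_ker.symm
  haveI : Module.Projective (X.Ring ⧸ X.ker) X.ker.Cotangent := by
    refine LciH1.projective_cotangent ?_
    have h : (X.ker : Ideal (MvPolynomial (Fin n) A)) = RingHom.ker f.toRingHom := hker
    exact h ▸ hI
  haveI : IsNoetherianRing X.Ring := inferInstanceAs (IsNoetherianRing (MvPolynomial (Fin n) A))
  haveI : Module.Finite P X.Cotangent := Algebra.Extension.Cotangent.finite (IsNoetherian.noetherian X.ker)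
  haveI : Module.Projective P X.Cotangent := by
    let e : (X.Ring ⧸ X.ker) ≃+* P := RingHom.quotientKerEquivOfSurjective X.algebraMap_surjective
    letI : RingHomInvPair (e : (X.Ring ⧸ X.ker) →+* P) (e.symm : P →+* (X.Ring ⧸ X.ker)) :=
      RingHomInvPair.of_ringEquiv e
    letI : RingHomInvPair (e.symm : P →+* (X.Ring ⧸ X.ker)) (e : (X.Ring ⧸ X.ker) →+* P) :=
      RingHomInvPair.of_ringEquiv e.symm
    let E2 : X.ker.Cotangent ≃ₛₗ[(e : (X.Ring ⧸ X.ker) →+* P)] X.Cotangent :=
      { toFun := Algebra.Extension.Cotangent.of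
        invFun := Algebra.Extension.Cotangent.val
        map_add' := fun _ _ => rfl
        map_smul' := fun r x => by
          obtain ⟨a, rfl⟩ := Ideal.Quotient.mk_surjective r
          refine Algebra.Extension.Cotangent.ext ?_
          change a • x = (algebraMap X.Ring P a • (Algebra.Extension.Cotangent.of x : X.Cotangent)).val
          rw [algebraMap_smul, Algebra.Extension.Cotangent.val_smul']
          rfl
        left_inv := fun _ => rfl
        right_inv := fun _ => rfl }
    exact Module.Projective.of_equiv E2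
  let b := G.cotangentSpaceBasis.equivFun
  let d : X.Cotangent →ₗ[P] (Fin n → P) := b.toLinearMap ∘ₗ X.cotangentComplex
  let π : (Fin n → P) →ₗ[P] KaehlerDifferential A P := X.toKaehler ∘ₗ b.symm.toLinearMap
  have hd : Function.Injective d := by
    refine b.injective.comp ?_
    rw [← Algebra.Extension.subsingleton_h1Cotangent]
    exact G.equivH1Cotangent.toEquiv.subsingleton
  have hex : Function.Exact d π := fun y => by
    refine ((X.exact_cotangentComplex_toKaehler (b.symm y))).trans ?_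
    constructor
    · rintro ⟨x, hx⟩
      exact ⟨x, by simp [d, hx]⟩
    · rintro ⟨x, rfl⟩
      exact ⟨x, by simp [d]⟩
  obtain ⟨c, M, E, h⟩ := exists_matrices d π hd hex
  exact ⟨n, c, π, M, E, X.toKaehler_surjective.comp b.symm.surjective, h⟩

theorem nonempty_baseChange_ext_equiv (hlci : LCI.IsLCI A P)
    (hgs : ∀ 𝔓 : PrimeSpectrum P,
      (∀ 𝔔 : PrimeSpectrum P, 𝔔 ≤ 𝔓 →
          𝔔.asIdeal.comap (algebraMap A P) = 𝔓.asIdeal.comap (algebraMap A P) → 𝔔 = 𝔓) →
        𝔓 ∈ Algebra.smoothLocus A P) (J : Ideal A) :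
    Nonempty
      ((P ⧸ J.map (algebraMap A P)) ⊗[P]
          Ext.{u} (ModuleCat.of P (KaehlerDifferential A P)) (ModuleCat.of P P) 1 ≃ₗ[P ⧸ J.map (algebraMap A P)]
        Ext.{u}
          (ModuleCat.of (P ⧸ J.map (algebraMap A P)) (KaehlerDifferential A (P ⧸ J.map (algebraMap A P))))
          (ModuleCat.of (P ⧸ J.map (algebraMap A P)) (P ⧸ J.map (algebraMap A P))) 1) := by
  classical
  obtain ⟨n, c, π, M, E, hπ, hE, hEM, hker, hinj, hloc⟩ := exists_data hlci hgs
  haveI := hlci.1
  haveI : IsNoetherianRing P := Algebra.FiniteType.isNoetherianRing A P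
  let T := P ⧸ J.map (algebraMap A P)
  let φ : P →+* T := algebraMap P T
  have hφ : Function.Surjective φ := Ideal.Quotient.mk_surjective
  let D := KaehlerDifferential.map A A P T
  let πT : (Fin n → T) →ₗ[T] KaehlerDifferential A T :=
    Fintype.linearCombination T fun j => D (π (Pi.single j 1))
  have hπT : ∀ v : Fin n → P, πT (φ ∘ v) = D (π v) := fun v => by
    conv_rhs => rw [pi_eq_sum_univ' v, map_sum, map_sum]
    simp only [πT, Fintype.linearCombination_apply, map_smul, Function.comp_apply]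
    exact Finset.sum_congr rfl fun j _ => algebraMap_smul T (v j) _
  have hπTsurj : Function.Surjective πT := fun y => by
    obtain ⟨w, rfl⟩ := KaehlerDifferential.map_surjective_of_surjective (R := A) (S := A) (A := P) (B := T) hφ y
    obtain ⟨v, rfl⟩ := hπ w
    exact ⟨φ ∘ v, hπT v⟩
  have hmap : ∀ v : Fin c → P, (φ ∘ v) ᵥ* M.map φ = φ ∘ (v ᵥ* M) := fun v =>
    funext fun i => (φ.map_vecMul M v i).symm
  have hkerT : LinearMap.ker πT = LinearMap.range (M.map φ).vecMulLinear := by
    refine le_antisymm (fun w hw => ?_) ?_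
    · obtain ⟨v, rfl⟩ : ∃ v : Fin n → P, φ ∘ v = w :=
        ⟨fun i => (hφ (w i)).choose, funext fun i => (hφ (w i)).choose_spec⟩
      rw [LinearMap.mem_ker, hπT] at hw
      have hv : π v ∈ J.map (algebraMap A P) • (⊤ : Submodule P (KaehlerDifferential A P)) :=
        (ker_kaehler_map J).le hw
      rw [← LinearMap.range_eq_top.mpr hπ, LinearMap.range_eq_map, ← Submodule.map_smul''] at hv
      obtain ⟨u, hu, huv⟩ := hv
      obtain ⟨z, hz⟩ : v - u ∈ LinearMap.range M.vecMulLinear := by
        rw [← hker, LinearMap.mem_ker, map_sub, huv, sub_self]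
      refine ⟨φ ∘ z, ?_⟩
      rw [Matrix.vecMulLinear_apply, hmap, show z ᵥ* M = v - u from hz]
      funext i
      have hui : u i ∈ J.map (algebraMap A P) := by
        refine Submodule.smul_induction_on hu (fun r hr x _ => ?_) (fun x y hx hy => add_mem hx hy)
        exact Ideal.mul_mem_right _ _ hr
      simp [φ, T, Ideal.Quotient.eq_zero_iff_mem.mpr hui]
    · rintro _ ⟨z, rfl⟩
      obtain ⟨z, rfl⟩ : ∃ y : Fin c → P, φ ∘ y = z :=
        ⟨fun i => (hφ (z i)).choose, funext fun i => (hφ (z i)).choose_spec⟩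
      rw [LinearMap.mem_ker, Matrix.vecMulLinear_apply, hmap, hπT,
        (hker.ge ⟨z, rfl⟩ : π (z ᵥ* M) = 0), map_zero]
  have hinjT : ∀ w, w ᵥ* M.map φ = 0 → w ᵥ* E.map φ = 0 := by
    intro w hw
    funext k
    by_contra hk
    obtain ⟨q, hq, hle⟩ := exists_le_isAssociatedPrime_of_isNoetherianRing P _ hk
    haveI := hq.isPrime
    have hsm := hgs ⟨q, inferInstance⟩ fun 𝔔 hl hc =>
      PrimeSpectrum.ext (associated_fibre_minimal J hlci q hq 𝔔.asIdeal hl hc)
    haveI : Algebra.FormallySmooth A (Localization.AtPrime q) := hsm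
    haveI : Algebra.FinitePresentation A P := Algebra.FinitePresentation.of_finiteType.mp hlci.1
    haveI : Module.Projective (Localization.AtPrime q)
        (LocalizedModule q.primeCompl (KaehlerDifferential A P)) := by
      have e := (IsLocalizedModule.iso q.primeCompl
        (KaehlerDifferential.map A A P (Localization.AtPrime q))).extendScalarsOfIsLocalization
        q.primeCompl (Localization.AtPrime q)
      exact Module.Projective.of_equiv' e.symm
    obtain ⟨t, ht, σ, hσ⟩ := exists_section_of_localized π hπ q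
    obtain ⟨B, hB⟩ := hloc t σ hσ
    refine ht (hle ?_)
    rw [Submodule.mem_colon_singleton, Submodule.mem_bot, Algebra.smul_def]
    have h := congrFun (congrArg (fun N : Matrix (Fin c) (Fin c) P => w ᵥ* N.map φ) hB) k
    simp only [Matrix.map_mul, ← Matrix.vecMul_vecMul, hw, Matrix.zero_vecMul, Pi.zero_apply] at h
    rw [← h]
    simp [Matrix.vecMul, dotProduct, Finset.mul_sum, φ]
    exact Finset.sum_congr rfl fun i _ => by ring
  have hET : E.map φ * E.map φ = E.map φ := by rw [← Matrix.map_mul, hE]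
  have hEMT : E.map φ * M.map φ = M.map φ := by rw [← Matrix.map_mul, hEM]
  obtain ⟨e, he, hre⟩ := exists_ext_presentation_idem M E hE hEM π hπ hker hinj
  obtain ⟨g, hg, hrg⟩ := exists_ext_presentation_idem (M.map φ) (E.map φ) hET hEMT πT hπTsurj hkerT hinjT
  refine H3CAlg.CompletedCI.nonempty_baseChange_equiv hφ
    (Sum.elim (fun j i => M i j) (fun k i => (1 - E) i k)) e g he hg hre fun v => (hrg v).trans ?_
  refine iff_of_eq (congrArg (fun S : Set (Fin c → T) => v ∈ Submodule.span T S) (congrArg Set.range ?_))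
  funext l i
  rcases l with j | k
  · rfl
  · simp [Matrix.one_apply, apply_ite φ, φ]

end Main

end Groth.Agent.H24Cot.ExtBaseChange
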