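import Groth.Agent.H24Cot.Basic
import Mathlib.Tactic.Module
import Mathlib.Tactic.LinearCombination

/-!
Two morphisms of presentations over the same square induce the same maps on `T⁰`, `T¹`, `T²`.
-/

universe u v w t u' v' w' t' m

open TensorProduct CotT

set_option linter.style.haveILetI false

noncomputable section

namespace Groth.Agent.H24Cot


section Twisted

variable {A' : Type u'} {B' : Type v'} {ι' : Type w'} {σ' : Type t'}
variable [CommRing A'] [CommRing B'] [Algebra A' B'] (P' : Algebra.Presentation A' B' ι' σ')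

/-- The relation module modulo the trivial relations. -/
abbrev Nmod : Type (max t' w' u') := relMod P' ⧸ trivRel P'

/-- `j` on `Nmod`. -/
def jbar : Nmod P' →ₗ[P'.toExtension.Ring] P'.toExtension.Ring :=
  (trivRel P').liftQ (jmap P') (trivRel_le_relKer P')

@[simp] theorem jbar_mk (f : relMod P') : jbar P' (Submodule.Quotient.mk f) = jmap P' f := rfl

theorem jbar_swap (m n : Nmod P') : jbar P' m • n = jbar P' n • m := by
  obtain ⟨a, rfl⟩ := Submodule.Quotient.mk_surjective _ m
  obtain ⟨b, rfl⟩ := Submodule.Quotient.mk_surjective _ n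
  rw [jbar_mk, jbar_mk, ← Submodule.Quotient.mk_smul, ← Submodule.Quotient.mk_smul, Submodule.Quotient.eq]
  exact Submodule.subset_span ⟨a, b, rfl⟩

/-- The ring `R' ⊕ N` with `N · N` given by `j`. -/
@[ext]
structure Tw where
  /-- the ring component -/
  fst : P'.toExtension.Ring
  /-- the module component -/
  snd : Nmod P'

instance : Zero (Tw P') := ⟨⟨0, 0⟩⟩
instance : One (Tw P') := ⟨⟨1, 0⟩⟩
instance : Add (Tw P') := ⟨fun x y => ⟨x.fst + y.fst, x.snd + y.snd⟩⟩
instance : Neg (Tw P') := ⟨fun x => ⟨-x.fst, -x.snd⟩⟩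
instance : Mul (Tw P') :=
  ⟨fun x y => ⟨x.fst * y.fst, x.fst • y.snd + y.fst • x.snd + jbar P' x.snd • y.snd⟩⟩

variable {P'}

@[simp] theorem Tw.zero_fst : (0 : Tw P').fst = 0 := rfl
@[simp] theorem Tw.zero_snd : (0 : Tw P').snd = 0 := rfl
@[simp] theorem Tw.one_fst : (1 : Tw P').fst = 1 := rfl
@[simp] theorem Tw.one_snd : (1 : Tw P').snd = 0 := rfl
@[simp] theorem Tw.add_fst (x y : Tw P') : (x + y).fst = x.fst + y.fst := rfl
@[simp] theorem Tw.add_snd (x y : Tw P') : (x + y).snd = x.snd + y.snd := rfl
@[simp] theorem Tw.neg_fst (x : Tw P') : (-x).fst = -x.fst := rfl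
@[simp] theorem Tw.neg_snd (x : Tw P') : (-x).snd = -x.snd := rfl
@[simp] theorem Tw.mul_fst (x y : Tw P') : (x * y).fst = x.fst * y.fst := rfl
@[simp] theorem Tw.mul_snd (x y : Tw P') :
    (x * y).snd = x.fst • y.snd + y.fst • x.snd + jbar P' x.snd • y.snd := rfl

instance : CommRing (Tw P') where
  add_assoc x y z := Tw.ext (add_assoc _ _ _) (add_assoc _ _ _)
  zero_add x := Tw.ext (zero_add _) (zero_add _)
  add_zero x := Tw.ext (add_zero _) (add_zero _)
  add_comm x y := Tw.ext (add_comm _ _) (add_comm _ _)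
  neg_add_cancel x := Tw.ext (neg_add_cancel _) (neg_add_cancel _)
  nsmul := nsmulRec
  zsmul := zsmulRec
  left_distrib x y z := Tw.ext (mul_add _ _ _) (by simp only [Tw.mul_snd, Tw.add_fst, Tw.add_snd]; module)
  right_distrib x y z := Tw.ext (add_mul _ _ _)
    (by simp only [Tw.mul_snd, Tw.add_fst, Tw.add_snd, map_add]; module)
  zero_mul x := Tw.ext (zero_mul _) (by simp)
  mul_zero x := Tw.ext (mul_zero _) (by simp)
  mul_assoc x y z := Tw.ext (mul_assoc _ _ _) (by
    simp only [Tw.mul_snd, Tw.mul_fst, map_add, map_smul, smul_eq_mul]; module)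
  one_mul x := Tw.ext (one_mul _) (by simp)
  mul_one x := Tw.ext (mul_one _) (by simp)
  mul_comm x y := Tw.ext (mul_comm _ _) (by
    rw [Tw.mul_snd, Tw.mul_snd, jbar_swap P' x.snd y.snd]; abel)

variable (P')

/-- first component -/
def Tw.fstHom : Tw P' →+* P'.toExtension.Ring where
  toFun := Tw.fst
  map_one' := rfl
  map_mul' _ _ := rfl
  map_zero' := rfl
  map_add' _ _ := rfl

/-- the other projection -/
def Tw.sumHom : Tw P' →+* P'.toExtension.Ring where
  toFun x := x.fst + jbar P' x.snd
  map_one' := by simp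
  map_mul' x y := by simp only [Tw.mul_fst, Tw.mul_snd, map_add, map_smul, smul_eq_mul]; ring
  map_zero' := by simp
  map_add' x y := by simp only [Tw.add_fst, Tw.add_snd, map_add]; ring

/-- inclusion -/
def Tw.inl : P'.toExtension.Ring →+* Tw P' where
  toFun a := ⟨a, 0⟩
  map_one' := rfl
  map_mul' a b := Tw.ext rfl (by simp)
  map_zero' := rfl
  map_add' a b := Tw.ext rfl (by simp)

end Twisted

variable {A : Type u} {B : Type v} {ι : Type w} {σ : Type t}
variable {A' : Type u'} {B' : Type v'} {ι' : Type w'} {σ' : Type t'}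
variable [CommRing A] [CommRing B] [Algebra A B] [CommRing A'] [CommRing B'] [Algebra A' B']
variable [Algebra A A'] [Algebra B B'] [Algebra A B'] [IsScalarTower A A' B'] [IsScalarTower A B B']
variable {P : Algebra.Presentation A B ι σ} {P' : Algebra.Presentation A' B' ι' σ'} (h h' : PresHom P P')

variable (P) in
/-- A variable, in the presentation's ring. -/
abbrev Xv (i : ι) : P.toExtension.Ring := MvPolynomial.X i

variable (P) in
/-- A constant, in the presentation's ring. -/
abbrev Cv (a : A) : P.toExtension.Ring := MvPolynomial.C a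

theorem ring_hom_ext {S : Type*} [CommSemiring S] {f g : P.toExtension.Ring →+* S}
    (hC : ∀ a, f (Cv P a) = g (Cv P a)) (hX : ∀ i, f (Xv P i) = g (Xv P i)) : f = g :=
  MvPolynomial.ringHom_ext hC hX

variable (P) in
theorem basis_eq (i : ι) :
    (1 : B) ⊗ₜ[P.toExtension.Ring] KaehlerDifferential.D A P.toExtension.Ring (Xv P i) =
      P.cotangentSpaceBasis i :=
  (Algebra.Generators.cotangentSpaceBasis_apply (P := P.toGenerators) i).symm

@[elab_as_elim]
theorem ring_induction {motive : P.toExtension.Ring → Prop} (r : P.toExtension.Ring)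
    (C : ∀ a, motive (Cv P a)) (add : ∀ p q, motive p → motive q → motive (p + q))
    (mul_X : ∀ p i, motive p → motive (p * Xv P i)) : motive r :=
  MvPolynomial.induction_on r C add mul_X

theorem algebraMap_sub (r : P.toExtension.Ring) :
    algebraMap P'.toExtension.Ring B' (h.ringHom r - h'.ringHom r) = 0 := by
  rw [map_sub, h.algebraMap_ringHom, h'.algebraMap_ringHom, sub_self]

/-- The difference of the images of the variables, lifted to `F'`. -/
def diffVar (i : ι) : Nmod P' :=
  Submodule.Quotient.mk (exists_jmap_eq P' (algebraMap_sub h h' (Xv P i))).choose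

theorem jbar_diffVar (i : ι) :
    jbar P' (diffVar h h' i) = h.ringHom (Xv P i) - h'.ringHom (Xv P i) :=
  (exists_jmap_eq P' (algebraMap_sub h h' (Xv P i))).choose_spec

/-- The twisted derivation as a ring map. -/
def twHom : P.toExtension.Ring →+* Tw P' :=
  MvPolynomial.eval₂Hom ((Tw.inl P').comp ((algebraMap A' P'.toExtension.Ring).comp (algebraMap A A')))
    fun i => ⟨h'.ringHom (Xv P i), diffVar h h' i⟩

theorem twHom_C (a : A) :
    twHom h h' (Cv P a) = Tw.inl P' (algebraMap A' P'.toExtension.Ring (algebraMap A A' a)) :=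
  MvPolynomial.eval₂Hom_C _ _ a

theorem twHom_X (i : ι) : twHom h h' (Xv P i) = ⟨h'.ringHom (Xv P i), diffVar h h' i⟩ :=
  MvPolynomial.eval₂Hom_X' _ _ i

theorem twHom_fst (r : P.toExtension.Ring) : (twHom h h' r).fst = h'.ringHom r := by
  have e : (Tw.fstHom P').comp (twHom h h') = h'.ringHom := by
    refine ring_hom_ext (fun a => ?_) fun i => ?_
    · rw [RingHom.comp_apply, twHom_C]
      exact (h'.hom.toExtensionHom.toRingHom_algebraMap a).symm
    · rw [RingHom.comp_apply, twHom_X]
      rfl
  exact RingHom.congr_fun e r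

theorem twHom_sum (r : P.toExtension.Ring) :
    (twHom h h' r).fst + jbar P' (twHom h h' r).snd = h.ringHom r := by
  have e : (Tw.sumHom P').comp (twHom h h') = h.ringHom := by
    refine ring_hom_ext (fun a => ?_) fun i => ?_
    · rw [RingHom.comp_apply, twHom_C]
      refine Eq.trans ?_ (h.hom.toExtensionHom.toRingHom_algebraMap a).symm
      change algebraMap A' P'.toExtension.Ring (algebraMap A A' a) + jbar P' 0 = _
      rw [map_zero, add_zero]
    · rw [RingHom.comp_apply, twHom_X]
      change h'.ringHom (Xv P i) + jbar P' (diffVar h h' i) = _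
      rw [jbar_diffVar, add_sub_cancel]
  exact RingHom.congr_fun e r

/-- The twisted derivation `R → F'/F₀'`. -/
def delta : P.toExtension.Ring →+ Nmod P' where
  toFun r := (twHom h h' r).snd
  map_zero' := by rw [map_zero]; rfl
  map_add' x y := by rw [map_add]; rfl

theorem jbar_delta (r : P.toExtension.Ring) :
    jbar P' (delta h h' r) = h.ringHom r - h'.ringHom r := by
  rw [← twHom_sum h h' r, twHom_fst, add_sub_cancel_left]
  rfl

theorem delta_mul (x y : P.toExtension.Ring) :
    delta h h' (x * y) = h.ringHom x • delta h h' y + h'.ringHom y • delta h h' x := by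
  change (twHom h h' (x * y)).snd = _
  rw [map_mul, Tw.mul_snd, twHom_fst, twHom_fst]
  change h'.ringHom x • delta h h' y + h'.ringHom y • delta h h' x + jbar P' (delta h h' x) • delta h h' y = _
  rw [jbar_delta, sub_smul]
  abel

theorem delta_C (a : A) : delta h h' (Cv P a) = 0 := by
  change (twHom h h' (Cv P a)).snd = 0
  rw [twHom_C]
  rfl

/-- The homotopy on a relation. -/
def kRel (s : σ) : Nmod P' :=
  Submodule.Quotient.mk (h.relVal s) - Submodule.Quotient.mk (h'.relVal s) - delta h h' (rel P s)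

theorem jbar_kRel (s : σ) : jbar P' (kRel h h' s) = 0 := by
  rw [kRel, map_sub, map_sub, jbar_mk, jbar_mk, h.jmap_relVal, h'.jmap_relVal, jbar_delta, sub_self]

theorem mk_relModMap_sub (f : relMod P) :
    (Submodule.Quotient.mk (h.relModMap f) - Submodule.Quotient.mk (h'.relModMap f) : Nmod P') =
      (f.sum fun s r => h.ringHom r • kRel h h' s) + delta h h' (jmap P f) := by
  induction f using Finsupp.induction_linear with
  | zero => simp
  | add f g hf hg =>
    rw [map_add, map_add, Submodule.Quotient.mk_add, Submodule.Quotient.mk_add, add_sub_add_comm, hf, hg,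
      Finsupp.sum_add_index' (fun s => by rw [map_zero, zero_smul]) (fun s a b => by rw [map_add, add_smul]), map_add, map_add]
    abel
  | single s r =>
    rw [PresHom.relModMap_single, PresHom.relModMap_single, Finsupp.sum_single_index (by rw [map_zero, zero_smul]), jmap_single,
      delta_mul, Submodule.Quotient.mk_smul, Submodule.Quotient.mk_smul]
    have e : h'.ringHom (rel P s) • delta h h' r =
        (h.ringHom r - h'.ringHom r) • (Submodule.Quotient.mk (h'.relVal s) : Nmod P') := by
      rw [← h'.jmap_relVal, ← jbar_mk, ← jbar_delta, jbar_swap]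
    rw [e, kRel, smul_sub, smul_sub, sub_smul]
    abel

/-- a representative in `Q'` of the homotopy -/
def kRep (s : σ) : relKer P' :=
  ⟨(Submodule.Quotient.mk_surjective _ (kRel h h' s)).choose, by
    have e := jbar_kRel h h' s
    rw [← (Submodule.Quotient.mk_surjective _ (kRel h h' s)).choose_spec, jbar_mk] at e
    exact e⟩

theorem mk_kRep (s : σ) : (Submodule.Quotient.mk (kRep h h' s : relMod P') : Nmod P') = kRel h h' s :=
  (Submodule.Quotient.mk_surjective _ (kRel h h' s)).choose_spec

/-- The class in `L₂'` of an element of `Q'`. -/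
def eta : relKer P' →+ L2 P' where
  toFun x := Submodule.Quotient.mk ((1 : B') ⊗ₜ[P'.toExtension.Ring] x)
  map_zero' := by rw [TensorProduct.tmul_zero]; rfl
  map_add' x y := by rw [TensorProduct.tmul_add]; rfl

theorem eta_smul (r : P'.toExtension.Ring) (x : relKer P') :
    eta (P' := P') (r • x) = algebraMap P'.toExtension.Ring B' r • eta x := by
  change Submodule.Quotient.mk ((1 : B') ⊗ₜ[P'.toExtension.Ring] (r • x)) = _
  rw [TensorProduct.tmul_smul, ← algebraMap_smul B' r, Submodule.Quotient.mk_smul]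
  rfl

theorem eta_eq_zero (x : relKer P') (hx : (x : relMod P') ∈ trivRel P') : eta (P' := P') x = 0 :=
  (Submodule.Quotient.mk_eq_zero _).mpr ⟨(1 : B') ⊗ₜ ⟨x, hx⟩, rfl⟩

theorem eta_eq_of_mk_eq {x y : relKer P'}
    (e : (Submodule.Quotient.mk (x : relMod P') : Nmod P') = Submodule.Quotient.mk (y : relMod P')) :
    eta (P' := P') x = eta y := by
  rw [← sub_eq_zero, ← map_sub]
  exact eta_eq_zero _ ((Submodule.Quotient.eq _).mp e)

theorem L2map_one_tmul (g : PresHom P P') (q : relKer P) :
    g.L2map (Submodule.Quotient.mk ((1 : B) ⊗ₜ q)) = eta (g.relKerMap q) := by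
  rw [PresHom.L2map_mk_tmul, map_one]
  rfl

theorem L1map_one_tmul (g : PresHom P P') (f : relMod P) :
    g.L1map ((1 : B) ⊗ₜ f) = (1 : B') ⊗ₜ g.relModMap f := by
  rw [PresHom.L1map_tmul, map_one]

/-- The combination of the homotopy along a relation. -/
def kSum : relMod P →+ relKer P' where
  toFun f := f.sum fun s r => h.ringHom r • kRep h h' s
  map_zero' := Finsupp.sum_zero_index
  map_add' f g := Finsupp.sum_add_index' (fun s => by rw [map_zero, zero_smul]) fun s a b => by rw [map_add, add_smul]

theorem kSum_single (s : σ) (r : P.toExtension.Ring) :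
    kSum h h' (Finsupp.single s r) = h.ringHom r • kRep h h' s := by
  change (Finsupp.single s r).sum (fun s r => h.ringHom r • kRep h h' s) = _
  rw [Finsupp.sum_single_index]
  rw [map_zero, zero_smul]

theorem mk_kSum (f : relMod P) :
    (Submodule.Quotient.mk (kSum h h' f : relMod P') : Nmod P') = f.sum fun s r => h.ringHom r • kRel h h' s := by
  induction f using Finsupp.induction_linear with
  | zero => rw [map_zero, Finsupp.sum_zero_index]; rfl
  | add f g hf hg =>
    rw [map_add, Submodule.coe_add, Submodule.Quotient.mk_add, hf, hg,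
      Finsupp.sum_add_index' (fun s => by rw [map_zero, zero_smul]) fun s a b => by rw [map_add, add_smul]]
  | single s r =>
    rw [kSum_single, Finsupp.sum_single_index (by rw [map_zero, zero_smul]), Submodule.coe_smul, Submodule.Quotient.mk_smul,
      mk_kRep]

theorem L2map_sub (q : relKer P) :
    eta (h.relKerMap q) - eta (h'.relKerMap q) = eta (kSum h h' (q : relMod P)) := by
  rw [← map_sub]
  refine eta_eq_of_mk_eq ?_
  rw [Submodule.coe_sub, Submodule.Quotient.mk_sub, PresHom.relKerMap_coe, PresHom.relKerMap_coe,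
    mk_relModMap_sub, mk_kSum, show jmap P (q : relMod P) = 0 from q.2, map_zero, add_zero]

variable (M' : Type m) [AddCommGroup M'] [Module B' M'] [Module B M'] [IsScalarTower B B' M']

theorem constr_kSum (ψ : L2 P' →ₗ[B'] M') (f : relMod P) :
    (L1basis P).constr B (fun s => ψ (eta (kRep h h' s))) ((1 : B) ⊗ₜ f) = ψ (eta (kSum h h' f)) := by
  induction f using Finsupp.induction_linear with
  | zero => rw [TensorProduct.tmul_zero, map_zero, map_zero, map_zero, map_zero]
  | add f g hf hg => rw [TensorProduct.tmul_add, map_add, hf, hg, map_add, map_add, map_add]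
  | single s r =>
    rw [kSum_single, eta_smul, map_smul, h.algebraMap_ringHom, IsScalarTower.algebraMap_smul B',
      ← Finsupp.smul_single_one, one_tmul_smul, map_smul, ← L1basis_apply, Module.Basis.constr_basis]

set_option maxHeartbeats 800000 in
theorem pull2_sub_pull2 (ψ : L2 P' →ₗ[B'] M') :
    ∃ φ : L1 P →ₗ[B] M', h.pull2 M' ψ - h'.pull2 M' ψ = φ ∘ₗ d2 P := by
  refine ⟨(L1basis P).constr B fun s => ψ (eta (kRep h h' s)), ?_⟩
  refine LinearMap.ext fun z => ?_
  obtain ⟨z, rfl⟩ := Submodule.Quotient.mk_surjective _ z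
  obtain ⟨q, rfl⟩ := TensorProduct.mk_surjective P.toExtension.Ring (relKer P) B (algebraMap_ring_surjective P) z
  rw [TensorProduct.mk_apply, LinearMap.sub_apply, PresHom.pull2_apply, PresHom.pull2_apply, L2map_one_tmul,
    L2map_one_tmul, ← map_sub, L2map_sub, LinearMap.comp_apply, d2_mk_tmul, constr_kSum]

set_option maxHeartbeats 800000 in
theorem T2pull_eq : h.T2pull M' = h'.T2pull M' := by
  refine LinearMap.ext fun x => ?_
  obtain ⟨ψ, rfl⟩ := Submodule.Quotient.mk_surjective _ x
  obtain ⟨φ, hφ⟩ := pull2_sub_pull2 h h' M' ψ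
  change Submodule.Quotient.mk (h.pull2 M' ψ) = Submodule.Quotient.mk (h'.pull2 M' ψ)
  exact (Submodule.Quotient.eq _).mpr ⟨φ, hφ.symm⟩

/-- A functional on `L₁'`, as a function on `F'/F₀'`. -/
def evN (ψ : L1 P' →ₗ[B'] M') : Nmod P' →+ M' :=
  QuotientAddGroup.lift (trivRel P').toAddSubgroup
    (ψ.toAddMonoidHom.comp (TensorProduct.mk P'.toExtension.Ring B' (relMod P') 1).toAddMonoidHom)
    fun y hy => by
      change ψ ((1 : B') ⊗ₜ[P'.toExtension.Ring] y) = 0
      rw [one_tmul_eq_zero_of_mem_trivRel P' y hy, map_zero]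

omit [Algebra A A'] [Algebra B B'] [Algebra A B'] [IsScalarTower A A' B'] [IsScalarTower A B B'] [Module B M']
  [IsScalarTower B B' M'] in
theorem evN_mk (ψ : L1 P' →ₗ[B'] M') (f : relMod P') :
    evN M' ψ (Submodule.Quotient.mk f) = ψ ((1 : B') ⊗ₜ f) := rfl

omit [Algebra A A'] [Algebra B B'] [Algebra A B'] [IsScalarTower A A' B'] [IsScalarTower A B B'] [Module B M']
  [IsScalarTower B B' M'] in
theorem evN_smul (ψ : L1 P' →ₗ[B'] M') (r : P'.toExtension.Ring) (n : Nmod P') :
    evN M' ψ (r • n) = algebraMap P'.toExtension.Ring B' r • evN M' ψ n := by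
  obtain ⟨f, rfl⟩ := Submodule.Quotient.mk_surjective _ n
  rw [← Submodule.Quotient.mk_smul, evN_mk, evN_mk, one_tmul_smul, map_smul]

theorem evN_delta_mul (ψ : L1 P' →ₗ[B'] M') (x y : P.toExtension.Ring) :
    evN M' ψ (delta h h' (x * y)) = algebraMap P.toExtension.Ring B x • evN M' ψ (delta h h' y) +
      algebraMap P.toExtension.Ring B y • evN M' ψ (delta h h' x) := by
  rw [delta_mul, map_add, evN_smul, evN_smul, h.algebraMap_ringHom, h'.algebraMap_ringHom,
    IsScalarTower.algebraMap_smul B', IsScalarTower.algebraMap_smul B']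

theorem constr_delta (ψ : L1 P' →ₗ[B'] M') (r : P.toExtension.Ring) :
    P.cotangentSpaceBasis.constr B (fun i => evN M' ψ (delta h h' (Xv P i)))
      ((1 : B) ⊗ₜ KaehlerDifferential.D A P.toExtension.Ring r) = evN M' ψ (delta h h' r) := by
  induction r using ring_induction with
  | C a =>
    rw [delta_C, map_zero, show Cv P a = algebraMap A P.toExtension.Ring a from rfl,
      Derivation.map_algebraMap, TensorProduct.tmul_zero, map_zero]
  | add p q hp hq =>
    rw [(KaehlerDifferential.D A P.toExtension.Ring).map_add, TensorProduct.tmul_add,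
      LinearMap.map_add, hp, hq, map_add, map_add]
  | mul_X p i hp =>
    rw [Derivation.leibniz, TensorProduct.tmul_add, one_tmul_smul, one_tmul_smul, LinearMap.map_add,
      LinearMap.map_smul, LinearMap.map_smul, hp, evN_delta_mul]
    rw [basis_eq, Module.Basis.constr_basis]

theorem pull1_sub_pull1 (ψ : L1 P' →ₗ[B'] M') (hψ : ψ ∘ₗ d2 P' = 0) :
    ∃ φ : L0 P →ₗ[B] M', h.pull1 M' ψ - h'.pull1 M' ψ = φ ∘ₗ d1 P := by
  refine ⟨P.cotangentSpaceBasis.constr B fun i => evN M' ψ (delta h h' (Xv P i)), (L1basis P).ext fun s => ?_⟩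
  have hk : evN M' ψ (kRel h h' s) = 0 := by
    rw [← mk_kRep, evN_mk]
    have := LinearMap.congr_fun hψ (Submodule.Quotient.mk ((1 : B') ⊗ₜ kRep h h' s))
    rwa [LinearMap.comp_apply, d2_mk_tmul] at this
  have e : (Submodule.Quotient.mk (h.relVal s) - Submodule.Quotient.mk (h'.relVal s) : Nmod P') =
      kRel h h' s + delta h h' (rel P s) := by rw [kRel]; abel
  rw [L1basis_apply, LinearMap.sub_apply, PresHom.pull1_apply, PresHom.pull1_apply, LinearMap.comp_apply, d1_tmul,
    one_smul, constr_delta, L1map_one_tmul, L1map_one_tmul, PresHom.relModMap_single, PresHom.relModMap_single,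
    map_one, map_one, one_smul, one_smul, jmap_single, one_mul, ← evN_mk, ← evN_mk, ← map_sub, e, map_add, hk,
    zero_add]

theorem T1pull_eq : h.T1pull M' = h'.T1pull M' := by
  refine LinearMap.ext fun x => ?_
  obtain ⟨⟨ψ, hψ⟩, rfl⟩ := Submodule.Quotient.mk_surjective _ x
  obtain ⟨φ, hφ⟩ := pull1_sub_pull1 h h' M' ψ hψ
  change Submodule.Quotient.mk (h.cocycles1Pull M' ⟨ψ, hψ⟩) = Submodule.Quotient.mk (h'.cocycles1Pull M' ⟨ψ, hψ⟩)
  exact (Submodule.Quotient.eq _).mpr ⟨φ, hφ.symm⟩

theorem L0map_one_tmul_D (r : P.toExtension.Ring) :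
    h.L0map ((1 : B) ⊗ₜ KaehlerDifferential.D A P.toExtension.Ring r) =
      (1 : B') ⊗ₜ KaehlerDifferential.D A' P'.toExtension.Ring (h.ringHom r) := by
  rw [PresHom.L0map_apply, Algebra.Extension.CotangentSpace.map_tmul, map_one]
  rfl

theorem T0pull_eq : h.T0pull M' = h'.T0pull M' := by
  refine LinearMap.ext fun ⟨ψ, hψ⟩ => Subtype.ext (P.cotangentSpaceBasis.ext fun i => ?_)
  change ψ (h.L0map _) = ψ (h'.L0map _)
  obtain ⟨f, hf⟩ := exists_jmap_eq P' (algebraMap_sub h h' (Xv P i))
  have h1 := LinearMap.congr_fun hψ ((1 : B') ⊗ₜ f)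
  rw [d1Star_apply, LinearMap.comp_apply, d1_tmul, one_smul, hf, LinearMap.zero_apply, Derivation.map_sub,
    TensorProduct.tmul_sub, map_sub, sub_eq_zero] at h1
  rw [← basis_eq, L0map_one_tmul_D, L0map_one_tmul_D]
  exact h1

end Groth.Agent.H24Cot
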