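import Groth.Agent.H24Cot.Homotopy
import Mathlib.RingTheory.Regular.RegularSequence
import Mathlib.Algebra.BigOperators.Fin

/-!
Relations among a regular sequence are trivial; consequences for the second cotangent module.
-/

universe u v w t m

open TensorProduct CotT

set_option linter.style.haveILetI false

namespace Groth.Agent.H24Cot

/-- The relations among `a` are generated by the trivial ones. -/
def RelationsTrivial {R : Type u} [CommRing R] {σ : Type t} [Fintype σ] (a : σ → R) : Prop :=
  ∀ c : σ → R, ∑ i, c i * a i = 0 → ∀ (N : Type (max u t)) [AddCommGroup N] [Module R N] (x : σ → N),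
    (∀ i j, a i • x j = a j • x i) → ∑ i, c i • x i = 0

theorem relationsTrivial_of_regular {R : Type u} [CommRing R] {n : ℕ} (a : Fin n → R)
    (h : ∀ i : Fin n, ∀ x, x * a i ∈ Ideal.span (a '' {j | j < i}) → x ∈ Ideal.span (a '' {j | j < i})) :
    RelationsTrivial a := by
  induction n with
  | zero => intro c _ N _ _ x _; exact Finset.sum_empty
  | succ n ih =>
    intro c hc N _ _ x hx
    have himg : a '' {j | j < Fin.last n} = Set.range (a ∘ Fin.castSucc) := by
      ext y
      constructor
      · rintro ⟨j, hj, rfl⟩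
        obtain ⟨k, rfl⟩ := Fin.exists_castSucc_eq.mpr (Fin.ne_of_lt hj)
        exact ⟨k, rfl⟩
      · rintro ⟨k, rfl⟩
        exact ⟨k.castSucc, Fin.castSucc_lt_last k, rfl⟩
    rw [Fin.sum_univ_castSucc] at hc ⊢
    have hl : c (Fin.last n) * a (Fin.last n) ∈ Ideal.span (a '' {j | j < Fin.last n}) := by
      rw [eq_neg_of_add_eq_zero_right hc, himg]
      exact neg_mem (Submodule.sum_mem _ fun i _ => Ideal.mul_mem_left _ _ (Ideal.subset_span ⟨i, rfl⟩))
    have hd := h _ _ hl
    rw [himg, Ideal.mem_span_range_iff_exists_fun] at hd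
    obtain ⟨d, hd⟩ := hd
    have h' : ∀ i : Fin n, ∀ y, y * (a ∘ Fin.castSucc) i ∈ Ideal.span ((a ∘ Fin.castSucc) '' {j | j < i}) →
        y ∈ Ideal.span ((a ∘ Fin.castSucc) '' {j | j < i}) := by
      intro i y hy
      have e : (a ∘ Fin.castSucc) '' {j | j < i} = a '' {j | j < i.castSucc} := by
        ext z
        constructor
        · rintro ⟨j, hj, rfl⟩; exact ⟨j.castSucc, Fin.castSucc_lt_castSucc_iff.mpr hj, rfl⟩
        · rintro ⟨j, hj, rfl⟩
          obtain ⟨k, rfl⟩ := Fin.exists_castSucc_eq.mpr (Fin.ne_of_lt (lt_trans hj (Fin.castSucc_lt_last i)))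
          exact ⟨k, Fin.castSucc_lt_castSucc_iff.mp hj, rfl⟩
      rw [e] at hy ⊢
      exact h _ _ hy
    have key := ih (a ∘ Fin.castSucc) h' (fun i => c i.castSucc + d i * a (Fin.last n)) (by
      simp only [Function.comp_apply] at hd ⊢
      simp only [add_mul, Finset.sum_add_distrib, mul_right_comm _ (a (Fin.last n)), ← Finset.sum_mul, hd]
      exact hc) N (x ∘ Fin.castSucc) (fun i j => hx _ _)
    simp only [Function.comp_apply, add_smul, Finset.sum_add_distrib, mul_smul] at key hd
    rw [← key]
    congr 1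
    rw [← hd, Finset.sum_smul]
    refine Finset.sum_congr rfl fun i _ => ?_
    rw [mul_smul, hx]

theorem relationsTrivial_of_isWeaklyRegular {R : Type u} [CommRing R] (rs : List R)
    (h : RingTheory.Sequence.IsWeaklyRegular R rs) : RelationsTrivial (fun i : Fin rs.length => rs[i]) := by
  refine relationsTrivial_of_regular _ fun i x hx => ?_
  have e : Ideal.span ((fun i : Fin rs.length => rs[i]) '' {j | j < i}) = Ideal.ofList (rs.take i) := by
    unfold Ideal.ofList
    congr 1
    ext y
    simp only [Set.mem_image, Set.mem_setOf_eq, List.mem_take_iff_getElem]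
    constructor
    · rintro ⟨j, hj, rfl⟩
      exact ⟨j, lt_min hj j.2, rfl⟩
    · rintro ⟨j, hj, rfl⟩
      exact ⟨⟨j, hj.trans_le (min_le_right _ _)⟩, hj.trans_le (min_le_left _ _), rfl⟩
  rw [e] at hx ⊢
  have hr := (RingTheory.Sequence.isWeaklyRegular_iff_Fin R rs).mp h i
  have hmem : ∀ y : R, (Submodule.Quotient.mk y : R ⧸ (Ideal.ofList (rs.take i) • ⊤ : Submodule R R)) = 0 ↔
      y ∈ Ideal.ofList (rs.take i) := fun y => by
    rw [Submodule.Quotient.mk_eq_zero, smul_eq_mul, Ideal.mul_top]
  rw [← hmem] at hx ⊢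
  refine hr ?_
  change rs[i] • Submodule.Quotient.mk x = rs[i] • (0 : R ⧸ (Ideal.ofList (rs.take i) • ⊤ : Submodule R R))
  rw [smul_zero, ← Submodule.Quotient.mk_smul, show rs[i] • x = x * rs[i] from mul_comm _ _]
  exact hx

variable {A : Type u} {B : Type v} {ι : Type w} {σ : Type t}
variable [CommRing A] [CommRing B] [Algebra A B] (P : Algebra.Presentation A B ι σ)

theorem trivRel_eq_relKer [Fintype σ] (h : RelationsTrivial (rel P)) : trivRel P = relKer P := by
  classical
  refine le_antisymm (trivRel_le_relKer P) fun q hq => ?_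
  rw [← Submodule.Quotient.mk_eq_zero]
  have hq' : ∑ s, q s * rel P s = 0 := by
    have := (show jmap P q = 0 from hq)
    rw [jmap, Finsupp.linearCombination_apply, Finsupp.sum_fintype q (fun i a => a • rel P i) (fun s => zero_smul _ _)] at this
    exact this
  have key := h (fun s => q s) hq' (Nmod P) (fun s => Submodule.Quotient.mk (Finsupp.single s 1)) fun i j => by
    have e := jbar_swap P (Submodule.Quotient.mk (Finsupp.single i 1)) (Submodule.Quotient.mk (Finsupp.single j 1))
    rwa [jbar_mk, jbar_mk, jmap_single, jmap_single, one_mul, one_mul] at e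
  rw [← key]
  conv_lhs => rw [← Finsupp.univ_sum_single q]
  rw [← Submodule.mkQ_apply, map_sum]
  exact Finset.sum_congr rfl fun s _ => by rw [← Finsupp.smul_single_one, map_smul]; rfl

theorem subsingleton_L2 (h : relKer P ≤ trivRel P) : Subsingleton (L2 P) := by
  refine ⟨fun x y => ?_⟩
  have key : ∀ z : L2 P, z = 0 := fun z => by
    obtain ⟨z, rfl⟩ := Submodule.Quotient.mk_surjective _ z
    obtain ⟨q, rfl⟩ := TensorProduct.mk_surjective P.toExtension.Ring (relKer P) B (algebraMap_ring_surjective P) z
    exact eta_eq_zero q (h q.2)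
  rw [key x, key y]

theorem subsingleton_T2 (h : relKer P ≤ trivRel P) (M : Type m) [AddCommGroup M] [Module B M] :
    Subsingleton (T2 P M) := by
  haveI := subsingleton_L2 P h
  haveI : Subsingleton (L2 P →ₗ[B] M) :=
    ⟨fun f g => LinearMap.ext fun z => by rw [Subsingleton.elim z 0, map_zero, map_zero]⟩
  exact (Submodule.mkQ_surjective _).subsingleton

theorem relKer_le_of_isEmpty [IsEmpty σ] : relKer P ≤ trivRel P := fun q _ => by
  rw [Subsingleton.elim q 0]; exact zero_mem _

theorem subsingleton_T1_of_isEmpty [IsEmpty σ] (M : Type m) [AddCommGroup M] [Module B M] :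
    Subsingleton (T1 P M) := by
  haveI : Subsingleton (cocycles1 P M) :=
    ⟨fun f g => Subtype.ext ((L1basis P).ext fun s => isEmptyElim s)⟩
  exact (Submodule.mkQ_surjective _).subsingleton

end Groth.Agent.H24Cot
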