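import Groth.Agent.H24Cot.Comp2

/-!
The nine-term sequence of a composite of ring maps.
-/

universe u v w t v' w' t' w'' t'' m

open TensorProduct CotT Function MvPolynomial

set_option linter.style.haveILetI false

noncomputable section

namespace Groth.Agent.H24Cot

variable {A : Type u} {B : Type v} {C : Type v'} [CommRing A] [CommRing B] [CommRing C]
variable [Algebra A B] [Algebra B C] [Algebra A C] [IsScalarTower A B C]
variable {ι : Type w} {σ : Type t} {ι' : Type w'} {σ' : Type t'}
variable (M : Type m) [AddCommGroup M] [Module C M] [Module B M] [IsScalarTower B C M]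

section Diagram

variable {ι'' : Type w''} {σ'' : Type t''}
variable {P : Algebra.Presentation A B ι σ} {Q : Algebra.Presentation B C ι' σ'}
  {R : Algebra.Presentation A C ι'' σ''}
variable (h1 : PresHom R Q) (h2 : PresHom P R)

/-- The dual complexes form a left exact sequence, short exact in degrees zero and one. -/
structure Seq : Prop where
  i0 : Injective (h1.pull0 M)
  e0 : Exact (h1.pull0 M) (h2.pull0 M)
  s0 : Surjective (h2.pull0 M)
  i1 : Injective (h1.pull1 M)
  e1 : Exact (h1.pull1 M) (h2.pull1 M)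
  s1 : Surjective (h2.pull1 M)
  i2 : Injective (h1.pull2 M)
  e2 : Exact (h1.pull2 M) (h2.pull2 M)

variable {M h1 h2} (S : Seq M h1 h2)

omit [Algebra A B] in
theorem T1pull_mk {A₁ : Type u} {B₁ : Type v} [CommRing A₁] [CommRing B₁] [Algebra A₁ B₁]
    {A₂ : Type*} {B₂ : Type*} [CommRing A₂] [CommRing B₂] [Algebra A₂ B₂] [Algebra A₁ A₂] [Algebra B₁ B₂]
    [Algebra A₁ B₂] [IsScalarTower A₁ A₂ B₂] [IsScalarTower A₁ B₁ B₂] {κ τ κ' τ' : Type*}
    {P₁ : Algebra.Presentation A₁ B₁ κ τ} {P₂ : Algebra.Presentation A₂ B₂ κ' τ'} (h : PresHom P₁ P₂)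
    {N : Type*} [AddCommGroup N] [Module B₂ N] [Module B₁ N] [IsScalarTower B₁ B₂ N] (y : cocycles1 P₂ N) :
    h.T1pull N (Submodule.Quotient.mk y) = Submodule.Quotient.mk (h.cocycles1Pull N y) := rfl

include S

theorem T0pull_injective_of_seq : Injective (h1.T0pull M) := fun a b h =>
  Subtype.ext (S.i0 (congrArg Subtype.val h))

theorem T0pull_exact_of_seq : Exact (h1.T0pull M) (h2.T0pull M) := by
  intro y
  constructor
  · intro hy
    obtain ⟨x, hx⟩ := (S.e0 (y : L0 R →ₗ[C] M)).mp (congrArg Subtype.val hy)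
    refine ⟨⟨x, S.i1 ?_⟩, Subtype.ext hx⟩
    rw [PresHom.pull1_d1Star, hx, map_zero]
    exact y.2
  · rintro ⟨x, rfl⟩
    exact Subtype.ext (S.e0.apply_apply_eq_zero (x : L0 Q →ₗ[C] M))

theorem T1pull_exact_of_seq : Exact (h1.T1pull M) (h2.T1pull M) := by
  intro y
  obtain ⟨y, rfl⟩ := Submodule.Quotient.mk_surjective _ y
  constructor
  · intro hy
    obtain ⟨z, hz⟩ := (Submodule.Quotient.mk_eq_zero (coboundaries1 P M) (x := h2.cocycles1Pull M y)).mp hy
    obtain ⟨y0, rfl⟩ := S.s0 z
    obtain ⟨x, hx⟩ := (S.e1 ((y : L1 R →ₗ[C] M) - d1Star R M y0)).mp (by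
      rw [map_sub, PresHom.pull1_d1Star, sub_eq_zero]
      exact hz.symm)
    have hxc : x ∈ cocycles1 Q M := S.i2 (by
      rw [PresHom.pull2_d2Star, hx, map_zero, map_sub, show d2Star R M (y : L1 R →ₗ[C] M) = 0 from y.2,
        ← LinearMap.comp_apply (f := d2Star R M), d2Star_comp_d1Star, LinearMap.zero_apply, sub_zero])
    refine ⟨Submodule.Quotient.mk ⟨x, hxc⟩, ?_⟩
    change Submodule.Quotient.mk (h1.cocycles1Pull M ⟨x, hxc⟩) = _
    refine (Submodule.Quotient.eq _).mpr ⟨-y0, ?_⟩
    change d1Star R M (-y0) = h1.pull1 M x - (y : L1 R →ₗ[C] M)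
    rw [hx, map_neg]
    abel
  · rintro ⟨x, hx⟩
    obtain ⟨x, rfl⟩ := Submodule.Quotient.mk_surjective _ x
    rw [← hx]
    change Submodule.Quotient.mk (h2.cocycles1Pull M (h1.cocycles1Pull M x)) = _
    refine (Submodule.Quotient.mk_eq_zero _).mpr ⟨0, ?_⟩
    rw [map_zero]
    exact (S.e1.apply_apply_eq_zero (x : L1 Q →ₗ[C] M)).symm

theorem T2pull_exact_of_seq : Exact (h1.T2pull M) (h2.T2pull M) := by
  intro y
  obtain ⟨y, rfl⟩ := Submodule.Quotient.mk_surjective _ y
  constructor
  · intro hy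
    obtain ⟨z, hz⟩ := (Submodule.Quotient.mk_eq_zero (LinearMap.range (d2Star P M))).mp hy
    obtain ⟨y1, rfl⟩ := S.s1 z
    obtain ⟨x, hx⟩ := (S.e2 (y - d2Star R M y1)).mp (by
      rw [map_sub, PresHom.pull2_d2Star, sub_eq_zero]
      exact hz.symm)
    refine ⟨Submodule.Quotient.mk x, ?_⟩
    change Submodule.Quotient.mk (h1.pull2 M x) = _
    refine (Submodule.Quotient.eq _).mpr ⟨-y1, ?_⟩
    rw [hx, map_neg]
    abel
  · rintro ⟨x, hx⟩
    obtain ⟨x, rfl⟩ := Submodule.Quotient.mk_surjective _ x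
    rw [← hx]
    change Submodule.Quotient.mk (h2.pull2 M (h1.pull2 M x)) = _
    rw [S.e2.apply_apply_eq_zero x]
    rfl

theorem exists_delta0_of_seq : ∃ δ : T0 P M →+ T1 Q M,
    Exact (h2.T0pull M) δ ∧ Exact δ (h1.T1pull M) := by
  have ex : ∀ z : T0 P M, ∃ y x, h2.pull0 M y = (z : L0 P →ₗ[B] M) ∧
      h1.pull1 M (x : cocycles1 Q M) = d1Star R M y := by
    intro z
    obtain ⟨y, hy⟩ := S.s0 (z : L0 P →ₗ[B] M)
    obtain ⟨x, hx⟩ := (S.e1 (d1Star R M y)).mp (by rw [PresHom.pull1_d1Star, hy]; exact z.2)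
    have hxc : x ∈ cocycles1 Q M := S.i2 (by
      rw [PresHom.pull2_d2Star, hx, map_zero, ← LinearMap.comp_apply, d2Star_comp_d1Star, LinearMap.zero_apply])
    exact ⟨y, ⟨x, hxc⟩, hy, hx⟩
  choose Y X hY hX using ex
  have uniq : ∀ (z : T0 P M) (y : L0 R →ₗ[C] M) (x : cocycles1 Q M), h2.pull0 M y = (z : L0 P →ₗ[B] M) →
      h1.pull1 M (x : L1 Q →ₗ[C] M) = d1Star R M y →
      (Submodule.Quotient.mk (X z) : T1 Q M) = Submodule.Quotient.mk x := by
    intro z y x hy hx
    obtain ⟨w, hw⟩ := (S.e0 (Y z - y)).mp (by rw [map_sub, hY, hy, sub_self])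
    refine (Submodule.Quotient.eq _).mpr ⟨w, S.i1 ?_⟩
    rw [PresHom.pull1_d1Star, hw, map_sub, Submodule.subtype_apply, AddSubgroupClass.coe_sub, map_sub, hX, hx]
  refine ⟨AddMonoidHom.mk' (fun z => Submodule.Quotient.mk (X z)) fun a b => ?_, fun z => ?_, fun t => ?_⟩
  · rw [uniq (a + b) (Y a + Y b) (X a + X b) (by rw [map_add, hY, hY]; rfl)
      (by rw [Submodule.coe_add, map_add, hX, hX, map_add])]
    rfl
  · constructor
    · intro hz
      obtain ⟨w, hw⟩ := (Submodule.Quotient.mk_eq_zero (coboundaries1 Q M) (x := X z)).mp hz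
      refine ⟨⟨Y z - h1.pull0 M w, ?_⟩, Subtype.ext ?_⟩
      · rw [LinearMap.mem_ker, map_sub, ← PresHom.pull1_d1Star, hw, Submodule.subtype_apply, hX, sub_self]
      · change h2.pull0 M (Y z - h1.pull0 M w) = _
        rw [map_sub, hY, S.e0.apply_apply_eq_zero, sub_zero]
    · rintro ⟨y, rfl⟩
      change Submodule.Quotient.mk (X _) = (0 : T1 Q M)
      rw [uniq _ (y : L0 R →ₗ[C] M) 0 rfl (by rw [Submodule.coe_zero, map_zero]; exact y.2.symm)]
      rfl
  · obtain ⟨x, rfl⟩ := Submodule.Quotient.mk_surjective _ t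
    constructor
    · intro ht
      obtain ⟨y, hy⟩ := (Submodule.Quotient.mk_eq_zero (coboundaries1 R M) (x := h1.cocycles1Pull M x)).mp ht
      have hy' : d1Star R M y = h1.pull1 M (x : L1 Q →ₗ[C] M) := hy
      refine ⟨⟨h2.pull0 M y, ?_⟩, uniq _ y x rfl hy'.symm⟩
      rw [LinearMap.mem_ker, ← PresHom.pull1_d1Star, hy', S.e1.apply_apply_eq_zero]
    · rintro ⟨z, hz⟩
      rw [← hz]
      exact (Submodule.Quotient.mk_eq_zero (coboundaries1 R M) (x := h1.cocycles1Pull M (X z))).mpr
        ⟨Y z, (hX z).symm⟩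

theorem exists_delta1_spec : ∃ δ : T1 P M →+ T2 Q M,
    ∀ (z : cocycles1 P M) (y : L1 R →ₗ[C] M) (x : L2 Q →ₗ[C] M),
      (∃ w, h2.pull1 M y - (z : L1 P →ₗ[B] M) = d1Star P M w) → h1.pull2 M x = d2Star R M y →
      δ (Submodule.Quotient.mk z) = Submodule.Quotient.mk x := by
  have ex : ∀ z : cocycles1 P M, ∃ y x, h2.pull1 M y = (z : L1 P →ₗ[B] M) ∧
      h1.pull2 M x = d2Star R M y := by
    intro z
    obtain ⟨y, hy⟩ := S.s1 (z : L1 P →ₗ[B] M)
    obtain ⟨x, hx⟩ := (S.e2 (d2Star R M y)).mp (by rw [PresHom.pull2_d2Star, hy]; exact z.2)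
    exact ⟨y, x, hy, hx⟩
  choose Y X hY hX using ex
  have uniq : ∀ (z : cocycles1 P M) (y : L1 R →ₗ[C] M) (x : L2 Q →ₗ[C] M),
      (∃ w, h2.pull1 M y - (z : L1 P →ₗ[B] M) = d1Star P M w) → h1.pull2 M x = d2Star R M y →
      (Submodule.Quotient.mk (X z) : T2 Q M) = Submodule.Quotient.mk x := by
    rintro z y x ⟨w, hw⟩ hx
    obtain ⟨w0, rfl⟩ := S.s0 w
    obtain ⟨v, hv⟩ := (S.e1 (Y z - y + d1Star R M w0)).mp (by
      rw [map_add, map_sub, hY, PresHom.pull1_d1Star, ← hw]; abel)
    refine (Submodule.Quotient.eq _).mpr ⟨v, S.i2 ?_⟩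
    rw [PresHom.pull2_d2Star, hv, map_add, map_sub, map_sub, hX, hx, ← LinearMap.comp_apply (f := d2Star R M),
      d2Star_comp_d1Star, LinearMap.zero_apply, add_zero]
  let F : T1 P M → T2 Q M := Quotient.lift (fun z => Submodule.Quotient.mk (X z)) fun a b hab => by
    obtain ⟨w, hw⟩ := (Submodule.quotientRel_def _).mp hab
    refine uniq a (Y b) (X b) ⟨-w, ?_⟩ (hX b)
    rw [hY, map_neg, show d1Star P M w = (a : L1 P →ₗ[B] M) - (b : L1 P →ₗ[B] M) from hw]
    abel
  have hF : ∀ z, F (Submodule.Quotient.mk z) = Submodule.Quotient.mk (X z) := fun z => rfl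
  refine ⟨AddMonoidHom.mk' F fun a b => ?_, fun z y x hy hx => (hF z).trans (uniq z y x hy hx)⟩
  obtain ⟨a, rfl⟩ := Submodule.Quotient.mk_surjective _ a
  obtain ⟨b, rfl⟩ := Submodule.Quotient.mk_surjective _ b
  rw [← Submodule.Quotient.mk_add, hF, hF, hF, uniq (a + b) (Y a + Y b) (X a + X b)
    ⟨0, by rw [map_add, hY, hY, map_zero, Submodule.coe_add, sub_self]⟩ (by rw [map_add, hX, hX, map_add])]
  rfl

variable {δ : T1 P M →+ T2 Q M} (hδ : ∀ (z : cocycles1 P M) (y : L1 R →ₗ[C] M) (x : L2 Q →ₗ[C] M),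
      (∃ w, h2.pull1 M y - (z : L1 P →ₗ[B] M) = d1Star P M w) → h1.pull2 M x = d2Star R M y →
      δ (Submodule.Quotient.mk z) = Submodule.Quotient.mk x)

include hδ

omit S in
theorem delta1_T1pull (y : cocycles1 R M) : δ (h2.T1pull M (Submodule.Quotient.mk y)) = 0 := by
  rw [T1pull_mk, hδ (h2.cocycles1Pull M y) (y : L1 R →ₗ[C] M) 0
    ⟨0, by rw [map_zero, PresHom.cocycles1Pull_coe, sub_self]⟩ (by rw [map_zero]; exact y.2.symm)]
  rfl

theorem delta1_ker (z : cocycles1 P M) (hz : δ (Submodule.Quotient.mk z) = 0) :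
    ∃ y : cocycles1 R M, h2.cocycles1Pull M y = z := by
  obtain ⟨y, hy⟩ := S.s1 (z : L1 P →ₗ[B] M)
  obtain ⟨x, hx⟩ := (S.e2 (d2Star R M y)).mp (by rw [PresHom.pull2_d2Star, hy]; exact z.2)
  rw [hδ z y x ⟨0, by rw [hy, sub_self, map_zero]⟩ hx] at hz
  obtain ⟨w, hw⟩ := (Submodule.Quotient.mk_eq_zero (LinearMap.range (d2Star Q M)) (x := x)).mp hz
  refine ⟨⟨y - h1.pull1 M w, ?_⟩, Subtype.ext ?_⟩
  · rw [LinearMap.mem_ker, map_sub, ← PresHom.pull2_d2Star, hw, hx, sub_self]
  · rw [PresHom.cocycles1Pull_coe]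
    change h2.pull1 M (y - h1.pull1 M w) = _
    rw [map_sub, hy, S.e1.apply_apply_eq_zero, sub_zero]

theorem delta1_range (z : cocycles1 P M) : h1.T2pull M (δ (Submodule.Quotient.mk z)) = 0 := by
  obtain ⟨y, hy⟩ := S.s1 (z : L1 P →ₗ[B] M)
  obtain ⟨x, hx⟩ := (S.e2 (d2Star R M y)).mp (by rw [PresHom.pull2_d2Star, hy]; exact z.2)
  rw [hδ z y x ⟨0, by rw [hy, sub_self, map_zero]⟩ hx]
  exact (Submodule.Quotient.mk_eq_zero (LinearMap.range (d2Star R M)) (x := h1.pull2 M x)).mpr ⟨y, hx.symm⟩

theorem delta1_exists (x : L2 Q →ₗ[C] M) (hx : h1.T2pull M (Submodule.Quotient.mk x) = 0) :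
    ∃ z : cocycles1 P M, δ (Submodule.Quotient.mk z) = Submodule.Quotient.mk x := by
  obtain ⟨y, hy⟩ := (Submodule.Quotient.mk_eq_zero (LinearMap.range (d2Star R M)) (x := h1.pull2 M x)).mp hx
  refine ⟨⟨h2.pull1 M y, ?_⟩, hδ _ y x ⟨0, ?_⟩ hy.symm⟩
  · rw [LinearMap.mem_ker, ← PresHom.pull2_d2Star, hy, S.e2.apply_apply_eq_zero]
  · rw [map_zero, sub_self]

omit hδ in
theorem exists_delta1_of_seq : ∃ δ : T1 P M →+ T2 Q M,
    Exact (h2.T1pull M) δ ∧ Exact δ (h1.T2pull M) := by
  obtain ⟨δ, hδ⟩ := exists_delta1_spec S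
  refine ⟨δ, fun z => ⟨fun hz => ?_, fun ⟨y, hy⟩ => ?_⟩, fun t => ⟨fun ht => ?_, fun ⟨z, hz⟩ => ?_⟩⟩
  · obtain ⟨z, rfl⟩ := Submodule.Quotient.mk_surjective _ z
    obtain ⟨y, rfl⟩ := delta1_ker S hδ z hz
    exact ⟨Submodule.Quotient.mk y, T1pull_mk h2 y⟩
  · obtain ⟨y', hy'⟩ := Submodule.Quotient.mk_surjective _ y
    rw [← hy, ← hy']
    exact delta1_T1pull hδ y'
  · obtain ⟨x, rfl⟩ := Submodule.Quotient.mk_surjective _ t
    obtain ⟨z, hz⟩ := delta1_exists S hδ x ht
    exact ⟨Submodule.Quotient.mk z, hz⟩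
  · obtain ⟨z', hz'⟩ := Submodule.Quotient.mk_surjective _ z
    rw [← hz, ← hz']
    exact delta1_range S hδ z'

end Diagram

section Concrete

variable (Q : Algebra.Presentation B C ι' σ') (P : Algebra.Presentation A B ι σ)

theorem ofComp_relation_inl (s : σ') :
    (Q.toGenerators.ofComp P.toGenerators).toExtensionHom.toRingHom (rel (Q.comp P) (Sum.inl s)) = rel Q s :=
  Algebra.Presentation.comp_aeval_relation_inl Q P s

theorem ofComp_relation_inr (s : σ) :
    (Q.toGenerators.ofComp P.toGenerators).toExtensionHom.toRingHom (rel (Q.comp P) (Sum.inr s)) = 0 := by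
  refine (Algebra.Generators.toAlgHom_ofComp_rename Q.toGenerators P.toGenerators (P.relation s)).trans ?_
  rw [show algebraMap P.toGenerators.Ring B (P.relation s) = 0 from P.relation_mem_ker s]
  exact map_zero _

/-- Projection from the composite presentation. -/
def projHom : PresHom (Q.comp P) Q where
  hom := Q.toGenerators.ofComp P.toGenerators
  relVal := Sum.elim (fun s => Finsupp.single s 1) fun _ => 0
  jmap_relVal
    | .inl s => by rw [Sum.elim_inl, jmap_single, one_mul]; exact (ofComp_relation_inl Q P s).symm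
    | .inr s => by rw [Sum.elim_inr, map_zero]; exact (ofComp_relation_inr Q P s).symm

/-- Inclusion into the composite presentation. -/
def inclHom : PresHom P (Q.comp P) where
  hom := Q.toGenerators.toComp P.toGenerators
  relVal s := Finsupp.single (Sum.inr s) 1
  jmap_relVal s := by
    rw [jmap_single, one_mul]
    exact (AlgHom.congr_fun (Algebra.Generators.toComp_toAlgHom Q.toGenerators P.toGenerators) (P.relation s)).symm

theorem inclHom_ringHom (r : P.toExtension.Ring) :
    (inclHom Q P).ringHom r = MvPolynomial.rename (R := A) (Sum.inr : ι → ι' ⊕ ι) r :=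
  AlgHom.congr_fun (Algebra.Generators.toComp_toAlgHom Q.toGenerators P.toGenerators) r

theorem projHom_ringHom_surjective : Surjective (projHom Q P).ringHom :=
  Algebra.Generators.toAlgHom_ofComp_surjective Q.toGenerators P.toGenerators

theorem exists_jmap_of_projHom_eq_zero {r : (Q.comp P).toExtension.Ring} (hr : (projHom Q P).ringHom r = 0) :
    ∃ d, jmap (Q.comp P) d = r ∧ ∀ s, d (Sum.inl s) = 0 := by
  have h : r ∈ Ideal.map (inclHom Q P).ringHom P.toExtension.ker := by
    have h0 : r ∈ P.ker.map (Q.toGenerators.toComp P.toGenerators).toAlgHom := by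
      rw [Algebra.Generators.map_toComp_ker]
      exact hr
    exact h0
  have hs : Ideal.span (Set.range (rel P)) = P.toExtension.ker := P.span_range_relation_eq_ker
  rw [← hs, Ideal.map_span, ← Set.range_comp] at h
  refine Submodule.span_induction (p := fun r _ => ∃ d, jmap (Q.comp P) d = r ∧ ∀ s, d (Sum.inl s) = 0)
    ?_ ?_ ?_ ?_ h
  · rintro _ ⟨t, rfl⟩
    refine ⟨Finsupp.single (Sum.inr t) 1, ?_, fun s => Finsupp.single_eq_of_ne (by simp)⟩
    exact (inclHom Q P).jmap_relVal t
  · exact ⟨0, map_zero _, fun s => rfl⟩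
  · rintro a b _ _ ⟨d, rfl, hd⟩ ⟨d', rfl, hd'⟩
    exact ⟨d + d', map_add _ _ _, fun s => by rw [Finsupp.add_apply, hd, hd', add_zero]⟩
  · rintro c a _ ⟨d, rfl, hd⟩
    exact ⟨c • d, map_smul _ _ _, fun s => by rw [Finsupp.smul_apply, hd, smul_zero]⟩

theorem projHom_relModMap_apply (f : relMod (Q.comp P)) (s : σ') :
    (projHom Q P).relModMap f s = (projHom Q P).ringHom (f (Sum.inl s)) := by
  classical
  induction f using Finsupp.induction_linear with
  | zero => simp
  | add f g hf hg => rw [map_add, Finsupp.add_apply, hf, hg, Finsupp.add_apply, map_add]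
  | single x r =>
    rw [PresHom.relModMap_single]
    rcases x with x | x
    · rw [show (projHom Q P).relVal (Sum.inl x) = Finsupp.single x 1 from rfl, Finsupp.smul_single',
        mul_one, Finsupp.single_apply, Finsupp.single_apply]
      by_cases hxs : x = s
      · subst hxs; simp
      · rw [if_neg hxs, if_neg (by simp [hxs]), map_zero]
    · rw [show (projHom Q P).relVal (Sum.inr x) = 0 from rfl, smul_zero, Finsupp.zero_apply,
        Finsupp.single_eq_of_ne (by simp), map_zero]

theorem projHom_relModMap_surjective : Surjective (projHom Q P).relModMap := by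
  intro f
  induction f using Finsupp.induction_linear with
  | zero => exact ⟨0, map_zero _⟩
  | add f g hf hg =>
    obtain ⟨a, rfl⟩ := hf
    obtain ⟨b, rfl⟩ := hg
    exact ⟨a + b, map_add _ _ _⟩
  | single s r =>
    obtain ⟨r', rfl⟩ := projHom_ringHom_surjective Q P r
    exact ⟨Finsupp.single (Sum.inl s) r', by
      rw [PresHom.relModMap_single, show (projHom Q P).relVal (Sum.inl s) = Finsupp.single s 1 from rfl,
        Finsupp.smul_single', mul_one]⟩

theorem projHom_relKerMap_surjective : Surjective (projHom Q P).relKerMap := by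
  intro q
  obtain ⟨f, hf⟩ := projHom_relModMap_surjective Q P (q : relMod Q)
  have h0 : (projHom Q P).ringHom (jmap (Q.comp P) f) = 0 := by
    rw [← PresHom.jmap_relModMap, hf]
    exact q.2
  obtain ⟨d, hd, hd'⟩ := exists_jmap_of_projHom_eq_zero Q P h0
  refine ⟨⟨f - d, LinearMap.mem_ker.mpr (by rw [map_sub, hd, sub_self])⟩, Subtype.ext ?_⟩
  rw [PresHom.relKerMap_coe]
  refine Finsupp.ext fun s => ?_
  rw [projHom_relModMap_apply, Finsupp.sub_apply, hd', sub_zero, ← projHom_relModMap_apply, hf]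

theorem exists_trivRel_sub {q : relMod (Q.comp P)} (hq : (projHom Q P).relModMap q = 0) :
    ∃ q1, q - q1 ∈ trivRel (Q.comp P) ∧ ∀ s, q1 (Sum.inl s) = 0 := by
  classical
  have key : ∀ x ∈ q.support, ∃ q1, Finsupp.single x (q x) - q1 ∈ trivRel (Q.comp P) ∧
      ∀ s, q1 (Sum.inl s) = 0 := by
    rintro (x | x) -
    · obtain ⟨d, hd, hd'⟩ := exists_jmap_of_projHom_eq_zero Q P (r := q (Sum.inl x))
        (by rw [← projHom_relModMap_apply, hq]; rfl)
      refine ⟨jmap (Q.comp P) (Finsupp.single (Sum.inl x) 1) • d, Submodule.subset_span ⟨d, Finsupp.single (Sum.inl x) 1, ?_⟩, fun s => by rw [Finsupp.smul_apply, hd', smul_zero]⟩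
      rw [hd, Finsupp.smul_single', mul_one]
    · exact ⟨Finsupp.single (Sum.inr x) (q (Sum.inr x)), by rw [sub_self]; exact zero_mem _,
        fun s => Finsupp.single_eq_of_ne (by simp)⟩
  choose! g hg hg' using key
  refine ⟨∑ x ∈ q.support, g x, ?_, fun s => ?_⟩
  · have e : q - ∑ x ∈ q.support, g x = ∑ x ∈ q.support, (Finsupp.single x (q x) - g x) := by
      rw [Finset.sum_sub_distrib]
      congr 1
      exact q.sum_single.symm
    rw [e]
    exact sum_mem hg
  · rw [Finsupp.finsetSum_apply]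
    exact Finset.sum_eq_zero fun x hx => hg' x hx s

theorem relKer_supported_inr_mem_span {q : relMod (Q.comp P)} (hq : jmap (Q.comp P) q = 0)
    (hq' : ∀ s, q (Sum.inl s) = 0) :
    q ∈ Submodule.span (Q.comp P).toExtension.Ring (Set.range fun p : relKer P => (inclHom Q P).relModMap p) := by
  classical
  let e : (Q.comp P).toExtension.Ring ≃+* MvPolynomial ι' P.toExtension.Ring :=
    (MvPolynomial.sumAlgEquiv A ι' ι).toRingEquiv
  have hrename : ∀ r : P.toExtension.Ring, e ((inclHom Q P).ringHom r) = MvPolynomial.C r := fun r =>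
    (congrArg e (inclHom_ringHom Q P r)).trans
      (AlgHom.congr_fun (MvPolynomial.sumAlgEquiv_comp_rename_inr (R := A) (S₁ := ι') (S₂ := ι)) r)
  let qr : σ →₀ (Q.comp P).toExtension.Ring := q.comapDomain Sum.inr Sum.inr_injective.injOn
  have hqeq : q = qr.sum fun t r => Finsupp.single (Sum.inr t) r := by
    refine Finsupp.ext fun x => ?_
    rw [Finsupp.sum_apply, Finsupp.sum]
    rcases x with x | x
    · rw [hq', eq_comm]
      exact Finset.sum_eq_zero fun t _ => Finsupp.single_eq_of_ne (by simp)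
    · rw [Finset.sum_eq_single x (fun t _ ht => Finsupp.single_eq_of_ne (by simp [ht.symm]))
        (fun hx => by rw [Finsupp.notMem_support_iff.mp hx, Finsupp.single_zero, Finsupp.zero_apply])]
      rw [Finsupp.single_eq_same]
      rfl
  have hsum : qr.sum (fun t r => r * (inclHom Q P).ringHom (rel P t)) = 0 := by
    rw [hqeq, map_finsuppSum] at hq
    rw [← hq]
    refine Finsupp.sum_congr fun t _ => ?_
    rw [← (inclHom Q P).jmap_relVal t, show (inclHom Q P).relVal t = Finsupp.single (Sum.inr t) 1 from rfl,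
      jmap_single, jmap_single, one_mul]
  let cf : (ι' →₀ ℕ) → relMod P := fun α => qr.mapRange (fun r => MvPolynomial.coeff α (e r)) (by rw [map_zero, MvPolynomial.coeff_zero])
  have hcf : ∀ α, jmap P (cf α) = 0 := fun α => by
    have h := congrArg (fun r => MvPolynomial.coeff α (e r)) hsum
    simp only [map_finsuppSum, map_zero, MvPolynomial.coeff_zero, map_mul] at h
    rw [Finsupp.sum, MvPolynomial.coeff_sum] at h
    change Finsupp.linearCombination P.toExtension.Ring (rel P) (Finsupp.mapRange _ _ qr) = 0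
    rw [Finsupp.linearCombination_apply,
      Finsupp.sum_of_support_subset _ Finsupp.support_mapRange (fun i a => a • rel P i) fun t _ => zero_smul _ _]
    refine Eq.trans (Finset.sum_congr rfl fun t _ => ?_) h
    rw [hrename, mul_comm (e (qr t)), MvPolynomial.coeff_C_mul, Finsupp.mapRange_apply, smul_eq_mul, mul_comm]
  let S : Finset (ι' →₀ ℕ) := qr.support.biUnion fun t => (e (qr t)).support
  have hq2 : q = ∑ α ∈ S, e.symm (MvPolynomial.monomial α 1) • (inclHom Q P).relModMap (cf α) := by
    have h2 : ∀ (α) (t : σ), (inclHom Q P).relModMap (cf α) (Sum.inr t) =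
        (inclHom Q P).ringHom (MvPolynomial.coeff α (e (qr t))) := by
      intro α t
      rw [show MvPolynomial.coeff α (e (qr t)) = cf α t from rfl]
      generalize cf α = c
      induction c using Finsupp.induction_linear with
      | zero => rw [map_zero, Finsupp.zero_apply, Finsupp.zero_apply, map_zero]
      | add f g hf hg => rw [map_add, Finsupp.add_apply, hf, hg, Finsupp.add_apply, map_add]
      | single x r =>
        rw [PresHom.relModMap_single, show (inclHom Q P).relVal x = Finsupp.single (Sum.inr x) 1 from rfl,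
          Finsupp.smul_single', mul_one, Finsupp.single_apply, Finsupp.single_apply]
        by_cases hxt : x = t
        · subst hxt; simp
        · rw [if_neg hxt, if_neg (by simp [hxt]), map_zero]
    have h2' : ∀ (α) (s : σ'), (inclHom Q P).relModMap (cf α) (Sum.inl s) = 0 := by
      intro α s
      generalize cf α = c
      induction c using Finsupp.induction_linear with
      | zero => rw [map_zero, Finsupp.zero_apply]
      | add f g hf hg => rw [map_add, Finsupp.add_apply, hf, hg, add_zero]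
      | single x r =>
        rw [PresHom.relModMap_single, show (inclHom Q P).relVal x = Finsupp.single (Sum.inr x) 1 from rfl,
          Finsupp.smul_single', Finsupp.single_eq_of_ne (by simp)]
    refine Finsupp.ext fun x => ?_
    rw [Finsupp.finsetSum_apply]
    rcases x with x | t
    · rw [hq', eq_comm]
      exact Finset.sum_eq_zero fun α _ => by rw [Finsupp.smul_apply, h2', smul_zero]
    · simp only [Finsupp.smul_apply, h2, smul_eq_mul]
      refine e.injective ?_
      rw [map_sum]
      simp only [map_mul, RingEquiv.apply_symm_apply, hrename]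
      have hsub : ∀ α, α ∉ S → MvPolynomial.coeff α (e (qr t)) = 0 := fun α hα => by
        by_contra hne
        refine hα (Finset.mem_biUnion.mpr ⟨t, Finsupp.mem_support_iff.mpr fun h0 => hne ?_,
          MvPolynomial.mem_support_iff.mpr hne⟩)
        rw [h0, map_zero, MvPolynomial.coeff_zero]
      refine MvPolynomial.ext _ _ fun β => ?_
      rw [MvPolynomial.coeff_sum]
      simp only [mul_comm (MvPolynomial.monomial _ (1 : P.toExtension.Ring)), MvPolynomial.C_mul_monomial, mul_one,
        MvPolynomial.coeff_monomial]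
      rw [Finset.sum_ite_eq']
      split_ifs with hβ
      · rfl
      · exact hsub β hβ
  rw [hq2]
  exact sum_mem fun α _ => Submodule.smul_mem _ _ (Submodule.subset_span ⟨⟨cf α, hcf α⟩, rfl⟩)

theorem seq_comp : Seq M (projHom Q P) (inclHom Q P) := by
  classical
  have b1l : ∀ s, (projHom Q P).L1map (L1basis (Q.comp P) (Sum.inl s)) = L1basis Q s := fun s => by
    rw [L1basis_apply, L1basis_apply, L1map_one_tmul, PresHom.relModMap_single, map_one, one_smul]
    rfl
  have b1r : ∀ s, (projHom Q P).L1map (L1basis (Q.comp P) (Sum.inr s)) = 0 := fun s => by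
    rw [L1basis_apply, L1map_one_tmul, PresHom.relModMap_single,
      show (projHom Q P).relVal (Sum.inr s) = 0 from rfl, smul_zero, TensorProduct.tmul_zero]
  have b1i : ∀ s, (inclHom Q P).L1map (L1basis P s) = L1basis (Q.comp P) (Sum.inr s) := fun s => by
    rw [L1basis_apply, L1basis_apply, L1map_one_tmul, PresHom.relModMap_single, map_one, one_smul]
    rfl
  have b0l : ∀ i, (projHom Q P).L0map ((Q.comp P).cotangentSpaceBasis (Sum.inl i)) = Q.cotangentSpaceBasis i :=
    fun i => by
    rw [← basis_eq, ← basis_eq, L0map_one_tmul_D]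
    congr 2
    exact Algebra.Generators.Hom.toAlgHom_X (Q.toGenerators.ofComp P.toGenerators) (Sum.inl i)
  have b0r : ∀ i, (projHom Q P).L0map ((Q.comp P).cotangentSpaceBasis (Sum.inr i)) = 0 := fun i => by
    rw [← basis_eq, L0map_one_tmul_D, show (projHom Q P).ringHom (Xv (Q.comp P) (Sum.inr i)) =
      algebraMap B Q.toExtension.Ring (P.val i) from
        Algebra.Generators.Hom.toAlgHom_X (Q.toGenerators.ofComp P.toGenerators) (Sum.inr i), Derivation.map_algebraMap,
      TensorProduct.tmul_zero]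
  have b0i : ∀ i, (inclHom Q P).L0map (P.cotangentSpaceBasis i) = (Q.comp P).cotangentSpaceBasis (Sum.inr i) :=
    fun i => by
    rw [← basis_eq, ← basis_eq, L0map_one_tmul_D]
    congr 2
    exact Algebra.Generators.Hom.toAlgHom_X (Q.toGenerators.toComp P.toGenerators) i
  have hproj2 : ∀ q : relKer (Q.comp P), (projHom Q P).L2map (eta q) = eta ((projHom Q P).relKerMap q) :=
    fun q => L2map_one_tmul _ q
  have hincl2 : ∀ q : relKer P, (inclHom Q P).L2map (eta q) = eta ((inclHom Q P).relKerMap q) :=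
    fun q => L2map_one_tmul _ q
  have hL2ext : ∀ {ψ ψ' : L2 Q →ₗ[C] M}, (∀ q, ψ (eta q) = ψ' (eta q)) → ψ = ψ' := fun {ψ ψ'} h => by
    refine LinearMap.ext fun z => ?_
    obtain ⟨z, rfl⟩ := Submodule.Quotient.mk_surjective _ z
    obtain ⟨q, rfl⟩ := TensorProduct.mk_surjective Q.toExtension.Ring (relKer Q) C (algebraMap_ring_surjective Q) z
    exact h q
  refine ⟨fun a b h => Q.cotangentSpaceBasis.ext fun i => ?_, fun ψ => ⟨fun h => ?_, ?_⟩, fun φ => ?_,
    fun a b h => (L1basis Q).ext fun s => ?_, fun ψ => ⟨fun h => ?_, ?_⟩, fun φ => ?_, fun a b h => hL2ext fun q => ?_,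
    fun ψ => ⟨fun h => ?_, ?_⟩⟩
  · rw [← b0l]; exact LinearMap.congr_fun h _
  · refine ⟨Q.cotangentSpaceBasis.constr C fun i => ψ ((Q.comp P).cotangentSpaceBasis (Sum.inl i)),
      (Q.comp P).cotangentSpaceBasis.ext fun i => ?_⟩
    rw [PresHom.pull0_apply]
    rcases i with i | i
    · rw [b0l, Module.Basis.constr_basis]
    · rw [b0r, map_zero, ← b0i]
      exact (LinearMap.congr_fun h _).symm
  · rintro ⟨x, rfl⟩
    refine P.cotangentSpaceBasis.ext fun i => ?_
    rw [PresHom.pull0_apply, PresHom.pull0_apply, b0i, b0r, map_zero, LinearMap.zero_apply]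
  · refine ⟨(Q.comp P).cotangentSpaceBasis.constr C (Sum.elim (fun _ => 0) fun i => φ (P.cotangentSpaceBasis i)),
      P.cotangentSpaceBasis.ext fun i => ?_⟩
    rw [PresHom.pull0_apply, b0i, Module.Basis.constr_basis, Sum.elim_inr]
  · rw [← b1l]; exact LinearMap.congr_fun h _
  · refine ⟨(L1basis Q).constr C fun i => ψ (L1basis (Q.comp P) (Sum.inl i)),
      (L1basis (Q.comp P)).ext fun i => ?_⟩
    rw [PresHom.pull1_apply]
    rcases i with i | i
    · rw [b1l, Module.Basis.constr_basis]
    · rw [b1r, map_zero, ← b1i]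
      exact (LinearMap.congr_fun h _).symm
  · rintro ⟨x, rfl⟩
    refine (L1basis P).ext fun i => ?_
    rw [PresHom.pull1_apply, PresHom.pull1_apply, b1i, b1r, map_zero, LinearMap.zero_apply]
  · refine ⟨(L1basis (Q.comp P)).constr C (Sum.elim (fun _ => 0) fun i => φ (L1basis P i)),
      (L1basis P).ext fun i => ?_⟩
    rw [PresHom.pull1_apply, b1i, Module.Basis.constr_basis, Sum.elim_inr]
  · obtain ⟨p, rfl⟩ := projHom_relKerMap_surjective Q P q
    rw [← hproj2]
    exact LinearMap.congr_fun h (eta p)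
  · have vanish : ∀ q : relKer (Q.comp P), (projHom Q P).relKerMap q = 0 → ψ (eta q) = 0 := by
      intro q hq
      obtain ⟨q1, hq1, hq1'⟩ := exists_trivRel_sub Q P (congrArg Subtype.val hq)
      have hq1k : jmap (Q.comp P) q1 = 0 := by
        have := trivRel_le_relKer _ hq1
        rw [show ∀ z, z ∈ relKer (Q.comp P) ↔ jmap (Q.comp P) z = 0 from fun z => LinearMap.mem_ker, map_sub,
          Submodule.subtype_apply, show jmap (Q.comp P) (q : relMod (Q.comp P)) = 0 from q.2,
          zero_sub, neg_eq_zero] at this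
        exact this
      rw [eta_eq_of_mk_eq (x := q) (y := ⟨q1, hq1k⟩) ((Submodule.Quotient.eq _).mpr hq1)]
      have hspan := relKer_supported_inr_mem_span Q P hq1k hq1'
      refine Submodule.span_induction (p := fun y _ => ∀ hy : jmap (Q.comp P) y = 0, ψ (eta ⟨y, hy⟩) = 0)
        ?_ ?_ ?_ ?_ hspan hq1k
      · rintro _ ⟨p, rfl⟩ hy
        have := LinearMap.congr_fun h (eta p)
        rw [PresHom.pull2_apply, hincl2] at this
        exact this
      · intro hy
        rw [show (⟨0, hy⟩ : relKer (Q.comp P)) = 0 from rfl, map_zero, map_zero]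
      · intro a b ha hb iha ihb hy
        have ha' : jmap (Q.comp P) a = 0 := by
          have hle : Submodule.span (Q.comp P).toExtension.Ring
              (Set.range fun p : relKer P => (inclHom Q P).relModMap p) ≤ relKer (Q.comp P) :=
            Submodule.span_le.mpr (by rintro _ ⟨p, rfl⟩; exact ((inclHom Q P).relKerMap p).2)
          exact hle ha
        have hb' : jmap (Q.comp P) b = 0 := by rw [map_add, ha', zero_add] at hy; exact hy
        rw [show (⟨a + b, hy⟩ : relKer (Q.comp P)) = ⟨a, ha'⟩ + ⟨b, hb'⟩ from rfl, map_add, map_add, iha, ihb,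
          add_zero]
      · intro c a ha iha hy
        have ha' : jmap (Q.comp P) a = 0 := by
          have hle : Submodule.span (Q.comp P).toExtension.Ring
              (Set.range fun p : relKer P => (inclHom Q P).relModMap p) ≤ relKer (Q.comp P) :=
            Submodule.span_le.mpr (by rintro _ ⟨p, rfl⟩; exact ((inclHom Q P).relKerMap p).2)
          exact hle ha
        rw [show (⟨c • a, hy⟩ : relKer (Q.comp P)) = c • ⟨a, ha'⟩ from rfl, eta_smul, map_smul, iha, smul_zero]
    choose sec hsec using projHom_relKerMap_surjective Q P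
    have indep : ∀ p q, (projHom Q P).relKerMap p = (projHom Q P).relKerMap q → ψ (eta p) = ψ (eta q) :=
      fun p q hpq => by
        rw [← sub_eq_zero, ← map_sub, ← map_sub]
        exact vanish _ (by rw [map_sub, hpq, sub_self])
    letI : Module Q.toExtension.Ring M := Module.compHom M (algebraMap Q.toExtension.Ring C)
    haveI : IsScalarTower Q.toExtension.Ring C M := IsScalarTower.of_compHom _ C M
    let g : relKer Q →ₗ[Q.toExtension.Ring] M :=
      { toFun := fun q => ψ (eta (sec q))
        map_add' := fun a b => by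
          rw [indep (sec (a + b)) (sec a + sec b) (by rw [map_add, hsec, hsec, hsec]), map_add, map_add]
        map_smul' := fun r a => by
          obtain ⟨r, rfl⟩ := projHom_ringHom_surjective Q P r
          rw [indep (sec ((projHom Q P).ringHom r • a)) (r • sec a)
            (by rw [LinearMap.map_smulₛₗ, hsec, hsec]), eta_smul, map_smul]
          change _ = algebraMap Q.toExtension.Ring C ((projHom Q P).ringHom r) • ψ (eta (sec a))
          rw [(projHom Q P).algebraMap_ringHom]
          rfl }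
    have hg : ∀ k : relKer Q, (k : relMod Q) ∈ trivRel Q → g k = 0 := by
      intro k hk
      have : ∃ y ∈ trivRel (Q.comp P), (projHom Q P).relModMap y = (k : relMod Q) := by
        refine Submodule.span_induction (p := fun y _ => ∃ x ∈ trivRel (Q.comp P), (projHom Q P).relModMap x = y)
          ?_ ?_ ?_ ?_ hk
        · rintro _ ⟨a, b, rfl⟩
          obtain ⟨a, rfl⟩ := projHom_relModMap_surjective Q P a
          obtain ⟨b, rfl⟩ := projHom_relModMap_surjective Q P b
          exact ⟨jmap (Q.comp P) a • b - jmap (Q.comp P) b • a, Submodule.subset_span ⟨a, b, rfl⟩, by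
            rw [map_sub, LinearMap.map_smulₛₗ, LinearMap.map_smulₛₗ, PresHom.jmap_relModMap, PresHom.jmap_relModMap]⟩
        · exact ⟨0, zero_mem _, map_zero _⟩
        · rintro a b _ _ ⟨x, hx, rfl⟩ ⟨y, hy, rfl⟩
          exact ⟨x + y, add_mem hx hy, map_add _ _ _⟩
        · rintro r a _ ⟨x, hx, rfl⟩
          obtain ⟨r, rfl⟩ := projHom_ringHom_surjective Q P r
          exact ⟨r • x, Submodule.smul_mem _ _ hx, LinearMap.map_smulₛₗ _ _ _⟩
      obtain ⟨y, hy, hyk⟩ := this
      change ψ (eta (sec k)) = 0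
      rw [indep (sec k) ⟨y, trivRel_le_relKer _ hy⟩ ((hsec k).trans (Subtype.ext hyk.symm)),
        eta_eq_zero ⟨y, trivRel_le_relKer _ hy⟩ hy, map_zero]
    refine ⟨Submodule.liftQ _ (LinearMap.liftBaseChange C g) ?_, ?_⟩
    · rintro _ ⟨z, rfl⟩
      rw [LinearMap.mem_ker]
      induction z using TensorProduct.induction_on with
      | zero => rw [map_zero, map_zero]
      | add a b ha hb => rw [map_add, map_add, ha, hb, add_zero]
      | tmul c k => rw [LinearMap.baseChange_tmul, LinearMap.liftBaseChange_tmul, Submodule.subtype_apply,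
          hg _ k.2, smul_zero]
    · refine LinearMap.ext fun z => ?_
      obtain ⟨z, rfl⟩ := Submodule.Quotient.mk_surjective _ z
      obtain ⟨q, rfl⟩ := TensorProduct.mk_surjective (Q.comp P).toExtension.Ring (relKer (Q.comp P)) C
        (algebraMap_ring_surjective (Q.comp P)) z
      rw [PresHom.pull2_apply]
      refine (congrArg _ (hproj2 q)).trans ?_
      change (LinearMap.liftBaseChange C g) ((1 : C) ⊗ₜ (projHom Q P).relKerMap q) = ψ (eta q)
      rw [LinearMap.liftBaseChange_tmul, one_smul]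
      exact indep _ _ (hsec _)
  · rintro ⟨x, rfl⟩
    refine LinearMap.ext fun z => ?_
    obtain ⟨z, rfl⟩ := Submodule.Quotient.mk_surjective _ z
    obtain ⟨q, rfl⟩ := TensorProduct.mk_surjective P.toExtension.Ring (relKer P) B (algebraMap_ring_surjective P) z
    rw [PresHom.pull2_apply, PresHom.pull2_apply]
    refine (congrArg (fun w => x ((projHom Q P).L2map w)) (hincl2 q)).trans ?_
    rw [hproj2, show (projHom Q P).relKerMap ((inclHom Q P).relKerMap q) = 0 from Subtype.ext ?_, map_zero, map_zero]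
    · rfl
    · rw [PresHom.relKerMap_coe, PresHom.relKerMap_coe]
      refine Finsupp.ext fun s => ?_
      rw [projHom_relModMap_apply]
      generalize (q : relMod P) = f
      induction f using Finsupp.induction_linear with
      | zero => simp
      | add f g hf hg => rw [map_add, Finsupp.add_apply, map_add, hf, hg]; simp
      | single a r =>
        rw [PresHom.relModMap_single, show (inclHom Q P).relVal a = Finsupp.single (Sum.inr a) 1 from rfl,
          Finsupp.smul_single', Finsupp.single_eq_of_ne (by simp), map_zero]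
        rfl

end Concrete

theorem T0pull_bijective {P : Algebra.Presentation A C ι σ} {P' : Algebra.Presentation A C ι' σ'}
    (h : PresHom P P') : Bijective (h.T0pull M) := by
  rw [T0pull_eq h (someHom P P') M]
  exact (T0equiv (M := M) P P').bijective

omit [IsScalarTower A B C] in
/-- Exactness is kept by an injective additive map afterwards. -/
theorem exact_postcomp {X Y Z Z' F : Type*} [Zero Z] [Zero Z'] [FunLike F Z Z'] [ZeroHomClass F Z Z'] {f : X → Y}
    {g : Y → Z} (h : Exact f g) {e : F} (he : Injective e) {g' : Y → Z'} (hg : ∀ y, e (g y) = g' y) :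
    Exact f g' := fun y => by
  rw [← hg, ← h y]
  exact ⟨fun h0 => he (h0.trans (map_zero e).symm), fun h0 => by rw [h0, map_zero]⟩

end Groth.Agent.H24Cot
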