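import Groth.Agent.H24Cot.Regular
import Groth.Agent.S12285
import Groth.Agent.S12287
import Groth.Agent.S12288

/-!
Localizations and quotients of regular rings: vanishing of `T²`.
-/

universe u

open TensorProduct CotT MvPolynomial

set_option linter.style.haveILetI false

noncomputable section

namespace Groth.Agent.H24Cot

theorem mem_of_mul_unitRel_mem {D σ : Type u} [CommRing D] (s : σ → D) (T : Finset σ) (t : σ) (ht : t ∉ T)
    (x : MvPolynomial σ D)
    (hx : x * (C (s t) * X t - 1) ∈ Ideal.span ((fun i => C (s i) * X i - 1) '' (T : Set σ))) :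
    x ∈ Ideal.span ((fun i => C (s i) * X i - 1) '' (T : Set σ)) := by
  classical
  let e : MvPolynomial σ D ≃ₐ[D] Polynomial (MvPolynomial {j // j ≠ t} D) :=
    (MvPolynomial.renameEquiv D (Equiv.optionSubtypeNe t).symm).trans (MvPolynomial.optionEquivLeft D _)
  let G : Set (MvPolynomial {j // j ≠ t} D) :=
    (fun i : {j // j ≠ t} => C (s i) * X i - 1) '' {i | (i : σ) ∈ T}
  let K : Ideal (MvPolynomial {j // j ≠ t} D) := Ideal.span G
  have heX : e (X t) = Polynomial.X := by
    simp [e, MvPolynomial.optionEquivLeft]
  have heXi : ∀ i : {j // j ≠ t}, e (X (i : σ)) = Polynomial.C (X i) := fun i => by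
    simp [e, MvPolynomial.optionEquivLeft, Equiv.optionSubtypeNe_symm_of_ne i.2]
  have heC : ∀ d : D, e (C d) = Polynomial.C (C d) := fun d => by
    simp [e, MvPolynomial.optionEquivLeft]
  have hJ : (Ideal.span ((fun i => C (s i) * X i - 1) '' (T : Set σ))).map (e : MvPolynomial σ D →+* _) =
      K.map Polynomial.C := by
    rw [Ideal.map_span, Ideal.map_span]
    congr 1
    ext y
    constructor
    · rintro ⟨_, ⟨i, hi, rfl⟩, rfl⟩
      refine ⟨_, ⟨⟨i, fun h => ht (h ▸ hi)⟩, hi, rfl⟩, ?_⟩
      change Polynomial.C (C (s i) * X ⟨i, _⟩ - 1) = e (C (s i) * X i - 1)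
      rw [map_sub, map_sub, map_mul, map_mul, map_one, map_one, heC, ← heXi]
    · rintro ⟨_, ⟨i, hi, rfl⟩, rfl⟩
      refine ⟨_, ⟨i, hi, rfl⟩, ?_⟩
      change e (C (s i) * X (i : σ) - 1) = Polynomial.C (C (s i) * X i - 1)
      rw [map_sub, map_sub, map_mul, map_mul, map_one, map_one, heC, ← heXi]
  have hx' : e x * (Polynomial.C (C (s t)) * Polynomial.X - 1) ∈ K.map Polynomial.C := by
    rw [← hJ, ← heC, ← heX, ← map_mul, ← map_one e, ← map_sub, ← map_mul]
    exact Ideal.mem_map_of_mem _ hx
  rw [Ideal.mem_map_C_iff] at hx'
  have hcoef : ∀ n, (e x).coeff n ∈ K := by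
    intro n
    induction n with
    | zero =>
      have h := hx' 0
      simpa using h
    | succ n ih =>
      have h := hx' (n + 1)
      rw [mul_sub, mul_one, Polynomial.coeff_sub, ← mul_assoc, Polynomial.coeff_mul_X, Polynomial.coeff_mul_C] at h
      have h2 := Ideal.mul_mem_right (C (s t)) K ih
      simpa using sub_mem h2 h
  have hmem : e x ∈ K.map Polynomial.C := Ideal.mem_map_C_iff.mpr hcoef
  rw [← hJ] at hmem
  obtain ⟨y, hy, hyx⟩ := (Ideal.mem_map_iff_of_surjective _ e.surjective).mp hmem
  rwa [e.injective hyx] at hy

section Localization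

variable {D L : Type u} [CommRing D] [CommRing L] [Algebra D L] (S : Submonoid D) [IsLocalization S L]

theorem aeval_unit_surjective :
    Function.Surjective (MvPolynomial.aeval (R := D) fun s : S => IsLocalization.mk' L (1 : D) s) := by
  intro z
  obtain ⟨⟨a, s⟩, rfl⟩ := IsLocalization.mk'_surjective S z
  refine ⟨C a * X s, ?_⟩
  rw [map_mul, aeval_C, aeval_X, IsLocalization.mul_mk'_eq_mk'_of_mul, mul_one]

theorem ker_aeval_unit :
    RingHom.ker (MvPolynomial.aeval (R := D) fun s : S => IsLocalization.mk' L (1 : D) s).toRingHom =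
      Ideal.span (Set.range fun s : S => C (s : D) * X s - 1) := by
  refine le_antisymm (fun x hx => ?_) (Ideal.span_le.mpr ?_)
  · let J : Ideal (MvPolynomial S D) := Ideal.span (Set.range fun s : S => C (s : D) * X s - 1)
    let f : D →+* MvPolynomial S D ⧸ J := (Ideal.Quotient.mk J).comp C
    have hinv : ∀ s : S, f s * Ideal.Quotient.mk J (X s) = 1 := fun s => by
      rw [← map_one (Ideal.Quotient.mk J), RingHom.comp_apply, ← map_mul, Ideal.Quotient.eq]
      exact Ideal.subset_span ⟨s, rfl⟩
    have hf : ∀ s : S, IsUnit (f s) := fun s => IsUnit.of_mul_eq_one _ (hinv s)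
    let g : L →+* MvPolynomial S D ⧸ J := IsLocalization.lift hf
    have hg : g.comp (MvPolynomial.aeval (R := D) fun s : S => IsLocalization.mk' L (1 : D) s).toRingHom =
        Ideal.Quotient.mk J := by
      refine MvPolynomial.ringHom_ext (fun d => ?_) fun s => ?_
      · change g (aeval _ (C d)) = _
        rw [aeval_C, IsLocalization.lift_eq]
        rfl
      · change g (aeval _ (X s)) = _
        rw [aeval_X, IsLocalization.lift_mk'_spec, map_one]
        exact (hinv s).symm
    have : Ideal.Quotient.mk J x = 0 := by
      rw [← RingHom.congr_fun hg x, RingHom.comp_apply, RingHom.mem_ker.mp hx, map_zero]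
    exact Ideal.Quotient.eq_zero_iff_mem.mp this
  · rintro _ ⟨s, rfl⟩
    change aeval _ (C (s : D) * X s - 1) = 0
    rw [map_sub, map_mul, aeval_C, aeval_X, IsLocalization.mul_mk'_eq_mk'_of_mul, mul_one, IsLocalization.mk'_self,
      map_one, sub_self]

/-- The presentation of a localization by inverses of all elements of the submonoid. -/
def locPres : Algebra.Presentation D L S S where
  __ := Algebra.Generators.ofAlgHom (MvPolynomial.aeval (R := D) fun s : S => IsLocalization.mk' L (1 : D) s)
    (aeval_unit_surjective S)
  relation s := C (s : D) * X s - 1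
  span_range_relation_eq_ker := ((ker_aeval_unit S).symm).trans
    (Algebra.Generators.ker_ofAlgHom _ (aeval_unit_surjective S)).symm

theorem relKer_le_locPres : relKer (locPres (L := L) S) ≤ trivRel (locPres (L := L) S) := by
  classical
  have key : ∀ (T : Finset S) (q : relMod (locPres (L := L) S)), q.support ⊆ T →
      jmap (locPres (L := L) S) q = 0 → q ∈ trivRel (locPres (L := L) S) := by
    intro T
    induction T using Finset.induction_on with
    | empty =>
      intro q hq _
      rw [Finsupp.support_eq_empty.mp (Finset.subset_empty.mp hq)]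
      exact zero_mem _
    | @insert t T ht ih =>
      intro q hq h0
      let P := locPres (L := L) S
      let F : S → P.toExtension.Ring := fun i => rel P i
      have hsplit : q = Finsupp.single t (q t) + q.erase t := (Finsupp.single_add_erase t q).symm
      have hrest : (q.erase t).support ⊆ T := fun i hi => by
        rw [Finsupp.support_erase, Finset.mem_erase] at hi
        exact (Finset.mem_insert.mp (hq hi.2)).resolve_left hi.1
      have hJ : ∀ d : relMod P, d.support ⊆ T → jmap P d ∈ Ideal.span (F '' (T : Set S)) := fun d hd => by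
        rw [jmap, Finsupp.linearCombination_apply]
        exact Ideal.sum_mem _ fun i hi => Ideal.mul_mem_left _ _ (Ideal.subset_span ⟨i, hd hi, rfl⟩)
      have hmem : q t * F t ∈ Ideal.span (F '' (T : Set S)) := by
        have h1 : q t * F t = -jmap P (q.erase t) := by
          rw [eq_neg_iff_add_eq_zero, ← h0]
          conv_rhs => rw [hsplit, map_add, jmap_single]
        rw [h1]
        exact neg_mem (hJ _ hrest)
      have hqt : q t ∈ Ideal.span (F '' (T : Set S)) :=
        mem_of_mul_unitRel_mem (fun i : S => (i : D)) T t ht (q t) hmem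
      obtain ⟨d, hd, hd'⟩ := (Finsupp.mem_span_image_iff_linearCombination P.toExtension.Ring).mp hqt
      have hdT : d.support ⊆ T := fun i hi => (Finsupp.mem_supported _ _).mp hd hi
      have hd'' : jmap P d = q t := hd'
      have htriv : Finsupp.single t (q t) - F t • d ∈ trivRel P :=
        Submodule.subset_span ⟨d, Finsupp.single t 1, by rw [hd'', jmap_single, one_mul, Finsupp.smul_single', mul_one]⟩
      have hq2 : q.erase t + F t • d ∈ trivRel P := by
        refine ih _ ((Finsupp.support_add).trans (Finset.union_subset hrest (Finsupp.support_smul.trans hdT))) ?_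
        rw [map_add, map_smul, hd'', smul_eq_mul]
        conv_rhs => rw [← h0, hsplit, map_add, jmap_single]
        ring
      have := add_mem htriv hq2
      rwa [show Finsupp.single t (q t) - F t • d + (q.erase t + F t • d) = q by
        conv_rhs => rw [hsplit]
        abel] at this
  exact fun q hq => key q.support q subset_rfl hq

include S in
theorem subsingleton_T2_localization (M : Type u) [AddCommGroup M] [Module L M] :
    Subsingleton (T2 (canon D L) M) := by
  haveI := subsingleton_T2 (locPres (L := L) S) (relKer_le_locPres S) M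
  exact (T2equiv (M := M) (canon D L) (locPres S)).toEquiv.symm.subsingleton

end Localization

/-- In a composite, `T²` vanishes when both outer ones do. -/
theorem subsingleton_T2_trans (A B C : Type u) [CommRing A] [CommRing B] [CommRing C] [Algebra A B] [Algebra B C]
    [Algebra A C] [IsScalarTower A B C] (M : Type u) [AddCommGroup M] [Module C M]
    (h1 : Subsingleton (T2 (canon B C) M))
    (h2 : ∀ (N : Type u) [AddCommGroup N] [Module B N], Subsingleton (T2 (canon A B) N)) :
    Subsingleton (T2 (canon A C) M) := by
  letI : Module B M := Module.compHom M (algebraMap B C)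
  haveI : IsScalarTower B C M := IsScalarTower.of_compHom B C M
  have h := (Groth.Agent.S12285.result A B C M).2.2.2.1
  haveI := h2 M
  refine subsingleton_of_forall_eq 0 fun x => ?_
  obtain ⟨y, rfl⟩ := (h x).mp (Subsingleton.elim _ _)
  rw [Subsingleton.elim y 0, map_zero]

/-- `T²` of a localization of a polynomial ring vanishes. -/
theorem subsingleton_T2_localization_mvPolynomial (k κ L : Type u) [CommRing k] [CommRing L]
    [Algebra (MvPolynomial κ k) L] [Algebra k L] [IsScalarTower k (MvPolynomial κ k) L]
    (S : Submonoid (MvPolynomial κ k)) [IsLocalization S L] (M : Type u) [AddCommGroup M] [Module L M] :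
    Subsingleton (T2 (canon k L) M) :=
  subsingleton_T2_trans k (MvPolynomial κ k) L M (subsingleton_T2_localization S M)
    fun N _ _ => (Groth.Agent.S12287.result k (MvPolynomial κ k) κ AlgEquiv.refl N).2

end Groth.Agent.H24Cot
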