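import Groth.Agent.H24Cot.Basic
import Mathlib.Algebra.Module.SnakeLemma

/-!
The long exact sequence of the cotangent modules in the module variable.
-/

universe u v w t m

open TensorProduct CotT Function

set_option linter.style.haveILetI false

noncomputable section

namespace Groth.Agent.H24Cot

/-- postcomposition -/
abbrev post {B : Type v} [CommRing B] {N : Type*} [AddCommGroup N] [Module B N] {X Y : Type m}
    [AddCommGroup X] [Module B X] [AddCommGroup Y] [Module B Y] (f : X →ₗ[B] Y) :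
    (N →ₗ[B] X) →ₗ[B] (N →ₗ[B] Y) :=
  LinearMap.llcomp B N X Y f

section Hom

variable {B : Type v} [CommRing B] {N : Type*} [AddCommGroup N] [Module B N]
  {M' M M'' : Type m} [AddCommGroup M'] [Module B M'] [AddCommGroup M] [Module B M] [AddCommGroup M''] [Module B M'']
  {f : M' →ₗ[B] M} {g : M →ₗ[B] M''}

theorem llcomp_injective (hf : Injective f) : Injective (post (N := N) f) := fun a b h =>
  LinearMap.ext fun x => hf (LinearMap.congr_fun h x)

theorem llcomp_exact (hf : Injective f) (hfg : Exact f g) :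
    Exact (post (N := N) f) (post (N := N) g) := by
  intro φ
  constructor
  · intro h
    have hr : ∀ x, φ x ∈ LinearMap.range f := fun x => (hfg _).mp (LinearMap.congr_fun h x)
    refine ⟨(LinearEquiv.ofInjective f hf).symm.toLinearMap ∘ₗ φ.codRestrict _ hr, LinearMap.ext fun x => ?_⟩
    exact congrArg Subtype.val ((LinearEquiv.ofInjective f hf).apply_symm_apply ⟨φ x, hr x⟩)
  · rintro ⟨a, rfl⟩
    exact LinearMap.ext fun x => hfg.apply_apply_eq_zero (a x)

theorem llcomp_surjective {ι : Type*} (b : Module.Basis ι B N) (hg : Surjective g) :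
    Surjective (post (N := N) g) := fun ψ =>
  ⟨b.constr B fun i => (hg (ψ (b i))).choose, b.ext fun i => by
    rw [LinearMap.llcomp_apply, Module.Basis.constr_basis]
    exact (hg (ψ (b i))).choose_spec⟩

end Hom

variable {A : Type u} {B : Type v} {ι : Type w} {σ : Type t}
variable [CommRing A] [CommRing B] [Algebra A B] (P : Algebra.Presentation A B ι σ)
variable {M' M M'' : Type m} [AddCommGroup M'] [Module B M'] [AddCommGroup M] [Module B M] [AddCommGroup M'']
  [Module B M''] {f : M' →ₗ[B] M} {g : M →ₗ[B] M''}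

theorem surjective_C0 (hg : Surjective g) : Surjective (post (N := (L0 P)) g) :=
  llcomp_surjective P.cotangentSpaceBasis hg

theorem surjective_C1 (hg : Surjective g) : Surjective (post (N := (L1 P)) g) :=
  llcomp_surjective (L1basis P) hg

theorem cocycles1Map_injective (hf : Injective f) : Injective (cocycles1Map P f) := fun a b h =>
  Subtype.ext (llcomp_injective hf (congrArg Subtype.val h))

theorem T0map_injective (hf : Injective f) : Injective (T0map P f) := fun a b h =>
  Subtype.ext (llcomp_injective hf (congrArg Subtype.val h))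

theorem cocycles1Map_exact (hf : Injective f) (hfg : Exact f g) :
    Exact (cocycles1Map P f) (cocycles1Map P g) := by
  intro φ
  constructor
  · intro h
    obtain ⟨a, ha⟩ := (llcomp_exact hf hfg (φ : L1 P →ₗ[B] M)).mp (congrArg Subtype.val h)
    have hac : a ∈ cocycles1 P M' := by
      refine LinearMap.ext fun z => hf ?_
      rw [LinearMap.zero_apply, map_zero]
      exact (LinearMap.congr_fun ha (d2 P z)).trans (LinearMap.congr_fun φ.2 z)
    exact ⟨⟨a, hac⟩, Subtype.ext ha⟩
  · rintro ⟨a, rfl⟩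
    exact Subtype.ext (LinearMap.ext fun x => hfg.apply_apply_eq_zero _)

theorem T0map_exact (hf : Injective f) (hfg : Exact f g) : Exact (T0map P f) (T0map P g) := by
  intro φ
  constructor
  · intro h
    obtain ⟨a, ha⟩ := (llcomp_exact hf hfg (φ : L0 P →ₗ[B] M)).mp (congrArg Subtype.val h)
    have hac : a ∈ LinearMap.ker (d1Star P M') := by
      refine LinearMap.ext fun z => hf ?_
      rw [LinearMap.zero_apply, map_zero]
      exact (LinearMap.congr_fun ha (d1 P z)).trans (LinearMap.congr_fun φ.2 z)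
    exact ⟨⟨a, hac⟩, Subtype.ext ha⟩
  · rintro ⟨a, rfl⟩
    exact Subtype.ext (LinearMap.ext fun x => hfg.apply_apply_eq_zero _)

theorem T1map_exact (hf : Injective f) (hg : Surjective g) (hfg : Exact f g) :
    Exact (T1map P f) (T1map P g) := by
  intro x
  obtain ⟨c, rfl⟩ := Submodule.Quotient.mk_surjective _ x
  constructor
  · intro h
    obtain ⟨ψ, hψ⟩ := (Submodule.Quotient.mk_eq_zero _).mp h
    obtain ⟨φ, rfl⟩ := surjective_C0 P hg ψ
    let e : cocycles1 P M := c - ⟨φ ∘ₗ d1 P, by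
      rw [LinearMap.mem_ker, d2Star_apply, LinearMap.comp_assoc, d1_comp_d2, LinearMap.comp_zero]⟩
    obtain ⟨a, ha⟩ := (cocycles1Map_exact P hf hfg e).mp (Subtype.ext (LinearMap.ext fun z => by
      change g ((c : L1 P →ₗ[B] M) z - φ (d1 P z)) = 0
      rw [map_sub, sub_eq_zero]
      exact (LinearMap.congr_fun hψ z).symm))
    refine ⟨Submodule.Quotient.mk a, ?_⟩
    refine Eq.trans (congrArg Submodule.Quotient.mk ha) ?_
    refine (Submodule.Quotient.eq _).mpr ⟨-φ, LinearMap.ext fun z => ?_⟩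
    change -φ (d1 P z) = (c : L1 P →ₗ[B] M) z - φ (d1 P z) - (c : L1 P →ₗ[B] M) z
    abel
  · rintro ⟨a, ha⟩
    obtain ⟨a, rfl⟩ := Submodule.Quotient.mk_surjective _ a
    rw [← ha]
    change Submodule.Quotient.mk (cocycles1Map P g (cocycles1Map P f a)) = 0
    rw [(cocycles1Map_exact P hf hfg).apply_apply_eq_zero]
    rfl

set_option maxHeartbeats 1000000 in
theorem T2map_exact (hf : Injective f) (hg : Surjective g) (hfg : Exact f g) :
    Exact (T2map P f) (T2map P g) := by
  intro x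
  obtain ⟨c, rfl⟩ := Submodule.Quotient.mk_surjective _ x
  constructor
  · intro h
    obtain ⟨ψ, hψ⟩ := (Submodule.Quotient.mk_eq_zero _).mp h
    obtain ⟨φ, rfl⟩ := surjective_C1 P hg ψ
    obtain ⟨a, ha⟩ := (llcomp_exact hf hfg (c - φ ∘ₗ d2 P)).mp (LinearMap.ext fun z => by
      change g (c z - φ (d2 P z)) = 0
      rw [map_sub, sub_eq_zero]
      exact (LinearMap.congr_fun hψ z).symm)
    refine ⟨Submodule.Quotient.mk a, ?_⟩
    refine Eq.trans (congrArg Submodule.Quotient.mk ha) ?_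
    refine (Submodule.Quotient.eq _).mpr ⟨-φ, LinearMap.ext fun z => ?_⟩
    change -φ (d2 P z) = c z - φ (d2 P z) - c z
    abel
  · rintro ⟨a, ha⟩
    obtain ⟨a, rfl⟩ := Submodule.Quotient.mk_surjective _ a
    rw [← ha]
    refine (congrArg Submodule.Quotient.mk ?_).trans (Submodule.Quotient.mk_zero _)
    exact LinearMap.ext fun z => hfg.apply_apply_eq_zero (a z)

variable (M) in
/-- `d₁*` with values in cocycles. -/
def d1Cyc : (L0 P →ₗ[B] M) →ₗ[B] cocycles1 P M :=
  (d1Star P M).codRestrict _ fun φ => by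
    rw [LinearMap.mem_ker]
    exact LinearMap.congr_fun (d2Star_comp_d1Star P M) φ

variable (M) in
theorem exact_d1Cyc : Exact (d1Cyc P M) (coboundaries1 P M).mkQ := by
  intro c
  rw [Submodule.mkQ_apply, Submodule.Quotient.mk_eq_zero]
  exact ⟨fun ⟨φ, h⟩ => ⟨φ, Subtype.ext h⟩, fun ⟨φ, h⟩ => ⟨φ, congrArg Subtype.val h⟩⟩

variable (M) in
theorem exact_subtype_d1Cyc : Exact (LinearMap.ker (d1Star P M)).subtype (d1Cyc P M) := by
  intro φ
  refine ⟨fun h => ⟨⟨φ, congrArg Subtype.val h⟩, rfl⟩, ?_⟩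
  rintro ⟨a, rfl⟩
  exact Subtype.ext a.2

/-- first connecting map -/
theorem exists_delta0 (hf : Injective f) (hg : Surjective g) (hfg : Exact f g) :
    ∃ δ : T0 P M'' →ₗ[B] T1 P M', Exact (T0map P g) δ ∧ Exact δ (T1map P f) := by
  have h₁ : (cocycles1Map P f).comp (d1Cyc P M') = (d1Cyc P M).comp (post (N := (L0 P)) f) :=
    LinearMap.ext fun φ => rfl
  have h₂ : (cocycles1Map P g).comp (d1Cyc P M) = (d1Cyc P M'').comp (post (N := (L0 P)) g) :=
    LinearMap.ext fun φ => rfl
  refine ⟨SnakeLemma.δ' _ _ _ _ _ (llcomp_exact hf hfg) _ _ (cocycles1Map_exact P hf hfg) h₁ h₂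
    (LinearMap.ker (d1Star P M'')).subtype (exact_subtype_d1Cyc P M'') (coboundaries1 P M').mkQ
    (exact_d1Cyc P M') (surjective_C0 P hg) (cocycles1Map_injective P hf), ?_, ?_⟩
  · exact SnakeLemma.exact_δ'_right _ _ _ _ _ _ _ _ _ h₁ h₂ (LinearMap.ker (d1Star P M)).subtype
      (exact_subtype_d1Cyc P M) _ _ _ _ _ _ (T0map P g) (LinearMap.ext fun φ => rfl) Subtype.val_injective
  · exact SnakeLemma.exact_δ'_left _ _ _ _ _ _ _ _ _ h₁ h₂ _ _ _ _ (coboundaries1 P M).mkQ (exact_d1Cyc P M)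
      _ _ (T1map P f) (LinearMap.ext fun φ => rfl) (Submodule.mkQ_surjective _)

variable (M) in
/-- one-cochains modulo coboundaries -/
abbrev Q1 : Type _ := (L1 P →ₗ[B] M) ⧸ LinearMap.range (d1Star P M)

variable (M) in
/-- `d₂*` on `Q1` -/
def d2Q : Q1 P M →ₗ[B] (L2 P →ₗ[B] M) :=
  Submodule.liftQ _ (d2Star P M) (LinearMap.range_le_ker_iff.mpr (d2Star_comp_d1Star P M))

/-- functoriality of `Q1` -/
def Q1map (g : M →ₗ[B] M'') : Q1 P M →ₗ[B] Q1 P M'' :=
  Submodule.mapQ _ _ (post (N := (L1 P)) g) (by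
    rintro _ ⟨ψ, rfl⟩
    exact ⟨g ∘ₗ ψ, rfl⟩)

variable (M) in
/-- inclusion of `T¹` in `Q1` -/
def T1incl : T1 P M →ₗ[B] Q1 P M :=
  Submodule.mapQ _ _ (cocycles1 P M).subtype fun _ h => h

variable (M) in
theorem T1incl_injective : Injective (T1incl P M) := by
  refine (injective_iff_map_eq_zero _).mpr fun x hx => ?_
  obtain ⟨c, rfl⟩ := Submodule.Quotient.mk_surjective _ x
  exact (Submodule.Quotient.mk_eq_zero _).mpr ((Submodule.Quotient.mk_eq_zero (LinearMap.range (d1Star P M))).mp hx)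

variable (M) in
theorem exact_T1incl_d2Q : Exact (T1incl P M) (d2Q P M) := by
  intro x
  obtain ⟨c, rfl⟩ := Submodule.Quotient.mk_surjective _ x
  refine ⟨fun h => ⟨Submodule.Quotient.mk ⟨c, h⟩, rfl⟩, ?_⟩
  rintro ⟨a, ha⟩
  obtain ⟨a, rfl⟩ := Submodule.Quotient.mk_surjective _ a
  rw [← ha]
  exact a.2

variable (M) in
theorem exact_d2Q : Exact (d2Q P M) (LinearMap.range (d2Star P M)).mkQ := by
  intro c
  rw [Submodule.mkQ_apply, Submodule.Quotient.mk_eq_zero]
  constructor
  · rintro ⟨φ, rfl⟩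
    exact ⟨Submodule.Quotient.mk φ, rfl⟩
  · rintro ⟨x, rfl⟩
    obtain ⟨φ, rfl⟩ := Submodule.Quotient.mk_surjective _ x
    exact ⟨φ, rfl⟩

theorem Q1map_surjective (hg : Surjective g) : Surjective (Q1map P g) := by
  intro x
  obtain ⟨c, rfl⟩ := Submodule.Quotient.mk_surjective _ x
  obtain ⟨φ, rfl⟩ := surjective_C1 P hg c
  exact ⟨Submodule.Quotient.mk φ, rfl⟩

theorem Q1map_exact (hf : Injective f) (hg : Surjective g) (hfg : Exact f g) :
    Exact (Q1map P f) (Q1map P g) := by
  intro x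
  obtain ⟨c, rfl⟩ := Submodule.Quotient.mk_surjective _ x
  constructor
  · intro h
    obtain ⟨ψ, hψ⟩ := (Submodule.Quotient.mk_eq_zero _).mp h
    obtain ⟨φ, rfl⟩ := surjective_C0 P hg ψ
    obtain ⟨a, ha⟩ := (llcomp_exact hf hfg (c - φ ∘ₗ d1 P)).mp (LinearMap.ext fun z => by
      change g (c z - φ (d1 P z)) = 0
      rw [map_sub, sub_eq_zero]
      exact (LinearMap.congr_fun hψ z).symm)
    refine ⟨Submodule.Quotient.mk a, ?_⟩
    refine Eq.trans (congrArg Submodule.Quotient.mk ha) ?_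
    refine (Submodule.Quotient.eq _).mpr ⟨-φ, LinearMap.ext fun z => ?_⟩
    change -φ (d1 P z) = c z - φ (d1 P z) - c z
    abel
  · rintro ⟨a, ha⟩
    obtain ⟨a, rfl⟩ := Submodule.Quotient.mk_surjective _ a
    rw [← ha]
    refine (congrArg Submodule.Quotient.mk ?_).trans (Submodule.Quotient.mk_zero _)
    exact LinearMap.ext fun z => hfg.apply_apply_eq_zero (a z)

/-- second connecting map -/
theorem exists_delta1 (hf : Injective f) (hg : Surjective g) (hfg : Exact f g) :
    ∃ δ : T1 P M'' →ₗ[B] T2 P M', Exact (T1map P g) δ ∧ Exact δ (T2map P f) := by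
  have h₁ : (post (N := (L2 P)) f).comp (d2Q P M') = (d2Q P M).comp (Q1map P f) :=
    Submodule.linearMap_qext _ (LinearMap.ext fun φ => rfl)
  have h₂ : (post (N := (L2 P)) g).comp (d2Q P M) = (d2Q P M'').comp (Q1map P g) :=
    Submodule.linearMap_qext _ (LinearMap.ext fun φ => rfl)
  refine ⟨SnakeLemma.δ' _ _ _ _ _ (Q1map_exact P hf hg hfg) _ _ (llcomp_exact hf hfg) h₁ h₂
    (T1incl P M'') (exact_T1incl_d2Q P M'') (LinearMap.range (d2Star P M')).mkQ
    (exact_d2Q P M') (Q1map_surjective P hg) (llcomp_injective hf), ?_, ?_⟩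
  · exact SnakeLemma.exact_δ'_right _ _ _ _ _ _ _ _ _ h₁ h₂ (T1incl P M)
      (exact_T1incl_d2Q P M) _ _ _ _ _ _ (T1map P g)
      (Submodule.linearMap_qext _ (LinearMap.ext fun φ => rfl)) (T1incl_injective P M'')
  · exact SnakeLemma.exact_δ'_left _ _ _ _ _ _ _ _ _ h₁ h₂ _ _ _ _ (LinearMap.range (d2Star P M)).mkQ
      (exact_d2Q P M) _ _ (T2map P f) (LinearMap.ext fun φ => rfl) (Submodule.mkQ_surjective _)

end Groth.Agent.H24Cot
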