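import Groth.Agent.H24Cot.Loc
import Groth.Agent.H8Props.MiracleFlat
import Mathlib.LinearAlgebra.TensorProduct.Quotient

/-!
Vanishing of `T²` of a quotient of a noetherian local ring gives a regular sequence of minimal generators.
-/

universe u v w t

open TensorProduct CotT IsLocalRing

set_option linter.style.haveILetI false

noncomputable section

namespace Groth.Agent.H24Cot

variable {A : Type u} {B : Type v} {ι : Type w} {σ : Type t}
variable [CommRing A] [CommRing B] [Algebra A B] (P : Algebra.Presentation A B ι σ)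

theorem ker_smul_relKer_le_trivRel {r : P.toExtension.Ring} (hr : r ∈ P.toExtension.ker) (q : relKer P) :
    r • (q : relMod P) ∈ trivRel P := by
  obtain ⟨d, rfl⟩ := exists_jmap_eq P hr
  refine Submodule.subset_span ⟨d, (q : relMod P), ?_⟩
  rw [show jmap P (q : relMod P) = 0 from q.2, zero_smul, sub_zero]

theorem mem_smul_top_of_one_tmul_eq_zero {R : Type*} {S : Type*} [CommRing R] [CommRing S] [Algebra R S]
    (hs : Function.Surjective (algebraMap R S)) {N : Type*} [AddCommGroup N] [Module R N] (x y : N)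
    (hxy : (1 : S) ⊗ₜ[R] x = (1 : S) ⊗ₜ[R] y) : x - y ∈ RingHom.ker (algebraMap R S) • (⊤ : Submodule R N) := by
  have hx : (1 : S) ⊗ₜ[R] (x - y) = 0 := by rw [TensorProduct.tmul_sub, hxy, sub_self]
  rw [← Submodule.Quotient.mk_eq_zero, ← TensorProduct.quotTensorEquivQuotSMul_mk_one_tmul]
  let e : (R ⧸ RingHom.ker (algebraMap R S)) ≃ₐ[R] S :=
    Ideal.quotientKerAlgEquivOfSurjective (f := Algebra.ofId R S) hs
  have h1 : LinearMap.rTensor N e.symm.toLinearMap ((1 : S) ⊗ₜ[R] (x - y)) = 1 ⊗ₜ[R] (x - y) := by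
    rw [LinearMap.rTensor_tmul]
    congr 1
    exact map_one e.symm
  rw [← h1, hx, map_zero, map_zero]

theorem mem_trivRel_of_eta_eq_zero (q : relKer P) (hq : eta (P' := P) q = 0) :
    (q : relMod P) ∈ trivRel P := by
  obtain ⟨z, hz⟩ := (Submodule.Quotient.mk_eq_zero _).mp hq
  obtain ⟨k, rfl⟩ := TensorProduct.mk_surjective P.toExtension.Ring (trivRelKer P) B (algebraMap_ring_surjective P) z
  rw [TensorProduct.mk_apply, LinearMap.baseChange_tmul, Submodule.subtype_apply] at hz
  have h1 := mem_smul_top_of_one_tmul_eq_zero (N := relKer P) (algebraMap_ring_surjective P)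
    q (k : relKer P) hz.symm
  have h2 : ∀ y ∈ RingHom.ker (algebraMap P.toExtension.Ring B) • (⊤ : Submodule P.toExtension.Ring (relKer P)),
      (y : relMod P) ∈ trivRel P := fun y hy =>
    Submodule.smul_induction_on (p := fun y : relKer P => (y : relMod P) ∈ trivRel P) hy
      (fun r hr n _ => ker_smul_relKer_le_trivRel P hr n) fun a b ha hb => add_mem ha hb
  have h3 := h2 _ h1
  rw [Submodule.coe_sub] at h3
  simpa using add_mem h3 k.2

variable {A : Type u} [CommRing A] [IsLocalRing A] [IsNoetherianRing A] (I : Ideal A)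

theorem exists_regular_of_T2_eq_zero (hI : I ≠ ⊤)
    (hT : ∀ (M : Type u) [AddCommGroup M] [Module (A ⧸ I) M], Subsingleton (T2 (canon A (A ⧸ I)) M)) :
    ∃ rs : List A, RingTheory.Sequence.IsRegular A rs ∧ Ideal.ofList rs = I := by
  classical
  have hex : ∃ c : ℕ, ∃ g : Fin c → A, Submodule.span A (Set.range g) = I :=
    Submodule.fg_iff_exists_fin_generating_family.mp (IsNoetherian.noetherian I)
  let c := Nat.find hex
  obtain ⟨g, hg⟩ := Nat.find_spec hex
  have hmin : ∀ (e : Fin c → A) (s : Fin c), ∑ i, e i * g i = 0 → e s ∈ maximalIdeal A := by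
    intro e s he
    by_contra hu
    rw [mem_maximalIdeal, mem_nonunits_iff, not_not] at hu
    obtain ⟨n, hn⟩ := Nat.exists_eq_succ_of_ne_zero (Fin.pos s).ne'
    let g' : Fin n → A := fun i => g (Fin.cast hn.symm ((Fin.cast hn s).succAbove i))
    refine Nat.find_min hex (show n < c by omega) ⟨g', le_antisymm ?_ ?_⟩
    · rw [← hg]
      exact Submodule.span_mono (Set.range_subset_iff.mpr fun i => ⟨_, rfl⟩)
    · rw [← hg, Submodule.span_le]
      rintro _ ⟨i, rfl⟩
      have hne : ∀ j, j ≠ s → g j ∈ Submodule.span A (Set.range g') := fun j hj => by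
        obtain ⟨i, hi⟩ := Fin.exists_succAbove_eq (x := Fin.cast hn j) (y := Fin.cast hn s)
          (fun h => hj (Fin.cast_injective hn h))
        exact Submodule.subset_span ⟨i, congrArg g ((congrArg (Fin.cast hn.symm) hi).trans (Fin.ext rfl))⟩
      by_cases his : i = s
      · subst his
        rw [SetLike.mem_coe]
        have : g i = (↑hu.unit⁻¹ : A) • -∑ j ∈ Finset.univ.erase i, e j * g j := by
          rw [← Finset.add_sum_erase _ _ (Finset.mem_univ i)] at he
          rw [← eq_neg_of_add_eq_zero_left he, smul_eq_mul, ← mul_assoc, IsUnit.val_inv_mul, one_mul]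
        rw [this]
        refine Submodule.smul_mem _ _ (neg_mem (sum_mem fun j hj => ?_))
        exact Submodule.smul_mem _ (e j) (hne j (Finset.mem_erase.mp hj).1)
      · exact hne i his
  have hgm : ∀ i, g i ∈ maximalIdeal A := fun i =>
    le_maximalIdeal hI (hg ▸ Submodule.subset_span ⟨i, rfl⟩)
  let ψ : MvPolynomial PEmpty.{u + 1} A →ₐ[A] A ⧸ I := MvPolynomial.aeval fun x => x.elim
  have hψ : Function.Surjective ψ := fun z => by
    obtain ⟨a, rfl⟩ := Ideal.Quotient.mk_surjective z
    exact ⟨MvPolynomial.C a, MvPolynomial.aeval_C _ a⟩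
  have hker : RingHom.ker ψ.toRingHom = Ideal.span (Set.range fun i => (MvPolynomial.C (g i) :
      MvPolynomial PEmpty.{u + 1} A)) := by
    refine le_antisymm (fun x hx => ?_) (Ideal.span_le.mpr ?_)
    · obtain ⟨a, rfl⟩ := MvPolynomial.C_surjective PEmpty.{u + 1} x
      have ha : a ∈ I := Ideal.Quotient.eq_zero_iff_mem.mp ((MvPolynomial.aeval_C _ a).symm.trans hx)
      rw [← hg] at ha
      have := Ideal.mem_map_of_mem (MvPolynomial.C : A →+* MvPolynomial PEmpty.{u + 1} A) ha
      rwa [Ideal.map_span, ← Set.range_comp] at this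
    · rintro _ ⟨i, rfl⟩
      exact (MvPolynomial.aeval_C _ _).trans (Ideal.Quotient.eq_zero_iff_mem.mpr (hg ▸ Submodule.subset_span ⟨i, rfl⟩))
  let P : Algebra.Presentation A (A ⧸ I) PEmpty.{u + 1} (Fin c) :=
    { toGenerators := Algebra.Generators.ofAlgHom ψ hψ
      relation := fun i => MvPolynomial.C (g i)
      span_range_relation_eq_ker := hker.symm.trans (Algebra.Generators.ker_ofAlgHom ψ hψ).symm }
  let φ : P.toExtension.Ring →+* A := (MvPolynomial.isEmptyAlgEquiv A PEmpty.{u + 1}).toRingEquiv.toRingHom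
  have hφC : ∀ a, φ (Cv P a) = a := (MvPolynomial.isEmptyAlgEquiv A PEmpty.{u + 1}).commutes
  have hφrel : ∀ i, φ (rel P i) = g i := fun i => hφC (g i)
  have halg : ∀ r : P.toExtension.Ring, algebraMap P.toExtension.Ring (A ⧸ I) r = Ideal.Quotient.mk I (φ r) :=
    fun r => by
    induction r using ring_induction with
    | C a =>
      rw [hφC]
      exact (algebraMap_toExtension P (Cv P a)).trans (MvPolynomial.aeval_C _ a)
    | add p q hp hq => rw [map_add, hp, hq, map_add, map_add]
    | mul_X p i _ => exact i.elim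
  haveI := Ideal.Quotient.nontrivial_iff.mpr hI
  haveI : IsLocalRing (A ⧸ I) :=
    IsLocalRing.of_surjective' (Ideal.Quotient.mk I) Ideal.Quotient.mk_surjective
  have hd : ∀ z : L2 P, d2 P z ∈ (maximalIdeal (A ⧸ I)) • (⊤ : Submodule (A ⧸ I) (L1 P)) := by
    intro z
    obtain ⟨z, rfl⟩ := Submodule.Quotient.mk_surjective _ z
    obtain ⟨q, rfl⟩ := TensorProduct.mk_surjective P.toExtension.Ring (relKer P) (A ⧸ I)
      (algebraMap_ring_surjective P) z
    rw [TensorProduct.mk_apply, d2_mk_tmul, ← Finsupp.univ_sum_single (q : relMod P), TensorProduct.tmul_sum]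
    refine sum_mem fun i _ => ?_
    rw [← Finsupp.smul_single_one, one_tmul_smul]
    refine Submodule.smul_mem_smul ?_ trivial
    rw [halg]
    have hrel : jmap P (q : relMod P) = 0 := q.2
    rw [jmap, Finsupp.linearCombination_apply,
      Finsupp.sum_fintype _ (fun s a => a • rel P s) (fun s => zero_smul _ _)] at hrel
    have he : ∑ j, φ ((q : relMod P) j) * g j = 0 := by
      simp only [← hφrel, ← map_mul, ← map_sum]
      rw [show ∑ j, (q : relMod P) j * rel P j = 0 from hrel, map_zero]
    have hm := hmin (fun j => φ ((q : relMod P) j)) i he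
    rw [mem_maximalIdeal, mem_nonunits_iff]
    intro hunit
    obtain ⟨u, hu⟩ := hunit.exists_left_inv
    obtain ⟨u, rfl⟩ := Ideal.Quotient.mk_surjective u
    rw [← map_mul, ← map_one (Ideal.Quotient.mk I), Ideal.Quotient.eq] at hu
    have h1 : (1 : A) ∈ maximalIdeal A := by
      have := sub_mem (Ideal.mul_mem_left _ u hm) (le_maximalIdeal hI hu)
      simpa using this
    exact (maximalIdeal.isMaximal A).ne_top ((Ideal.eq_top_iff_one _).mpr h1)
  let J : Submodule (A ⧸ I) (L2 P) := maximalIdeal (A ⧸ I) • ⊤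
  haveI : Subsingleton (T2 P (L2 P ⧸ J)) :=
    haveI := hT (L2 P ⧸ J)
    (T2equiv (M := L2 P ⧸ J) (canon A (A ⧸ I)) P).toEquiv.subsingleton
  obtain ⟨φ₂, hφ₂⟩ := (Submodule.Quotient.mk_eq_zero (LinearMap.range (d2Star P (L2 P ⧸ J)))
    (x := J.mkQ)).mp (Subsingleton.elim _ _)
  have hJtop : (⊤ : Submodule (A ⧸ I) (L2 P)) ≤ J := fun z _ => by
    rw [← Submodule.Quotient.mk_eq_zero]
    have hz : J.mkQ z = φ₂ (d2 P z) := (LinearMap.congr_fun hφ₂ z).symm
    refine hz.trans ?_
    refine Submodule.smul_induction_on (p := fun w => φ₂ w = 0) (hd z) (fun r hr w _ => ?_)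
      fun a b ha hb => by rw [map_add, ha, hb, add_zero]
    rw [map_smul]
    obtain ⟨v, hv⟩ := Submodule.mkQ_surjective J (φ₂ w)
    rw [← hv, ← map_smul, Submodule.mkQ_apply, Submodule.Quotient.mk_eq_zero]
    exact Submodule.smul_mem_smul hr trivial
  haveI : IsNoetherianRing P.toExtension.Ring :=
    inferInstanceAs (IsNoetherianRing (MvPolynomial PEmpty.{u + 1} A))
  haveI : Module.Finite P.toExtension.Ring (relKer P) :=
    Module.Finite.iff_fg.mpr (IsNoetherian.noetherian _)
  have htop : (⊤ : Submodule (A ⧸ I) (L2 P)) = ⊥ :=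
    Submodule.eq_bot_of_le_smul_of_le_jacobson_bot (maximalIdeal (A ⧸ I)) ⊤ Module.Finite.fg_top hJtop
      (IsLocalRing.maximalIdeal_le_jacobson ⊥)
  have hK : CInt.KoszulH1Zero g A := by
    rw [H13CInt.koszulH1Zero_iff]
    intro m hm
    rw [LinearMap.mem_ker, H13CInt.relMap_apply] at hm
    let N := (Fin c → A) ⧸ H13CInt.trivRel g A
    let x : Fin c → N := fun i => Submodule.Quotient.mk (Pi.single i 1)
    have hx : ∀ i j, g i • x j = g j • x i := fun i j => by
      simp only [x, ← Submodule.Quotient.mk_smul]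
      exact (Submodule.Quotient.eq _).mpr (Submodule.subset_span ⟨j, i, 1, rfl⟩)
    let ν : relMod P → N := fun f => ∑ i, φ (f i) • x i
    have hν0 : ∀ f ∈ trivRel P, ν f = 0 := by
      intro f hf
      refine Submodule.span_induction (p := fun f _ => ν f = 0) ?_ ?_ ?_ ?_ hf
      · rintro _ ⟨a, b, rfl⟩
        have hj : ∀ d : relMod P, φ (jmap P d) = ∑ i, φ (d i) * g i := fun d => by
          rw [jmap, Finsupp.linearCombination_apply,
            Finsupp.sum_fintype _ (fun s a => a • rel P s) (fun s => zero_smul _ _), map_sum]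
          exact Finset.sum_congr rfl fun i _ => by rw [smul_eq_mul, map_mul, hφrel]
        simp only [ν, Finsupp.sub_apply, Finsupp.smul_apply, smul_eq_mul, map_sub, map_mul, sub_smul,
          Finset.sum_sub_distrib, hj, mul_smul, Finset.sum_smul, Finset.smul_sum]
        rw [sub_eq_zero, Finset.sum_comm]
        exact Finset.sum_congr rfl fun i _ => Finset.sum_congr rfl fun j _ => by
          rw [← smul_comm (φ (b j)) (g i), hx i j, smul_comm (g j), smul_comm (φ (a i))]
      · simp [ν]
      · intro a b _ _ ha hb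
        simp only [ν, Finsupp.add_apply, map_add, add_smul, Finset.sum_add_distrib] at ha hb ⊢
        rw [ha, hb, add_zero]
      · intro r a _ ha
        simp only [ν, Finsupp.smul_apply, smul_eq_mul, map_mul, mul_smul, ← Finset.smul_sum] at ha ⊢
        rw [ha, smul_zero]
    let q : relMod P := Finsupp.equivFunOnFinite.symm fun i => Cv P (m i)
    have hqapp : ∀ i, q i = Cv P (m i) := fun i => rfl
    have hqk : jmap P q = 0 := by
      rw [jmap, Finsupp.linearCombination_apply,
        Finsupp.sum_fintype _ (fun s a => a • rel P s) (fun s => zero_smul _ _)]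
      refine (MvPolynomial.isEmptyAlgEquiv A PEmpty.{u + 1}).injective ?_
      change φ (∑ i, q i * rel P i) = φ 0
      simp only [map_sum, map_mul, map_zero, hφrel, hqapp, hφC]
      simpa [mul_comm] using hm
    have h0 : eta (P' := P) ⟨q, hqk⟩ = 0 :=
      (Submodule.mem_bot (A ⧸ I)).mp (htop.le (Submodule.mem_top : eta (P' := P) ⟨q, hqk⟩ ∈ ⊤))
    have h1 : ν q = 0 := hν0 _ (mem_trivRel_of_eta_eq_zero P ⟨q, hqk⟩ h0)
    simp only [ν, hqapp, hφC, x, ← Submodule.mkQ_apply, ← map_smul, ← map_sum] at h1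
    have hm' : ∑ i, m i • (Pi.single i (1 : A) : Fin c → A) = m := by
      funext j; simp [Finset.sum_apply, Pi.single_apply]
    rw [hm', Submodule.mkQ_apply, Submodule.Quotient.mk_eq_zero] at h1
    exact h1
  refine ⟨List.ofFn g, ?_, by rw [H13CInt.ofList_ofFn]; exact hg⟩
  rw [IsLocalRing.isRegular_iff_isWeaklyRegular_of_subset_maximalIdeal (List.forall_mem_ofFn_iff.2 hgm)]
  exact H13CInt.isWeaklyRegular_of_koszulH1Zero g (fun i => IsLocalRing.maximalIdeal_le_jacobson ⊥ (hgm i)) hK

end Groth.Agent.H24Cot
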