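import Groth.Agent.H24Cot.Exal
import Mathlib.RingTheory.Ideal.Cotangent
import Mathlib.RingTheory.Artinian.Ring
import Mathlib.RingTheory.HopkinsLevitzki
import Mathlib.RingTheory.LocalRing.Module
import Mathlib.RingTheory.Ideal.IdempotentFG

/-! A local Artinian algebra which is not the ground field has a nontrivial extension by its residue
field. -/

set_option autoImplicit false
set_option linter.style.haveILetI false

universe u

open IsLocalRing

noncomputable section

namespace Groth.Agent.H24Cot

theorem classifies_zero_of_isTrivial {A B M : Type u} [CommRing A] [CommRing B] [Algebra A B]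
    [AddCommGroup M] [Module B M] {ι σ : Type u} (P : Algebra.Presentation A B ι σ)
    {X : Exal.Ext A B M} (h : X.IsTrivial) : Classifies P X 0 := by
  obtain ⟨s, hs⟩ := h
  refine ⟨s.comp (IsScalarTower.toAlgHom A P.toExtension.Ring B), fun r => hs _, fun x => ?_⟩
  rw [LinearMap.zero_apply, map_zero, AlgHom.comp_apply, IsScalarTower.coe_toAlgHom',
    show algebraMap P.toExtension.Ring B x = 0 from x.2, map_zero]

variable {k A : Type u} [Field k] [CommRing A] [Algebra k A] [IsLocalRing A]

theorem exists_residue_derivation (hres : ∀ a : A, ∃ c : k, a - algebraMap k A c ∈ maximalIdeal A) :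
    ∃ δ : Derivation k A (maximalIdeal A).Cotangent, ∀ x : maximalIdeal A,
      δ x.1 = (maximalIdeal A).toCotangent x := by
  let m := maximalIdeal A
  choose c hc using hres
  have huniq : ∀ (a : A) (e : k), a - algebraMap k A e ∈ m → e = c a := fun a e he => by
    by_contra hne
    have h1 := sub_mem (hc a) he
    rw [sub_sub_sub_cancel_left, ← map_sub] at h1
    exact (mem_maximalIdeal _).mp h1 ((Ne.isUnit (sub_ne_zero.mpr hne)).map _)
  let pr : A → m := fun a => ⟨a - algebraMap k A (c a), hc a⟩
  let δ : A →ₗ[k] m.Cotangent :=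
    { toFun := fun a => m.toCotangent (pr a)
      map_add' := fun a b => by
        rw [← map_add]
        congr 1
        refine Subtype.ext ?_
        have : c a + c b = c (a + b) := huniq _ _ (by rw [map_add, add_sub_add_comm]; exact add_mem (hc a) (hc b))
        simp only [pr, Submodule.coe_add, ← this, map_add]
        ring
      map_smul' := fun e a => by
        have : e * c a = c (e • a) := huniq _ _ (by
          rw [map_mul, Algebra.smul_def, ← mul_sub]; exact m.mul_mem_left _ (hc a))
        rw [RingHom.id_apply, ← LinearMap.map_smul_of_tower]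
        congr 1
        refine Subtype.ext ?_
        simp only [pr, SetLike.val_smul_of_tower]
        rw [← this, map_mul, Algebra.smul_def, Algebra.smul_def, mul_sub] }
  refine ⟨Derivation.mk' δ fun a b => ?_, fun x => ?_⟩
  · change m.toCotangent (pr (a * b)) = a • m.toCotangent (pr b) + b • m.toCotangent (pr a)
    have hcc : c a * c b = c (a * b) := huniq _ _ (by
      rw [map_mul, show a * b - algebraMap k A (c a) * algebraMap k A (c b) =
        a * (b - algebraMap k A (c b)) + algebraMap k A (c b) * (a - algebraMap k A (c a)) by ring]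
      exact add_mem (m.mul_mem_left _ (hc b)) (m.mul_mem_left _ (hc a)))
    rw [← map_smul, ← map_smul, ← map_add, Ideal.toCotangent_eq]
    have : (pr (a * b)).1 - (a • pr b + b • pr a : m).1 = -((pr a).1 * (pr b).1) := by
      simp only [pr, Submodule.coe_add, SetLike.val_smul, smul_eq_mul, ← hcc, map_mul]
      ring
    rw [this, pow_two]
    exact neg_mem (Ideal.mul_mem_mul (pr a).2 (pr b).2)
  · change m.toCotangent (pr x.1) = m.toCotangent x
    congr 1
    exact Subtype.ext (by simp only [pr, ← huniq x.1 0 (by rw [map_zero, sub_zero]; exact x.2), map_zero, sub_zero])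

theorem exists_ext_not_isTrivial [IsArtinianRing A]
    (hres : ∀ a : A, ∃ c : k, a - algebraMap k A c ∈ maximalIdeal A) (hA : maximalIdeal A ≠ ⊥) :
    ∃ X : Exal.Ext k A (ResidueField A), ¬ X.IsTrivial := by
  classical
  obtain ⟨δ, hδ⟩ := exists_residue_derivation hres
  let m := maximalIdeal A
  haveI : IsNoetherianRing A := inferInstance
  let b := Module.Free.chooseBasis (ResidueField A) (CotangentSpace A)
  choose x hx using fun i => m.toCotangent_surjective (b i)
  let v : Module.Free.ChooseBasisIndex (ResidueField A) (CotangentSpace A) → A := fun i => (x i).1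
  have hspan : Ideal.span (Set.range v) = m := by
    have h1 : Submodule.span (ResidueField A) (m.toCotangent '' Set.range x) = ⊤ := by
      rw [← Set.range_comp, show m.toCotangent ∘ x = b from funext hx, b.span_eq]
    have h2 := (CotangentSpace.span_image_eq_top_iff (R := A)).mp h1
    have h3 := congrArg (Submodule.map m.subtype) h2
    rw [Submodule.map_top, Submodule.range_subtype, Submodule.map_span, ← Set.range_comp] at h3
    exact h3
  have hgen : Algebra.adjoin k (Set.range v) = ⊤ := by
    obtain ⟨N, hN⟩ : IsNilpotent m := by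
      have h := IsArtinianRing.isNilpotent_jacobson_bot (R := A)
      rwa [IsLocalRing.jacobson_eq_maximalIdeal ⊥ bot_ne_top] at h
    let S := Algebra.adjoin k (Set.range v)
    suffices H : ∀ n a, ∃ s ∈ S, a - s ∈ m ^ n by
      refine eq_top_iff.mpr fun a _ => ?_
      obtain ⟨s, hs, h⟩ := H N a
      rw [hN, Ideal.zero_eq_bot, Ideal.mem_bot, sub_eq_zero] at h
      exact h ▸ hs
    intro n
    induction n with
    | zero => intro a; exact ⟨0, S.zero_mem, by simp⟩
    | succ n ih =>
      intro a
      obtain ⟨c, hc⟩ := hres a
      obtain ⟨g, hg⟩ := Ideal.mem_span_range_iff_exists_fun.mp (show a - algebraMap k A c ∈ Ideal.span (Set.range v) by rw [hspan]; exact hc)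
      choose s hs hs' using fun i => ih (g i)
      refine ⟨algebraMap k A c + ∑ i, s i * v i, S.add_mem (S.algebraMap_mem c)
        (Subalgebra.sum_mem _ fun i _ => S.mul_mem (hs i) (Algebra.subset_adjoin ⟨i, rfl⟩)), ?_⟩
      rw [← sub_sub, ← hg, ← Finset.sum_sub_distrib, pow_succ]
      refine sum_mem fun i _ => ?_
      rw [← sub_mul]
      exact Ideal.mul_mem_mul (hs' i) (x i).2
  have hsurj : Function.Surjective (MvPolynomial.aeval (R := k) v) := by
    rw [← AlgHom.range_eq_top, ← Algebra.adjoin_range_eq_range_aeval, hgen]
  let G := Algebra.Generators.ofSurjective v hsurj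
  let P : Algebra.Presentation k A _ G.ker :=
    { toGenerators := G
      relation := Subtype.val
      span_range_relation_eq_ker := by rw [Subtype.range_coe_subtype]; exact Ideal.span_eq G.ker }
  have hder : ∀ p : P.toExtension.Ring, δ (algebraMap P.toExtension.Ring A p) =
      ∑ i, algebraMap P.toExtension.Ring A (MvPolynomial.pderiv i p) • b i := by
    intro p
    change δ (MvPolynomial.aeval v p) = ∑ i, MvPolynomial.aeval v (MvPolynomial.pderiv i p) • b i
    induction p using MvPolynomial.induction_on with
    | C a => simp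
    | add p q hp hq => simp [map_add, hp, hq, add_smul, Finset.sum_add_distrib]
    | mul_X p i hp =>
      rw [map_mul, δ.leibniz, hp, MvPolynomial.aeval_X, hδ, hx]
      simp [Pi.single_apply, add_smul, Finset.sum_add_distrib, Finset.smul_sum, smul_smul, apply_ite,
        ite_smul, mul_comm]
  have hlin : ∀ p : P.toExtension.ker, ∀ i,
      algebraMap P.toExtension.Ring A (MvPolynomial.pderiv i p.1) ∈ m := by
    intro p
    have h0 := hder p.1
    rw [show algebraMap P.toExtension.Ring A p.1 = 0 from p.2, map_zero] at h0
    intro i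
    have h2 : ∑ j, residue A (algebraMap P.toExtension.Ring A (MvPolynomial.pderiv j p.1)) • b j = 0 := by
      rw [h0]
      refine Finset.sum_congr rfl fun j _ => ?_
      rw [← IsLocalRing.ResidueField.algebraMap_eq, algebraMap_smul]
    exact (residue_eq_zero_iff _).mp (Fintype.linearIndependent_iff.mp b.linearIndependent _ h2 i)
  have hbot : P.toExtension.ker ≠ ⊥ := fun hI => by
    have hinj : Function.Injective (algebraMap P.toExtension.Ring A) :=
      (injective_iff_map_eq_zero _).mpr fun z hz => (Ideal.mem_bot).mp (hI ▸ (show z ∈ P.toExtension.ker from hz))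
    haveI : IsDomain A := ((RingEquiv.ofBijective (algebraMap P.toExtension.Ring A)
      ⟨hinj, P.algebraMap_surjective⟩).symm).toMulEquiv.isDomain (MvPolynomial _ k)
    exact hA ((isField_iff_maximalIdeal_eq).mp (IsArtinianRing.isField_of_isDomain A))
  have hcot : Nontrivial P.toExtension.Cotangent := by
    by_contra h
    rw [not_nontrivial_iff_subsingleton] at h
    have hidem : IsIdempotentElem P.toExtension.ker := by
      refine le_antisymm Ideal.mul_le_right fun z hz => ?_
      have := Subsingleton.elim (Algebra.Extension.Cotangent.mk ⟨z, hz⟩) (0 : P.toExtension.Cotangent)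
      rw [Algebra.Extension.Cotangent.mk_eq_zero_iff, pow_two] at this
      exact this
    obtain ⟨e, he, hI⟩ := (Ideal.isIdempotentElem_iff_of_fg _
      ((inferInstance : IsNoetherianRing (MvPolynomial _ k)).noetherian P.toExtension.ker)).mp hidem
    rcases (IsIdempotentElem.iff_eq_zero_or_one).mp he with rfl | rfl
    · exact hbot (hI.trans (Ideal.span_singleton_eq_bot.mpr rfl))
    · have h1 : (1 : P.toExtension.Ring) ∈ P.toExtension.ker :=
        hI ▸ Ideal.subset_span (Set.mem_singleton _)
      exact one_ne_zero ((map_one (algebraMap P.toExtension.Ring A)).symm.trans h1)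
  haveI : Module.Finite A P.toExtension.Cotangent := by
    haveI : IsNoetherianRing P.toExtension.Ring := (inferInstance : IsNoetherianRing (MvPolynomial _ k))
    haveI : Module.Finite P.toExtension.Ring P.toExtension.ker :=
      Module.Finite.iff_fg.mpr (IsNoetherian.noetherian _)
    haveI : Module.Finite P.toExtension.Ring P.toExtension.Cotangent :=
      Module.Finite.of_surjective Algebra.Extension.Cotangent.mk Algebra.Extension.Cotangent.mk_surjective
    exact Module.Finite.of_restrictScalars_finite P.toExtension.Ring A _
  obtain ⟨φ, hφ⟩ : ∃ φ : P.toExtension.Cotangent →ₗ[A] ResidueField A, φ ≠ 0 := by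
    let N := P.toExtension.Cotangent
    haveI : Nontrivial (N ⧸ (m • ⊤ : Submodule A N)) := by
      refine Submodule.Quotient.nontrivial_iff.mpr fun htop => ?_
      have := Submodule.eq_bot_of_le_smul_of_le_jacobson_bot m ⊤ Module.Finite.fg_top htop.ge
        (maximalIdeal_le_jacobson _)
      exact (not_subsingleton N) ((Submodule.subsingleton_iff A).mp (subsingleton_of_bot_eq_top this.symm))
    letI : Field (A ⧸ m) := Ideal.Quotient.field m
    obtain ⟨y, hy⟩ := exists_ne (0 : N ⧸ (m • ⊤ : Submodule A N))
    let bb := Module.Free.chooseBasis (A ⧸ m) (N ⧸ (m • ⊤ : Submodule A N))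
    obtain ⟨i, hi⟩ : ∃ i, bb.coord i y ≠ 0 := by
      by_contra h
      simp only [not_exists, not_not] at h
      exact hy (bb.forall_coord_eq_zero_iff.mp h)
    let f : (N ⧸ (m • ⊤ : Submodule A N)) →ₗ[A] A ⧸ m := (bb.coord i).restrictScalars A
    let g : P.toExtension.Cotangent →ₗ[A] ResidueField A := f.comp (Submodule.mkQ _)
    refine ⟨g, fun h => hi ?_⟩
    obtain ⟨z, rfl⟩ := Submodule.Quotient.mk_surjective _ y
    exact LinearMap.congr_fun h z
  obtain ⟨X, hX⟩ := exists_ext_classified P φ
  refine ⟨X, fun htriv => hφ (LinearMap.ext fun z => ?_)⟩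
  obtain ⟨χ, hχ⟩ := sub_mem_of_classifies P (classifies_zero_of_isTrivial P htriv) hX
  obtain ⟨p, rfl⟩ := Algebra.Extension.Cotangent.mk_surjective z
  rw [hχ, zero_add, LinearMap.comp_apply, Algebra.Extension.cotangentComplex_mk]
  rw [← P.cotangentSpaceBasis.sum_repr ((1 : A) ⊗ₜ[P.toExtension.Ring] KaehlerDifferential.D k P.toExtension.Ring p.1), map_sum]
  refine Finset.sum_eq_zero fun i _ => ?_
  rw [map_smul, Algebra.Generators.cotangentSpaceBasis_repr_one_tmul, ← algebraMap_smul (ResidueField A)]
  have : residue A (algebraMap P.toExtension.Ring A (MvPolynomial.pderiv i p.1)) = 0 :=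
    (residue_eq_zero_iff _).mpr (hlin p i)
  rw [IsLocalRing.ResidueField.algebraMap_eq]
  exact (congrArg (· • _) this).trans (zero_smul _ _)

end Groth.Agent.H24Cot
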