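import Groth.Agent.H24Cot.Compare
import Mathlib.RingTheory.PowerSeries.Basic
import Mathlib.RingTheory.PowerSeries.Order
import Mathlib.RingTheory.PowerSeries.Trunc
import Mathlib.RingTheory.Smooth.Locus
import Mathlib.RingTheory.Jacobson.Ring
import Mathlib.FieldTheory.IsAlgClosed.Basic
import Mathlib.Algebra.MvPolynomial.Derivation
import Mathlib.Algebra.MvPolynomial.PDeriv

/-!
Formally rigid fibres of flat families over a smooth curve, in elementary form: power series
coordinates, trivialisation modulo powers of the parameter, and descent of the splitting.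
-/

universe u

open scoped PowerSeries
open PowerSeries (coeff constantCoeff)

set_option linter.style.haveILetI false

namespace Groth.Agent.H24Cot.RigidFamily

/-- If the constant coefficient of a ring map into power series hitting `X` is surjective, then the
map is surjective modulo every power of `X`. -/
theorem exists_X_pow_dvd_sub {R S : Type*} [CommRing R] [CommRing S] (q : R →+* S⟦X⟧) {t : R}
    (ht : q t = PowerSeries.X) (hq : Function.Surjective fun r => constantCoeff (q r))
    (m : ℕ) (f : S⟦X⟧) : ∃ r, PowerSeries.X ^ m ∣ f - q r := by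
  induction m generalizing f with
  | zero => exact ⟨0, by simp⟩
  | succ m ih =>
    obtain ⟨r, hr⟩ := hq (constantCoeff f)
    have h0 : PowerSeries.X ∣ f - q r := by
      rw [PowerSeries.X_dvd_iff, map_sub]; exact sub_eq_zero.2 hr.symm
    obtain ⟨g, hg⟩ := h0
    obtain ⟨s, hs⟩ := ih g
    refine ⟨r + t * s, ?_⟩
    have : f - q (r + t * s) = PowerSeries.X * (g - q s) := by
      rw [map_add, map_mul, ht, ← sub_sub, hg, mul_sub]
    rw [this, pow_succ']
    exact mul_dvd_mul_left _ hs

/-- Preimages of powers of `X`. -/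
theorem exists_sub_mem_of_X_pow_dvd {R S : Type*} [CommRing R] [CommRing S] (q : R →+* S⟦X⟧) {t : R}
    (ht : q t = PowerSeries.X) (J : Ideal R) (m₀ : ℕ) (hJ : ∀ j ∈ J, PowerSeries.X ^ m₀ ∣ q j)
    (hker : ∀ r, constantCoeff (q r) = 0 → ∃ s, r - t * s ∈ J) {m : ℕ} (hm : m ≤ m₀) {r : R}
    (hr : PowerSeries.X ^ m ∣ q r) : ∃ s, r - t ^ m * s ∈ J := by
  induction m generalizing r with
  | zero => exact ⟨r, by simp⟩
  | succ m ih =>
    obtain ⟨s, hs⟩ := ih (by omega) ((dvd_mul_right _ _).trans (pow_succ (PowerSeries.X (R := S)) m ▸ hr))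
    have hj : PowerSeries.X ^ (m + 1) ∣ q (r - t ^ m * s) := (pow_dvd_pow _ hm).trans (hJ _ hs)
    have h1 : PowerSeries.X ^ (m + 1) ∣ PowerSeries.X ^ m * q s := by
      have h := dvd_sub hr hj
      rwa [← map_sub, sub_sub_cancel, map_mul, map_pow, ht] at h
    have h2 : constantCoeff (q s) = 0 := by
      have h := PowerSeries.X_pow_dvd_iff.1 h1 m (Nat.lt_succ_self m)
      rwa [PowerSeries.coeff_X_pow_mul' , if_pos le_rfl, Nat.sub_self,
        PowerSeries.coeff_zero_eq_constantCoeff] at h
    obtain ⟨s', hs'⟩ := hker s h2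
    refine ⟨s', ?_⟩
    have : r - t ^ (m + 1) * s' = (r - t ^ m * s) + t ^ m * (s - t * s') := by ring
    rw [this]
    exact J.add_mem hs (J.mul_mem_left _ hs')

/-- Low coefficients of a product with a series congruent to a constant. -/
theorem coeff_mul_of_dvd_sub_C {S : Type*} [CommRing S] {f g : S⟦X⟧} {c : S} {N j : ℕ}
    (h : PowerSeries.X ^ N ∣ f - PowerSeries.C c) (hj : j < N) :
    coeff j (f * g) = c * coeff j g := by
  have h' : PowerSeries.X ^ N ∣ f * g - PowerSeries.C c * g := by
    rw [← sub_mul]; exact dvd_mul_of_dvd_left h g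
  have := PowerSeries.X_pow_dvd_iff.1 h' j hj
  rwa [map_sub, sub_eq_zero, PowerSeries.coeff_C_mul] at this

section Expansion

variable {k A : Type*} [CommRing k] [CommRing A] [Algebra k A] {t : A}

theorem eq_zero_of_mem_span (hk : ∀ c : k, algebraMap k A c ∈ Ideal.span {t} → c = 0) (ht0 : IsSMulRegular A t)
    {m : ℕ} (c : ℕ → k) (h : t ^ m ∣ ∑ j ∈ Finset.range m, algebraMap k A (c j) * t ^ j) :
    ∀ j < m, c j = 0 := by
  induction m generalizing c with
  | zero => intro j hj; omega
  | succ m ih =>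
    obtain ⟨w, hw⟩ := h
    rw [Finset.sum_range_succ', pow_zero, mul_one] at hw
    have hs : ∑ j ∈ Finset.range m, algebraMap k A (c (j + 1)) * t ^ (j + 1) =
        t * ∑ j ∈ Finset.range m, algebraMap k A (c (j + 1)) * t ^ j := by
      rw [Finset.mul_sum]; exact Finset.sum_congr rfl fun j _ => by ring
    have h0 : c 0 = 0 := hk _ (Ideal.mem_span_singleton.2
      ⟨t ^ m * w - ∑ j ∈ Finset.range m, algebraMap k A (c (j + 1)) * t ^ j, by
        rw [mul_sub, ← mul_assoc, ← pow_succ', ← hw, hs]; ring⟩)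
    rw [h0, map_zero, add_zero, hs, pow_succ', mul_assoc] at hw
    have := ih (fun j => c (j + 1)) ⟨w, ht0 hw⟩
    intro j hj
    cases j with
    | zero => exact h0
    | succ j => exact this j (by omega)

/-- Power series expansion at a rational point of a curve with parameter `t`. -/
theorem exists_expansion (hsurj : ∀ a : A, ∃ c : k, a - algebraMap k A c ∈ Ideal.span {t})
    (hk : ∀ c : k, algebraMap k A c ∈ Ideal.span {t} → c = 0) (ht0 : IsSMulRegular A t) :
    ∃ θ : A →+* k⟦X⟧, θ t = PowerSeries.X ∧ ∀ c, θ (algebraMap k A c) = PowerSeries.C c := by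
  classical
  let c0 : A → k := fun a => (hsurj a).choose
  have hc0 : ∀ a, ∃ a', a = algebraMap k A (c0 a) + t * a' := fun a => by
    obtain ⟨a', ha'⟩ := Ideal.mem_span_singleton.1 (hsurj a).choose_spec
    exact ⟨a', by rw [← ha']; ring⟩
  choose nx hnx using hc0
  let θ0 : A → k⟦X⟧ := fun a => PowerSeries.mk fun n => c0 (nx^[n] a)
  let P : A → k⟦X⟧ → Prop := fun a p =>
    ∀ m, t ^ m ∣ a - (PowerSeries.trunc m p).eval₂ (algebraMap k A) t
  have heval : ∀ (m : ℕ) (p : k⟦X⟧), (PowerSeries.trunc m p).eval₂ (algebraMap k A) t =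
      ∑ j ∈ Finset.range m, algebraMap k A (coeff j p) * t ^ j := fun m p => by
    rw [PowerSeries.trunc_apply, ← Finset.range_eq_Ico, Polynomial.eval₂_finset_sum]
    simp only [Polynomial.eval₂_monomial]
  have huniq : ∀ {a p p'}, P a p → P a p' → p = p' := by
    intro a p p' h h'
    refine PowerSeries.ext fun n => sub_eq_zero.1 ?_
    refine eq_zero_of_mem_span hk ht0 (m := n + 1) (fun j => coeff j p - coeff j p') ?_ n (by omega)
    have := dvd_sub (h' (n + 1)) (h (n + 1))
    rw [sub_sub_sub_cancel_left, heval, heval, ← Finset.sum_sub_distrib] at this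
    refine this.trans (dvd_of_eq (Finset.sum_congr rfl fun j _ => ?_))
    simp only [map_sub, sub_mul]
  have hP : ∀ a, P a (θ0 a) := by
    intro a m
    refine ⟨nx^[m] a, ?_⟩
    rw [heval]
    induction m with
    | zero => simp
    | succ m ih =>
      rw [Finset.sum_range_succ, ← sub_sub, ih, Function.iterate_succ_apply',
        show coeff m (θ0 a) = c0 (nx^[m] a) from PowerSeries.coeff_mk m _]
      linear_combination t ^ m * hnx (nx^[m] a)
  let evm : ℕ → Polynomial k →+* A := fun _ => Polynomial.eval₂RingHom (algebraMap k A) t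
  have hdvd : ∀ (m : ℕ) (p q : Polynomial k), Polynomial.X ^ m ∣ p - q →
      t ^ m ∣ p.eval₂ (algebraMap k A) t - q.eval₂ (algebraMap k A) t := by
    intro m p q h
    have := map_dvd (evm m) h
    rwa [map_sub, map_pow, Polynomial.coe_eval₂RingHom, Polynomial.eval₂_X] at this
  have hmul : ∀ {a b p q}, P a p → P b q → P (a * b) (p * q) := by
    intro a b p q ha hb m
    have h3 : Polynomial.X ^ m ∣ PowerSeries.trunc m (p * q) -
        PowerSeries.trunc m p * PowerSeries.trunc m q := by
      rw [Polynomial.X_pow_dvd_iff]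
      intro d hd
      rw [Polynomial.coeff_sub, sub_eq_zero, PowerSeries.coeff_trunc, if_pos hd, PowerSeries.coeff_mul,
        Polynomial.coeff_mul]
      refine Finset.sum_congr rfl fun x hx => ?_
      have := Finset.mem_antidiagonal.1 hx
      rw [PowerSeries.coeff_trunc, PowerSeries.coeff_trunc, if_pos (by omega), if_pos (by omega)]
    have h4 := hdvd m _ _ h3
    rw [Polynomial.eval₂_mul] at h4
    have : a * b - (PowerSeries.trunc m (p * q)).eval₂ (algebraMap k A) t =
        (a - (PowerSeries.trunc m p).eval₂ (algebraMap k A) t) * b +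
        (PowerSeries.trunc m p).eval₂ (algebraMap k A) t *
          (b - (PowerSeries.trunc m q).eval₂ (algebraMap k A) t) -
        ((PowerSeries.trunc m (p * q)).eval₂ (algebraMap k A) t -
          (PowerSeries.trunc m p).eval₂ (algebraMap k A) t *
            (PowerSeries.trunc m q).eval₂ (algebraMap k A) t) := by ring
    rw [this]
    exact dvd_sub (dvd_add ((ha m).mul_right _) ((hb m).mul_left _)) h4
  have hadd : ∀ {a b p q}, P a p → P b q → P (a + b) (p + q) := by
    intro a b p q ha hb m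
    rw [map_add, Polynomial.eval₂_add, add_sub_add_comm]
    exact dvd_add (ha m) (hb m)
  have hC : ∀ c, P (algebraMap k A c) (PowerSeries.C c) := fun c m => by
    cases m with
    | zero => simp
    | succ m => rw [PowerSeries.trunc_C, Polynomial.eval₂_C, sub_self]; exact dvd_zero _
  have hX : P t PowerSeries.X := by
    intro m
    match m with
    | 0 => simp
    | 1 => rw [heval]; simp
    | m + 2 => rw [PowerSeries.trunc_X, Polynomial.eval₂_X, sub_self]; exact dvd_zero _
  have h1 : P 1 1 := by simpa using hC 1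
  have h0 : P 0 0 := by simpa using hC 0
  exact ⟨
    { toFun := θ0
      map_one' := huniq (hP 1) h1
      map_mul' := fun a b => huniq (hP _) (hmul (hP a) (hP b))
      map_zero' := huniq (hP 0) h0
      map_add' := fun a b => huniq (hP _) (hadd (hP a) (hP b)) },
    huniq (hP t) hX, fun c => huniq (hP _) (hC c)⟩

end Expansion

/-- Where `t` is inverted a smooth algebra splits the conormal sequence, uniformly in a power of
`t`: some `A`-derivation of the polynomial ring with values in the ideal is `t ^ N` on `I / I ^ 2`. -/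
theorem exists_derivation {A B : Type u} [CommRing A] [CommRing B] [Algebra A B] {ι : Type*}
    [Finite ι] (π : MvPolynomial ι A →ₐ[A] B) (hπ : Function.Surjective π)
    (hI : (RingHom.ker π).FG) (t : A)
    [Algebra.FormallySmooth A (Localization.Away (algebraMap A B t))] :
    ∃ (N : ℕ) (δ : Derivation A (MvPolynomial ι A) (MvPolynomial ι A)),
      (∀ p, δ p ∈ RingHom.ker π) ∧
        ∀ f ∈ RingHom.ker π, δ f - MvPolynomial.C t ^ N * f ∈ RingHom.ker π ^ 2 := by
  classical
  have := Fintype.ofFinite ι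
  let P := MvPolynomial ι A
  let I : Ideal P := RingHom.ker π
  let T : P := MvPolynomial.C t
  let Q := P ⧸ I ^ 2
  let mkQ : P →+* Q := Ideal.Quotient.mk (I ^ 2)
  let u' : Q := mkQ T
  let Qu := Localization.Away u'
  let lQ : Q →+* Qu := algebraMap Q Qu
  let loc : P →+* Qu := lQ.comp mkQ
  let Bt := Localization.Away (algebraMap A B t)
  let π₁ : Q →+* B := Ideal.Quotient.lift _ π.toRingHom fun a ha => Ideal.pow_le_self two_ne_zero ha
  have hπ₁ : ∀ p, π₁ (mkQ p) = π p := fun p => Ideal.Quotient.lift_mk _ _ _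
  have hπT : π T = algebraMap A B t := by rw [← π.commutes]; rfl
  have hle : Submonoid.powers u' ≤ (Submonoid.powers (algebraMap A B t)).comap π₁ := by
    rintro _ ⟨n, rfl⟩
    exact ⟨n, by simp [u', hπ₁, hπT]⟩
  let g₀ : Qu →+* Bt := IsLocalization.map Bt π₁ hle
  have hg₀ : ∀ p, g₀ (loc p) = algebraMap B Bt (π p) := fun p => by
    change g₀ (algebraMap Q Qu (mkQ p)) = _
    rw [IsLocalization.map_eq, hπ₁]
  let g : Qu →ₐ[A] Bt := AlgHom.mk g₀ fun a => by
    have h : algebraMap A Qu a = loc (MvPolynomial.C a) := by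
      rw [IsScalarTower.algebraMap_apply A Q Qu]; rfl
    change g₀ (algebraMap A Qu a) = _
    rw [h, hg₀, IsScalarTower.algebraMap_apply A B Bt]
    exact congrArg _ (π.commutes a)
  have hu : ∀ n : ℕ, loc (T ^ n) = algebraMap Q Qu (u' ^ n) := fun n => by
    simp [loc, lQ, u']
  have huu : ∀ n : ℕ, IsUnit (loc (T ^ n)) := fun n => by
    rw [hu]; exact IsLocalization.map_units Qu (⟨u' ^ n, n, rfl⟩ : Submonoid.powers u')
  have hdec : ∀ z : Qu, ∃ (k : ℕ) (q : P), loc (T ^ k) * z = loc q := by
    intro z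
    obtain ⟨⟨q, ⟨_, k, rfl⟩⟩, h⟩ := IsLocalization.surj (Submonoid.powers u') z
    obtain ⟨q, rfl⟩ := Ideal.Quotient.mk_surjective q
    exact ⟨k, q, by rw [hu, mul_comm]; exact h⟩
  have hker : ∀ z : Qu, g z = 0 → ∃ (k : ℕ) (q : P), q ∈ I ∧ loc (T ^ k) * z = loc q := by
    intro z hz
    obtain ⟨k, q, hq⟩ := hdec z
    have h0 : algebraMap B Bt (π q) = 0 := by
      rw [← hg₀, ← hq, map_mul]; exact mul_eq_zero_of_right _ hz
    obtain ⟨⟨_, j, rfl⟩, hj⟩ := (IsLocalization.map_eq_zero_iff (Submonoid.powers (algebraMap A B t)) Bt _).1 h0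
    refine ⟨j + k, T ^ j * q, ?_, ?_⟩
    · change π (T ^ j * q) = 0
      rw [map_mul, map_pow, hπT]; exact hj
    · rw [pow_add, map_mul, map_mul, mul_assoc, hq]
  have hsq : ∀ a ∈ I, ∀ b ∈ I, loc a * loc b = 0 := by
    intro a ha b hb
    rw [← map_mul]
    have : mkQ (a * b) = 0 := Ideal.Quotient.eq_zero_iff_mem.2 (pow_two I ▸ Ideal.mul_mem_mul ha hb)
    change lQ (mkQ (a * b)) = 0
    rw [this, map_zero]
  have hgsurj : Function.Surjective g := by
    intro y
    obtain ⟨⟨b, ⟨_, n, rfl⟩⟩, h⟩ := IsLocalization.surj (Submonoid.powers (algebraMap A B t)) y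
    obtain ⟨p, rfl⟩ := hπ b
    refine ⟨loc p * ↑(huu n).unit⁻¹, ?_⟩
    have h' : g (loc p * ↑(huu n).unit⁻¹) * algebraMap B Bt ((algebraMap A B t) ^ n) = algebraMap B Bt (π p) := by
      have : algebraMap B Bt ((algebraMap A B t) ^ n) = g (loc (T ^ n)) := by
        change _ = g₀ _; rw [hg₀, map_pow π, hπT]
      rw [this, ← map_mul, mul_assoc, IsUnit.val_inv_mul, mul_one]; exact hg₀ p
    exact (IsLocalization.map_units Bt
      (⟨_, n, rfl⟩ : Submonoid.powers (algebraMap A B t))).mul_right_cancel (h'.trans h.symm)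
  have hnil : IsNilpotent (RingHom.ker (g : Qu →+* Bt)) := by
    refine ⟨2, ?_⟩
    simp only [pow_two]
    rw [Submodule.zero_eq_bot, eq_bot_iff, Ideal.mul_le]
    intro x hx y hy
    obtain ⟨k, a, ha, hxa⟩ := hker x hx
    obtain ⟨l, b, hb, hyb⟩ := hker y hy
    have : loc (T ^ k) * loc (T ^ l) * (x * y) = 0 := by
      rw [mul_mul_mul_comm, hxa, hyb, hsq a ha b hb]
    exact Submodule.mem_bot _ |>.2 (((huu k).mul (huu l)).mul_right_eq_zero.1 this)
  let s : Bt →ₐ[A] Qu := Algebra.FormallySmooth.liftOfSurjective (AlgHom.id A Bt) g hgsurj hnil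
  let σ : P →+* Qu := s.toRingHom.comp ((algebraMap B Bt).comp π.toRingHom)
  have hσC : ∀ a, σ (MvPolynomial.C a) = loc (MvPolynomial.C a) := fun a => by
    change s (algebraMap B Bt (π (algebraMap A P a))) = _
    rw [π.commutes, ← IsScalarTower.algebraMap_apply, s.commutes, IsScalarTower.algebraMap_apply A Q Qu]
    rfl
  have hσ : ∀ i, ∃ (k : ℕ) (w : P), w ∈ I ∧
      loc (T ^ k) * (σ (MvPolynomial.X i) - loc (MvPolynomial.X i)) = loc w := fun i => hker _ (by
        rw [map_sub, sub_eq_zero]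
        exact (Algebra.FormallySmooth.liftOfSurjective_apply _ g hgsurj hnil _).trans (hg₀ _).symm)
  choose kk w hwI hw using hσ
  let n := Finset.univ.sup kk
  let w' : ι → P := fun i => T ^ (n - kk i) * w i
  have hw' : ∀ i, loc (T ^ n) * (σ (MvPolynomial.X i) - loc (MvPolynomial.X i)) = loc (w' i) := by
    intro i
    rw [map_mul, ← hw i, ← mul_assoc, ← map_mul, ← pow_add,
      Nat.sub_add_cancel (Finset.le_sup (Finset.mem_univ i))]
  let δ₀ : Derivation A P P := MvPolynomial.mkDerivation A fun i => -w' i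
  have hδI : ∀ p, δ₀ p ∈ I := by
    intro p
    induction p using MvPolynomial.induction_on with
    | C a => rw [MvPolynomial.derivation_C]; exact I.zero_mem
    | add p q hp hq => rw [map_add]; exact I.add_mem hp hq
    | mul_X p i hp =>
      rw [Derivation.leibniz, MvPolynomial.mkDerivation_X, smul_eq_mul, smul_eq_mul]
      exact I.add_mem (I.mul_mem_left _ (I.neg_mem (I.mul_mem_left _ (hwI i)))) (I.mul_mem_left _ hp)
  have hkey : ∀ p, loc (T ^ n) * (σ p - loc p) = -loc (δ₀ p) := by
    intro p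
    induction p using MvPolynomial.induction_on with
    | C a => rw [hσC, sub_self, mul_zero, MvPolynomial.derivation_C, map_zero, neg_zero]
    | add p q hp hq => rw [map_add σ, map_add loc, add_sub_add_comm, mul_add, hp, hq, map_add δ₀,
        map_add loc, neg_add]
    | mul_X p i hp =>
      have h2 : loc (T ^ n) * (σ p - loc p) * (σ (MvPolynomial.X i) - loc (MvPolynomial.X i)) = 0 := by
        refine (huu n).mul_right_eq_zero.1 ?_
        calc loc (T ^ n) * (loc (T ^ n) * (σ p - loc p) * (σ (MvPolynomial.X i) - loc (MvPolynomial.X i)))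
            = (loc (T ^ n) * (σ p - loc p)) * (loc (T ^ n) *
                (σ (MvPolynomial.X i) - loc (MvPolynomial.X i))) := by ring
          _ = 0 := by
            rw [hw' i, hp, neg_mul, hsq _ (hδI p) _ (I.mul_mem_left _ (hwI i)), neg_zero]
      rw [Derivation.leibniz, MvPolynomial.mkDerivation_X, smul_eq_mul, smul_eq_mul, map_mul σ,
        map_mul loc p]
      simp only [map_add, map_mul, map_neg]
      rw [← hw' i]
      linear_combination h2 + loc (MvPolynomial.X i) * hp
  have hf : ∀ f ∈ I, ∃ m : ℕ, T ^ m * (δ₀ f - T ^ n * f) ∈ I ^ 2 := by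
    intro f hf
    have h0 : σ f = 0 := by
      change s (algebraMap B Bt (π f)) = 0
      rw [show π f = 0 from hf, map_zero, map_zero]
    have h := hkey f
    rw [h0, zero_sub, mul_neg, neg_inj, ← map_mul] at h
    have h1 : algebraMap Q Qu (mkQ (δ₀ f - T ^ n * f)) = 0 := by
      rw [map_sub mkQ, map_sub, sub_eq_zero]; exact h.symm
    obtain ⟨⟨_, m, rfl⟩, hm⟩ := (IsLocalization.map_eq_zero_iff (Submonoid.powers u') Qu _).1 h1
    refine ⟨m, Ideal.Quotient.eq_zero_iff_mem.1 ?_⟩
    change mkQ _ = 0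
    rw [map_mul, map_pow]
    exact hm
  obtain ⟨S, hS⟩ := hI
  have hSI : ∀ f ∈ S, f ∈ I := fun f hf' => hS.le (Ideal.subset_span hf')
  choose mm hmm using hf
  let M := S.attach.sup fun f => mm f.1 (hSI f.1 f.2)
  refine ⟨M + n, T ^ M • δ₀, fun p => ?_, ?_⟩
  · rw [Derivation.smul_apply, smul_eq_mul]; exact I.mul_mem_left _ (hδI p)
  intro f hfI
  have key : ∀ f ∈ I, f ∈ I ∧ (T ^ M • δ₀) f - T ^ (M + n) * f ∈ I ^ 2 := by
    intro f hfI
    rw [show I = Ideal.span (S : Set P) from hS.symm] at hfI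
    induction hfI using Submodule.span_induction with
    | mem x hx =>
      refine ⟨hSI x hx, ?_⟩
      have hle : mm x (hSI x hx) ≤ M :=
        Finset.le_sup (f := fun f : S => mm f.1 (hSI f.1 f.2)) (Finset.mem_attach _ ⟨x, hx⟩)
      rw [Derivation.smul_apply, smul_eq_mul, pow_add, mul_assoc, ← mul_sub,
        show T ^ M = T ^ (M - mm x (hSI x hx)) * T ^ mm x (hSI x hx) by
          rw [← pow_add, Nat.sub_add_cancel hle], mul_assoc]
      exact Ideal.mul_mem_left _ _ (hmm x (hSI x hx))
    | zero => exact ⟨I.zero_mem, by simp⟩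
    | add x y _ _ hx hy =>
      refine ⟨I.add_mem hx.1 hy.1, ?_⟩
      rw [map_add, mul_add, add_sub_add_comm]
      exact Ideal.add_mem _ hx.2 hy.2
    | smul r x _ hx =>
      refine ⟨I.mul_mem_left r hx.1, ?_⟩
      rw [smul_eq_mul, Derivation.leibniz, smul_eq_mul, smul_eq_mul]
      have : r * (T ^ M • δ₀) x + x * (T ^ M • δ₀) r - T ^ (M + n) * (r * x) =
          r * ((T ^ M • δ₀) x - T ^ (M + n) * x) + x * (T ^ M * δ₀ r) := by
        simp only [Derivation.smul_apply, smul_eq_mul]; ring
      rw [this]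
      exact Ideal.add_mem _ (Ideal.mul_mem_left _ r hx.2)
        (pow_two I ▸ Ideal.mul_mem_mul hx.1 (I.mul_mem_left _ (hδI r)))
  exact (key f hfI).2

section Triv

variable {k A B B₀ : Type*} [CommRing k] [CommRing A] [CommRing B] [CommRing B₀] [Algebra k A]
  [Algebra A B] [Algebra k B₀] {ι : Type*} (π : MvPolynomial ι A →ₐ[A] B)
  (π₀ : MvPolynomial ι k →ₐ[k] B₀) (θ : A →+* k⟦X⟧)

/-- Coordinates: `x i ↦ hh i`. -/
noncomputable def coord (hh : ι → (MvPolynomial ι k)⟦X⟧) :
    MvPolynomial ι A →+* (MvPolynomial ι k)⟦X⟧ :=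
  MvPolynomial.eval₂Hom ((PowerSeries.map MvPolynomial.C).comp θ) hh

theorem constantCoeff_coord (hh : ι → (MvPolynomial ι k)⟦X⟧)
    (hh0 : ∀ i, constantCoeff (hh i) = MvPolynomial.X i) (p : MvPolynomial ι A) :
    constantCoeff (coord θ hh p) = MvPolynomial.map (constantCoeff.comp θ) p := by
  refine RingHom.congr_fun (f := constantCoeff.comp (coord θ hh))
    (MvPolynomial.ringHom_ext (fun a => ?_) fun i => ?_) p
  · rw [RingHom.comp_apply, coord, MvPolynomial.eval₂Hom_C, MvPolynomial.map_C, RingHom.comp_apply,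
      ← PowerSeries.coeff_zero_eq_constantCoeff_apply, PowerSeries.coeff_map,
      PowerSeries.coeff_zero_eq_constantCoeff_apply, RingHom.comp_apply]
  · rw [RingHom.comp_apply, coord, MvPolynomial.eval₂Hom_X', MvPolynomial.map_X, hh0]

variable {t : A}

theorem coord_param (ht : θ t = PowerSeries.X) (hh : ι → (MvPolynomial ι k)⟦X⟧) :
    coord θ hh (MvPolynomial.C t) = PowerSeries.X := by
  rw [coord, MvPolynomial.eval₂Hom_C, RingHom.comp_apply, ht, PowerSeries.map_X]

theorem constantCoeff_fibre (hh : ι → (MvPolynomial ι k)⟦X⟧)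
    (hh0 : ∀ i, constantCoeff (hh i) = MvPolynomial.X i) (p : MvPolynomial ι A) :
    constantCoeff (PowerSeries.map π₀.toRingHom (coord θ hh p)) =
      π₀ (MvPolynomial.map (constantCoeff.comp θ) p) := by
  rw [← PowerSeries.coeff_zero_eq_constantCoeff_apply, PowerSeries.coeff_map,
    PowerSeries.coeff_zero_eq_constantCoeff_apply, constantCoeff_coord θ hh hh0]
  rfl

/-- The inductive construction of a trivialisation modulo powers of the parameter. -/
theorem exists_coord (ht : θ t = PowerSeries.X) (hθs : Function.Surjective fun a => constantCoeff (θ a))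
    (hθk : ∀ a, constantCoeff (θ a) = 0 → t ∣ a)
    (hker : ∀ p, π₀ (MvPolynomial.map (constantCoeff.comp θ) p) = 0 ↔
      ∃ s, π (p - MvPolynomial.C t * s) = 0)
    (hnzd : ∀ b : B, algebraMap A B t * b = 0 → b = 0)
    (hrigid : ∀ c : MvPolynomial ι k → B₀, (∀ f ∈ RingHom.ker π₀, ∀ g ∈ RingHom.ker π₀,
        c (f + g) = c f + c g) →
      (∀ p, ∀ f ∈ RingHom.ker π₀, c (p * f) = π₀ p * c f) →
      ∃ d : ι → MvPolynomial ι k, ∀ f ∈ RingHom.ker π₀,
        c f = π₀ (MvPolynomial.mkDerivation k d f))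
    (m : ℕ) : ∃ hh : ι → (MvPolynomial ι k)⟦X⟧, (∀ i, constantCoeff (hh i) = MvPolynomial.X i) ∧
      ∀ f ∈ RingHom.ker π, PowerSeries.X ^ (m + 1) ∣ PowerSeries.map π₀.toRingHom (coord θ hh f) := by
  classical
  induction m with
  | zero =>
    refine ⟨fun i => PowerSeries.C (MvPolynomial.X i), fun i => by simp, fun f hf => ?_⟩
    rw [zero_add, pow_one, PowerSeries.X_dvd_iff, constantCoeff_fibre π₀ θ _ (fun i => by simp)]
    exact (hker f).2 ⟨0, by simpa using hf⟩
  | succ m ih =>
    obtain ⟨hh, hh0, hh1⟩ := ih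
    let ρ : MvPolynomial ι A →+* MvPolynomial ι k := MvPolynomial.map (constantCoeff.comp θ)
    have hρ : Function.Surjective ρ := MvPolynomial.map_surjective _ hθs
    let G : MvPolynomial ι A →+* B₀⟦X⟧ := (PowerSeries.map π₀.toRingHom).comp (coord θ hh)
    have hGt : G (MvPolynomial.C t) = PowerSeries.X := by
      simp only [G, RingHom.comp_apply, coord_param θ ht, PowerSeries.map_X]
    have hG0 : ∀ p, constantCoeff (G p) = π₀ (ρ p) := constantCoeff_fibre π₀ θ hh hh0
    let c' : MvPolynomial ι A → B₀ := fun f => coeff (m + 1) (G f)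
    have hmul : ∀ p, ∀ f ∈ RingHom.ker π, c' (p * f) = π₀ (ρ p) * c' f := by
      intro p f hf
      obtain ⟨v, hv⟩ := hh1 f hf
      have hv' : G f = PowerSeries.X ^ (m + 1) * v := hv
      simp only [c', map_mul, hv', mul_left_comm (G p), PowerSeries.coeff_X_pow_mul', le_refl,
        if_true, Nat.sub_self, PowerSeries.coeff_zero_eq_constantCoeff, map_mul, hG0]
    have hzero : ∀ f ∈ RingHom.ker π, ρ f = 0 → c' f = 0 := by
      intro f hf hρf
      obtain ⟨q, hq⟩ : ∃ q, f = MvPolynomial.C t * q := by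
        have hdiv : ∀ d, t ∣ MvPolynomial.coeff d f := fun d => hθk _ (by
          have h := congrArg (MvPolynomial.coeff d) hρf
          rwa [MvPolynomial.coeff_map, MvPolynomial.coeff_zero] at h)
        exact MvPolynomial.C_dvd_iff_dvd_coeff t f |>.2 hdiv
      have hqI : q ∈ RingHom.ker π := by
        refine hnzd _ ?_
        rw [← π.commutes, ← map_mul]
        exact (congrArg π hq).symm.trans hf
      have := PowerSeries.X_pow_dvd_iff.1 (hh1 q hqI) m (Nat.lt_succ_self m)
      simp only [c', hq, map_mul, hGt, PowerSeries.coeff_succ_X_mul]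
      exact this
    have hlift : ∀ f ∈ RingHom.ker π₀, ∃ F ∈ RingHom.ker π, ρ F = f := by
      intro f hf
      obtain ⟨p, rfl⟩ := hρ f
      obtain ⟨s, hs⟩ := (hker p).1 hf
      refine ⟨p - MvPolynomial.C t * s, hs, ?_⟩
      rw [map_sub, map_mul]
      simp [ρ, ht]
    let c : MvPolynomial ι k → B₀ := fun f =>
      if h : f ∈ RingHom.ker π₀ then c' (hlift f h).choose else 0
    have hc : ∀ F ∈ RingHom.ker π, c (ρ F) = c' F := by
      intro F hF
      have h : ρ F ∈ RingHom.ker π₀ := (hker F).2 ⟨0, by simpa using hF⟩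
      simp only [c, dif_pos h]
      obtain ⟨h1, h2⟩ := (hlift _ h).choose_spec
      refine sub_eq_zero.1 ?_
      rw [show c' (hlift (ρ F) h).choose - c' F = c' ((hlift (ρ F) h).choose - F) by
        simp only [c', map_sub]]
      exact hzero _ (sub_mem h1 hF) (by rw [map_sub, h2, sub_self])
    obtain ⟨d, hd⟩ := hrigid c
      (fun f hf g hg => by
        obtain ⟨F, hF, rfl⟩ := hlift f hf
        obtain ⟨G', hG', rfl⟩ := hlift g hg
        rw [← map_add, hc _ (add_mem hF hG'), hc _ hF, hc _ hG']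
        simp only [c', map_add])
      (fun p f hf => by
        obtain ⟨F, hF, rfl⟩ := hlift f hf
        obtain ⟨q, rfl⟩ := hρ p
        rw [← map_mul, hc _ (Ideal.mul_mem_left _ q hF), hc _ hF, hmul q F hF])
    let hh' : ι → (MvPolynomial ι k)⟦X⟧ := fun i => hh i - PowerSeries.X ^ (m + 1) * PowerSeries.C (d i)
    let D := MvPolynomial.mkDerivation k d
    have hdiff : ∀ p, PowerSeries.X ^ (m + 2) ∣
        coord θ hh' p - coord θ hh p + PowerSeries.X ^ (m + 1) * PowerSeries.C (D (ρ p)) := by
      intro p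
      induction p using MvPolynomial.induction_on with
      | C a => simp [coord, ρ, D]
      | add p q hp hq =>
        convert dvd_add hp hq using 1
        simp only [map_add, mul_add]; ring
      | mul_X p i hp =>
        have hx : ρ (MvPolynomial.X i) = MvPolynomial.X i := MvPolynomial.map_X _ _
        have hc1 : coord θ hh' (MvPolynomial.X i) = hh' i := MvPolynomial.eval₂Hom_X' ..
        have hc2 : coord θ hh (MvPolynomial.X i) = hh i := MvPolynomial.eval₂Hom_X' ..
        have hA : PowerSeries.X ∣ coord θ hh' p - PowerSeries.C (ρ p) := by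
          rw [PowerSeries.X_dvd_iff, map_sub, constantCoeff_coord θ hh' (fun i => by simp [hh', hh0])]
          simp [ρ]
        have hB : PowerSeries.X ∣ hh i - PowerSeries.C (MvPolynomial.X i) := by
          rw [PowerSeries.X_dvd_iff, map_sub, hh0, PowerSeries.constantCoeff_C, sub_self]
        obtain ⟨v1, hv1⟩ := hp
        obtain ⟨v2, hv2⟩ := hA
        obtain ⟨v3, hv3⟩ := hB
        simp only [map_mul, hc1, hc2, hx, D, Derivation.leibniz, MvPolynomial.mkDerivation_X,
          smul_eq_mul, map_add]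
        refine ⟨v1 * hh i - v2 * PowerSeries.C (d i) - PowerSeries.C (D (ρ p)) * v3, ?_⟩
        simp only [hh', pow_succ _ (m + 1)] at *
        linear_combination hh i * hv1 - PowerSeries.X ^ (m + 1) * PowerSeries.C (d i) * hv2 -
          PowerSeries.X ^ (m + 1) * PowerSeries.C (MvPolynomial.mkDerivation k d (ρ p)) * hv3
    refine ⟨hh', fun i => by simp [hh', hh0], fun f hf => ?_⟩
    obtain ⟨v, hv⟩ := hh1 f hf
    have h := map_dvd (PowerSeries.map π₀.toRingHom) (hdiff f)
    simp only [map_add, map_sub, map_mul, map_pow, PowerSeries.map_X, PowerSeries.map_C, hv] at h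
    have hF : ρ f ∈ RingHom.ker π₀ := (hker f).2 ⟨0, by simpa using hf⟩
    have hcv : constantCoeff v = π₀ (D (ρ f)) := by
      rw [← hd _ hF, hc f hf]
      change _ = coeff (m + 1) (PowerSeries.map π₀.toRingHom (coord θ hh f))
      rw [hv, PowerSeries.coeff_X_pow_mul', if_pos le_rfl, Nat.sub_self,
        PowerSeries.coeff_zero_eq_constantCoeff]
    obtain ⟨w, hw⟩ : PowerSeries.X ∣ v - PowerSeries.C (π₀ (D (ρ f))) := by
      rw [PowerSeries.X_dvd_iff, map_sub, hcv, PowerSeries.constantCoeff_C, sub_self]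
    obtain ⟨z, hz⟩ := h
    refine ⟨z + w, ?_⟩
    linear_combination hz + PowerSeries.X ^ (m + 1) * hw

end Triv

section Split

open CotT

variable {k B₀ : Type u} [CommRing k] [CommRing B₀] [Algebra k B₀] {ι : Type u}

/-- Rigidity in terms of an arbitrary surjection from a polynomial ring. -/
theorem exists_der_of_subsingleton_T1 (π₀ : MvPolynomial ι k →ₐ[k] B₀) (hπ₀ : Function.Surjective π₀)
    (h : Subsingleton (CotT.T1 (CotT.canon k B₀) B₀)) (c : MvPolynomial ι k → B₀)
    (hadd : ∀ f ∈ RingHom.ker π₀, ∀ g ∈ RingHom.ker π₀, c (f + g) = c f + c g)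
    (hmul : ∀ p, ∀ f ∈ RingHom.ker π₀, c (p * f) = π₀ p * c f) :
    ∃ d : ι → MvPolynomial ι k, ∀ f ∈ RingHom.ker π₀,
      c f = π₀ (MvPolynomial.mkDerivation k d f) := by
  have hae : ∀ p, MvPolynomial.aeval (fun i => π₀ (MvPolynomial.X i)) p = π₀ p := fun p =>
    (AlgHom.congr_fun (MvPolynomial.aeval_unique π₀) p).symm
  let G : Algebra.Generators k B₀ ι := Algebra.Generators.ofSurjective (fun i => π₀ (MvPolynomial.X i))
    (fun b => let ⟨p, hp⟩ := hπ₀ b; ⟨p, (hae p).trans hp⟩)
  let P : Algebra.Presentation k B₀ ι G.ker :=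
    { toGenerators := G
      relation := Subtype.val
      span_range_relation_eq_ker := by
        refine le_antisymm (Ideal.span_le.mpr ?_) fun x hx => Ideal.subset_span ⟨⟨x, hx⟩, rfl⟩
        rintro _ ⟨r, rfl⟩
        exact r.2 }
  have hmap : ∀ p : P.toExtension.Ring, algebraMap P.toExtension.Ring B₀ p = π₀ p := fun p =>
    (G.algebraMap_apply p).trans (hae p)
  have hmem : ∀ {f}, f ∈ P.toExtension.ker ↔ f ∈ RingHom.ker π₀ := fun {f} => by
    change algebraMap P.toExtension.Ring B₀ f = 0 ↔ π₀ f = 0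
    rw [hmap]
  let ψ₀ : P.toExtension.ker →ₗ[P.toExtension.Ring] B₀ :=
    { toFun := fun x => c x.1
      map_add' := fun x y => hadd _ (hmem.1 x.2) _ (hmem.1 y.2)
      map_smul' := fun r x => by
        rw [RingHom.id_apply, Algebra.smul_def, hmap]
        exact hmul r _ (hmem.1 x.2) }
  have hle : P.toExtension.ker • (⊤ : Submodule P.toExtension.Ring P.toExtension.ker) ≤
      LinearMap.ker ψ₀ := Submodule.smul_le.2 fun r hr n _ => by
    rw [LinearMap.mem_ker, map_smul, Algebra.smul_def, hmap, show π₀ r = 0 from hmem.1 hr, zero_mul]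
  let f₀ : P.toExtension.Cotangent ≃ₗ[P.toExtension.Ring] P.toExtension.ker.Cotangent :=
    { __ := AddEquiv.refl _, map_smul' := Algebra.Extension.Cotangent.val_smul' }
  let φ : P.toExtension.Cotangent →ₗ[B₀] B₀ :=
    ((Submodule.liftQ _ ψ₀ hle).comp f₀.toLinearMap).extendScalarsOfSurjective
      P.toExtension.algebraMap_surjective
  have : Subsingleton (T1 P B₀) :=
    (H24Cot.T1equiv P (CotT.canon k B₀) B₀).symm.toEquiv.subsingleton
  have hφ : φ ∈ LinearMap.ker (homToT1 P B₀) := Subsingleton.elim _ _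
  rw [H24Cot.ker_homToT1] at hφ
  obtain ⟨l, hl⟩ := hφ
  let dv : ι → B₀ := fun i => l (1 ⊗ₜ KaehlerDifferential.D k P.toExtension.Ring (MvPolynomial.X i))
  choose d hd using fun i => hπ₀ (dv i)
  refine ⟨d, fun f hf => ?_⟩
  let L : P.toExtension.Ring → B₀ := fun p => l (1 ⊗ₜ KaehlerDifferential.D k P.toExtension.Ring p)
  have hLadd : ∀ p q : P.toExtension.Ring, L (p + q) = L p + L q := fun p q => by
    simp only [L, map_add, TensorProduct.tmul_add]
  have hLmul : ∀ p q : P.toExtension.Ring, L (p * q) =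
      algebraMap P.toExtension.Ring B₀ p * L q + algebraMap P.toExtension.Ring B₀ q * L p := fun p q => by
    simp only [L]
    rw [Derivation.leibniz, TensorProduct.tmul_add, TensorProduct.tmul_smul, TensorProduct.tmul_smul,
      map_add, ← algebraMap_smul B₀, map_smul, smul_eq_mul, ← algebraMap_smul B₀, map_smul, smul_eq_mul]
  have hLC : ∀ a : k, L (algebraMap k P.toExtension.Ring a) = 0 := fun a => by
    simp only [L, Derivation.map_algebraMap, TensorProduct.tmul_zero, map_zero]
  have key : ∀ p : MvPolynomial ι k, L p = π₀ (MvPolynomial.mkDerivation k d p) := by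
    intro p
    induction p using MvPolynomial.induction_on with
    | C a => rw [MvPolynomial.derivation_C, map_zero]; exact hLC a
    | add p q hp hq =>
      rw [map_add, map_add, ← hp, ← hq]; exact hLadd p q
    | mul_X p i hp =>
      rw [Derivation.leibniz, MvPolynomial.mkDerivation_X, smul_eq_mul, smul_eq_mul,
        map_add π₀, map_mul, map_mul, hd i, ← hp]
      refine (hLmul p (MvPolynomial.X i)).trans ?_
      exact congrArg₂ (· + ·) (congrArg (· * _) (hmap p)) (congrArg (· * _) (hmap (MvPolynomial.X i)))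
  rw [← key f]
  exact (LinearMap.congr_fun hl (Algebra.Extension.Cotangent.mk ⟨f, hmem.2 hf⟩)).symm

end Split

/-- A rigid fibre of a flat family which is smooth away from it is smooth. -/
theorem formallySmooth_fibre {k A B B₀ : Type u} [Field k] [CommRing A] [CommRing B] [CommRing B₀]
    [Algebra k A] [Algebra A B] [Algebra k B] [IsScalarTower k A B] [Algebra k B₀] {t : A}
    (hsurj : ∀ a : A, ∃ c : k, a - algebraMap k A c ∈ Ideal.span {t})
    (hk : ∀ c : k, algebraMap k A c ∈ Ideal.span {t} → c = 0) (ht0 : IsSMulRegular A t)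
    [Algebra.FinitePresentation A B] (hnzd : ∀ b : B, algebraMap A B t * b = 0 → b = 0)
    (e : (B ⧸ Ideal.span {algebraMap A B t}) ≃ₐ[k] B₀)
    (hrigid : Subsingleton (CotT.T1 (CotT.canon k B₀) B₀))
    [Algebra.FormallySmooth A (Localization.Away (algebraMap A B t))] :
    Algebra.FormallySmooth k B₀ := by
  classical
  obtain ⟨r, π, hπ, hfg⟩ := Algebra.FinitePresentation.out (R := A) (A := B)
  let ι := ULift.{u} (Fin r)
  let π' : MvPolynomial ι A →ₐ[A] B :=
    π.comp (MvPolynomial.renameEquiv A Equiv.ulift).toAlgHom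
  have hπ' : Function.Surjective π' := hπ.comp (MvPolynomial.renameEquiv A Equiv.ulift).surjective
  have hfg' : (RingHom.ker π').FG := by
    exact Algebra.FinitePresentation.ker_fG_of_surjective π' hπ'
  obtain ⟨θ, hθt, hθC⟩ := exists_expansion hsurj hk ht0
  obtain ⟨N, δ, hδI, hδ⟩ := exists_derivation π' hπ' hfg' t
  let qB : MvPolynomial ι A →+* B₀ :=
    e.toAlgHom.toRingHom.comp ((Ideal.Quotient.mk (Ideal.span {algebraMap A B t})).comp π'.toRingHom)
  let π₀ : MvPolynomial ι k →ₐ[k] B₀ := MvPolynomial.aeval fun i => qB (MvPolynomial.X i)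
  let ρ : MvPolynomial ι A →+* MvPolynomial ι k := MvPolynomial.map (constantCoeff.comp θ)
  have hθk : ∀ a, constantCoeff (θ a) = 0 → t ∣ a := by
    intro a ha
    obtain ⟨c, hc⟩ := hsurj a
    obtain ⟨a', ha'⟩ := Ideal.mem_span_singleton.1 hc
    have h := congrArg (fun x => constantCoeff (θ x)) ha'
    simp only [map_sub, map_mul, hθC, hθt, ha, PowerSeries.constantCoeff_C,
      PowerSeries.constantCoeff_X, zero_mul, zero_sub, neg_eq_zero] at h
    rw [h, map_zero, sub_zero] at ha'
    exact ⟨a', ha'⟩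
  have hθs : Function.Surjective fun a => constantCoeff (θ a) := fun c =>
    ⟨algebraMap k A c, by simp [hθC]⟩
  have hqB : ∀ p, π₀ (ρ p) = qB p := by
    refine RingHom.congr_fun (f := π₀.toRingHom.comp ρ) (MvPolynomial.ringHom_ext (fun a => ?_) fun i => ?_)
    · obtain ⟨a', ha'⟩ := hθk (a - algebraMap k A (constantCoeff (θ a))) (by simp [hθC])
      have h : qB (MvPolynomial.C t) = 0 := by
        have : π' (MvPolynomial.C t) = algebraMap A B t := π'.commutes t
        change e (Ideal.Quotient.mk _ (π' (MvPolynomial.C t))) = 0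
        rw [this, Ideal.Quotient.eq_zero_iff_mem.2 (Ideal.mem_span_singleton_self _), map_zero]
      have h2 : qB (MvPolynomial.C a) = qB (MvPolynomial.C (algebraMap k A (constantCoeff (θ a)))) := by
        rw [← sub_eq_zero, ← map_sub, ← map_sub, ha', map_mul, map_mul, h, zero_mul]
      have h3 : π' (MvPolynomial.C (algebraMap k A (constantCoeff (θ a)))) =
          algebraMap k B (constantCoeff (θ a)) := by
        rw [IsScalarTower.algebraMap_apply k A B]; exact π'.commutes _
      rw [h2]
      simp [π₀, ρ, qB, h3]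
    · simp [π₀, ρ]
  have hqs : Function.Surjective qB := e.surjective.comp (Ideal.Quotient.mk_surjective.comp hπ')
  have hπ₀ : Function.Surjective π₀ := fun b => let ⟨p, hp⟩ := hqs b; ⟨ρ p, (hqB p).trans hp⟩
  have hker : ∀ p, π₀ (ρ p) = 0 ↔ ∃ s, π' (p - MvPolynomial.C t * s) = 0 := by
    intro p
    rw [hqB]
    change e (Ideal.Quotient.mk _ (π' p)) = 0 ↔ _
    rw [map_eq_zero_iff e e.injective, Ideal.Quotient.eq_zero_iff_mem, Ideal.mem_span_singleton]
    have hC : π' (MvPolynomial.C t) = algebraMap A B t := π'.commutes t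
    constructor
    · rintro ⟨b, hb⟩
      obtain ⟨s, rfl⟩ := hπ' b
      exact ⟨s, by rw [map_sub, map_mul, hC, hb, sub_self]⟩
    · rintro ⟨s, hs⟩
      exact ⟨π' s, by rwa [map_sub, map_mul, hC, sub_eq_zero] at hs⟩
  obtain ⟨hh, hh0, hh1⟩ := exists_coord π' π₀ θ hθt hθs hθk hker hnzd
    (fun c h1 h2 => exists_der_of_subsingleton_T1 π₀ hπ₀ hrigid c h1 h2) N
  -- preimages of constants
  let H := coord θ hh
  let G : MvPolynomial ι A →+* B₀⟦X⟧ := (PowerSeries.map π₀.toRingHom).comp H
  have hρ : Function.Surjective ρ := MvPolynomial.map_surjective _ hθs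
  have hHc : Function.Surjective fun p => constantCoeff (H p) := fun f => by
    obtain ⟨p, rfl⟩ := hρ f; exact ⟨p, constantCoeff_coord θ hh hh0 p⟩
  choose pre hpre using fun f => exists_X_pow_dvd_sub H (coord_param θ hθt hh) hHc (N + 1) (PowerSeries.C f)
  have hkH : ∀ p, PowerSeries.X ^ (N + 1) ∣ H p → ∃ s, p = MvPolynomial.C t ^ (N + 1) * s := by
    intro p hp
    obtain ⟨s, hs⟩ := exists_sub_mem_of_X_pow_dvd H (coord_param θ hθt hh) ⊥ (N + 1)
      (fun j hj => by rw [(Submodule.mem_bot _).1 hj, map_zero]; exact dvd_zero _)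
      (fun p hp => by
        rw [constantCoeff_coord θ hh hh0] at hp
        have hdiv : ∀ d, t ∣ MvPolynomial.coeff d p := fun d => hθk _ (by
          have h := congrArg (MvPolynomial.coeff d) hp
          rwa [MvPolynomial.coeff_map, MvPolynomial.coeff_zero] at h)
        obtain ⟨q, hq⟩ := (MvPolynomial.C_dvd_iff_dvd_coeff t p).2 hdiv
        exact ⟨q, by rw [hq, sub_self]; exact zero_mem _⟩) le_rfl hp
    exact ⟨s, sub_eq_zero.1 ((Submodule.mem_bot _).1 hs)⟩
  have hkG : ∀ p, PowerSeries.X ^ (N + 1) ∣ G p →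
      ∃ s, p - MvPolynomial.C t ^ (N + 1) * s ∈ RingHom.ker π' := fun p hp =>
    exists_sub_mem_of_X_pow_dvd G (by simp only [G, RingHom.comp_apply, H, coord_param θ hθt,
      PowerSeries.map_X]) (RingHom.ker π') (N + 1) hh1 (fun p hp => by
        obtain ⟨s, hs⟩ := (hker p).1 (by
          rw [← constantCoeff_fibre π₀ θ hh hh0]; exact hp)
        exact ⟨s, hs⟩) le_rfl hp
  let K := RingHom.ker π₀.toRingHom
  let mk : MvPolynomial ι k →+* MvPolynomial ι k ⧸ K ^ 2 := Ideal.Quotient.mk (K ^ 2)
  let μ : MvPolynomial ι A →+* (MvPolynomial ι k ⧸ K ^ 2)⟦X⟧ := (PowerSeries.map mk).comp H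
  have hμt : μ (MvPolynomial.C t) = PowerSeries.X := by
    simp only [μ, RingHom.comp_apply, H, coord_param θ hθt, PowerSeries.map_X]
  have hμpre : ∀ f, PowerSeries.X ^ (N + 1) ∣ μ (pre f) - PowerSeries.C (mk f) := fun f => by
    have h := map_dvd (PowerSeries.map mk) (hpre f)
    rw [map_sub, map_pow, PowerSeries.map_X, PowerSeries.map_C] at h
    rw [← neg_sub]; exact h.neg_right
  have hIK : ∀ F ∈ RingHom.ker π', ∀ j < N + 1, coeff j (H F) ∈ K := fun F hF j hj => by
    have := PowerSeries.X_pow_dvd_iff.1 (hh1 F hF) j hj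
    rwa [PowerSeries.coeff_map] at this
  have hI2 : ∀ F ∈ RingHom.ker π' ^ 2, ∀ j < N + 1, coeff j (μ F) = 0 := by
    intro F hF
    rw [pow_two] at hF
    refine Submodule.mul_induction_on hF (fun a ha b hb j hj => ?_) (fun x y hx hy j hj => ?_)
    · rw [RingHom.comp_apply, PowerSeries.coeff_map, map_mul, PowerSeries.coeff_mul]
      refine Ideal.Quotient.eq_zero_iff_mem.2 (Ideal.sum_mem _ fun x hx => ?_)
      have := Finset.mem_antidiagonal.1 hx
      exact pow_two K ▸ Ideal.mul_mem_mul (hIK a ha _ (by omega)) (hIK b hb _ (by omega))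
    · rw [map_add, map_add, hx j hj, hy j hj, add_zero]
  let D' : MvPolynomial ι k → MvPolynomial ι k ⧸ K ^ 2 := fun f => coeff N (μ (δ (pre f)))
  have hwd : ∀ F F', PowerSeries.X ^ (N + 1) ∣ H F - H F' →
      coeff N (μ (δ F)) = coeff N (μ (δ F')) := by
    intro F F' h
    obtain ⟨s, hs⟩ := hkH (F - F') (by rwa [map_sub])
    have e1 : MvPolynomial.C t ^ (N + 1) * s = (t ^ (N + 1)) • s := by
      rw [← map_pow, MvPolynomial.smul_eq_C_mul]
    rw [← sub_eq_zero, ← map_sub, ← map_sub, ← map_sub, hs, e1, Derivation.map_smul,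
      MvPolynomial.smul_eq_C_mul, map_mul, map_pow, map_pow, hμt, PowerSeries.coeff_X_pow_mul',
      if_neg (by omega)]
  have hDadd : ∀ f g, D' (f + g) = D' f + D' g := by
    intro f g
    simp only [D', ← map_add]
    rw [hwd (pre (f + g)) (pre f + pre g) ?_, map_add]
    have : H (pre (f + g)) - H (pre f + pre g) = (PowerSeries.C f - H (pre f)) +
        (PowerSeries.C g - H (pre g)) - (PowerSeries.C (f + g) - H (pre (f + g))) := by
      rw [map_add, map_add]; ring
    rw [this]; exact dvd_sub (dvd_add (hpre f) (hpre g)) (hpre _)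
  have hDmul : ∀ f g, D' (f * g) = mk f * D' g + mk g * D' f := by
    intro f g
    have h : D' (f * g) = coeff N (μ (δ (pre f * pre g))) := by
      refine hwd _ _ ?_
      have : H (pre (f * g)) - H (pre f * pre g) =
          (PowerSeries.C f - H (pre f)) * PowerSeries.C g + H (pre f) * (PowerSeries.C g - H (pre g))
            - (PowerSeries.C (f * g) - H (pre (f * g))) := by
        rw [map_mul, map_mul]; ring
      rw [this]
      exact dvd_sub (dvd_add ((hpre f).mul_right _) ((hpre g).mul_left _)) (hpre _)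
    rw [h, Derivation.leibniz, smul_eq_mul, smul_eq_mul, map_add μ, map_add, map_mul μ, map_mul μ,
      coeff_mul_of_dvd_sub_C (hμpre f) (Nat.lt_succ_self N),
      coeff_mul_of_dvd_sub_C (hμpre g) (Nat.lt_succ_self N)]
  have hDC : ∀ c, D' (MvPolynomial.C c) = 0 := by
    intro c
    simp only [D']
    rw [hwd _ (MvPolynomial.C (algebraMap k A c)) ?_, MvPolynomial.derivation_C, map_zero, map_zero]
    have : H (MvPolynomial.C (algebraMap k A c)) = PowerSeries.C (MvPolynomial.C c) := by
      simp only [H, coord, MvPolynomial.eval₂Hom_C, RingHom.comp_apply, hθC, PowerSeries.map_C]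
    rw [this, ← neg_sub]; exact (hpre _).neg_right
  have hDK : ∀ f g, D' f * D' g = 0 := fun f g => by
    simp only [D', μ, RingHom.comp_apply, PowerSeries.coeff_map, ← map_mul]
    exact Ideal.Quotient.eq_zero_iff_mem.2 (pow_two K ▸ Ideal.mul_mem_mul
      (hIK _ (hδI _) _ (Nat.lt_succ_self N)) (hIK _ (hδI _) _ (Nat.lt_succ_self N)))
  have hDker : ∀ f ∈ K, D' f = mk f := by
    intro f hf
    obtain ⟨s, hs⟩ := hkG (pre f) (by
      have h := map_dvd (PowerSeries.map π₀.toRingHom) (hpre f)
      rw [map_sub, map_pow, PowerSeries.map_X, PowerSeries.map_C,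
        show π₀.toRingHom f = 0 from hf, map_zero, zero_sub, dvd_neg] at h
      exact h)
    set F := pre f - MvPolynomial.C t ^ (N + 1) * s with hF
    have hd : PowerSeries.X ^ (N + 1) ∣ H (pre f) - H F :=
      ⟨H s, by rw [hF, map_sub, sub_sub_cancel, map_mul, map_pow, coord_param θ hθt hh]⟩
    have h1 : D' f = coeff N (μ (δ F)) := hwd _ _ hd
    have h2 : coeff N (μ (δ F)) = coeff N (μ (MvPolynomial.C t ^ N * F)) := by
      rw [← sub_eq_zero, ← map_sub, ← map_sub]; exact hI2 _ (hδ F hs) N (Nat.lt_succ_self N)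
    have h3 : PowerSeries.X ^ (N + 1) ∣ μ F - PowerSeries.C (mk f) := by
      have h := map_dvd (PowerSeries.map mk) hd
      rw [map_sub, map_pow, PowerSeries.map_X] at h
      have := dvd_sub (hμpre f) h
      simp only [μ, RingHom.comp_apply] at this ⊢
      refine this.trans (dvd_of_eq ?_)
      ring
    rw [h1, h2, map_mul, map_pow, hμt, PowerSeries.coeff_X_pow_mul', if_pos le_rfl, Nat.sub_self,
      PowerSeries.coeff_zero_eq_constantCoeff]
    have := PowerSeries.X_pow_dvd_iff.1 h3 0 (Nat.succ_pos N)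
    rwa [map_sub, PowerSeries.coeff_zero_eq_constantCoeff, PowerSeries.constantCoeff_C,
      sub_eq_zero] at this
  let s₀ : MvPolynomial ι k →ₐ[k] MvPolynomial ι k ⧸ K ^ 2 :=
    { toFun := fun f => mk f - D' f
      map_one' := by rw [← map_one MvPolynomial.C, hDC, sub_zero]; simp
      map_mul' := fun f g => by
        rw [hDmul, map_mul]
        linear_combination -hDK f g
      map_zero' := by rw [← map_zero MvPolynomial.C, hDC, sub_zero]; simp
      map_add' := fun f g => by rw [hDadd, map_add]; ring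
      commutes' := fun c => by
        rw [MvPolynomial.algebraMap_eq, hDC, sub_zero]; rfl }
  let g : B₀ →ₐ[k] MvPolynomial ι k ⧸ K ^ 2 := AlgHom.liftOfSurjective π₀ hπ₀ s₀
    (fun f hf => by
      change mk f - D' f = 0
      rw [hDker f hf, sub_self])
  refine Algebra.FormallySmooth.of_split π₀ g (AlgHom.ext fun b => ?_)
  obtain ⟨f, rfl⟩ := hπ₀ b
  change π₀.kerSquareLift (g (π₀ f)) = π₀ f
  rw [show g (π₀ f) = s₀ f from AlgHom.liftOfSurjective_apply π₀ hπ₀ s₀ _ f]
  change π₀.kerSquareLift (mk f - D' f) = π₀ f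
  rw [map_sub]
  simp only [D', μ, RingHom.comp_apply, PowerSeries.coeff_map]
  have hKz : π₀ (coeff N (H (δ (pre f)))) = 0 := hIK _ (hδI _) _ (Nat.lt_succ_self N)
  change π₀ f - π₀ (coeff N (H (δ (pre f)))) = π₀ f
  rw [hKz, sub_zero]

end Groth.Agent.H24Cot.RigidFamily
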