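import Groth.Prelude.Def_Exal2
import Mathlib.Tactic.LinearCombination
import Mathlib.RingTheory.Ideal.Quotient.Operations

/-! The six-term sequence of extensions for `k → Λ → R` at its two ends. -/

set_option autoImplicit false
set_option linter.style.haveILetI false

universe u

noncomputable section

namespace Groth.Agent.H24Cot.SixTerm

open Exal

section Generic

variable {A B L : Type u} [CommRing A] [CommRing B] [Algebra A B] [AddCommGroup L] [Module B L]

theorem proj_incl (X : Ext A B L) (z : L) : X.proj (X.incl z) = 0 := (X.isExtension.exact _).mpr ⟨z, rfl⟩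

theorem incl_mul_incl (X : Ext A B L) (z w : L) : X.incl z * X.incl w = 0 := by
  rw [X.isExtension.mul_incl, proj_incl, zero_smul, map_zero]

theorem kerLift_eq (X : Ext A B L) {x : X.E} (hx : X.proj x = 0) {z : L} (h : x = X.incl z) :
    X.kerLift x hx = z :=
  X.isExtension.incl_injective ((X.incl_kerLift x hx).trans h)

/-- An algebra map between middle rings compatible with projections and inclusions is an equivalence. -/
theorem equiv_of_hom {X Y : Ext A B L} (f : X.E →ₐ[A] Y.E) (hp : ∀ x, Y.proj (f x) = X.proj x)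
    (hi : ∀ z, f (X.incl z) = Y.incl z) : Nonempty (X.Equiv Y) := by
  have hbij : Function.Bijective f := by
    refine ⟨(injective_iff_map_eq_zero f).mpr fun x hx => ?_, fun y => ?_⟩
    · obtain ⟨z, rfl⟩ := (X.isExtension.exact x).mp (by rw [← hp, hx, map_zero])
      rw [hi] at hx
      rw [Y.isExtension.incl_injective (hx.trans (map_zero _).symm), map_zero]
    · obtain ⟨x, hx⟩ := X.isExtension.proj_surjective (Y.proj y)
      obtain ⟨z, hz⟩ := (Y.isExtension.exact (y - f x)).mp (by rw [map_sub, hp, hx, sub_self])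
      exact ⟨x + X.incl z, by rw [map_add, hi, hz, add_sub_cancel]⟩
  exact ⟨⟨AlgEquiv.ofBijective f hbij, hp, hi⟩⟩

/-- Two extensions with sections are equivalent. -/
theorem equiv_of_isTrivial {X Y : Ext A B L} (hX : X.IsTrivial) (hY : Y.IsTrivial) :
    Nonempty (X.Equiv Y) := by
  obtain ⟨s, hs⟩ := hX
  obtain ⟨t, ht⟩ := hY
  have h0 : ∀ x, X.proj (x - s (X.proj x)) = 0 := fun x => by rw [map_sub, hs, sub_self]
  let d : X.E → L := fun x => X.kerLift _ (h0 x)
  have hd : ∀ x, X.incl (d x) = x - s (X.proj x) := fun x => X.incl_kerLift _ (h0 x)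
  refine equiv_of_hom
    { toFun := fun x => t (X.proj x) + Y.incl (d x)
      map_one' := by
        have : d 1 = 0 := kerLift_eq X _ (by rw [map_one, map_one, sub_self, map_zero])
        rw [map_one, map_one, this, map_zero, add_zero]
      map_mul' := fun x y => by
        have : d (x * y) = X.proj x • d y + X.proj y • d x := kerLift_eq X _ (by
          have e1 := X.isExtension.mul_incl (s (X.proj x)) (d y)
          have e2 := X.isExtension.mul_incl (s (X.proj y)) (d x)
          rw [hs] at e1 e2
          rw [map_add, ← e1, ← e2, hd, hd, map_mul, map_mul]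
          have := incl_mul_incl X (d x) (d y)
          rw [hd, hd] at this
          linear_combination this)
        have e1 := Y.isExtension.mul_incl (t (X.proj x)) (d y)
        have e2 := Y.isExtension.mul_incl (t (X.proj y)) (d x)
        rw [ht] at e1 e2
        rw [this, map_add, ← e1, ← e2, map_mul, map_mul]
        linear_combination -(incl_mul_incl Y (d x) (d y))
      map_zero' := by
        have : d 0 = 0 := kerLift_eq X _ (by rw [map_zero, map_zero, sub_self, map_zero])
        rw [map_zero, map_zero, this, map_zero, add_zero]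
      map_add' := fun x y => by
        have : d (x + y) = d x + d y := kerLift_eq X _ (by rw [map_add, map_add, map_add, hd, hd]; abel)
        rw [this, map_add, map_add, map_add]; abel
      commutes' := fun a => by
        have : d (algebraMap A X.E a) = 0 :=
          kerLift_eq X _ (by rw [AlgHom.commutes, AlgHom.commutes, sub_self, map_zero])
        rw [this, map_zero, add_zero, AlgHom.commutes, AlgHom.commutes] } (fun x => ?_) (fun z => ?_)
  · change Y.proj (t (X.proj x) + Y.incl (d x)) = _
    rw [map_add, ht, proj_incl, add_zero]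
  · change t (X.proj (X.incl z)) + Y.incl (d (X.incl z)) = _
    rw [proj_incl, map_zero, zero_add]
    congr 1
    exact kerLift_eq X _ (by rw [proj_incl, map_zero, sub_zero])

theorem isTrivial_trivial : (Ext.trivial A B L).IsTrivial :=
  ⟨{ toFun := fun r => TrivSqZeroExt.inl r
     map_one' := TrivSqZeroExt.inl_one L
     map_mul' := fun a b => (letI := Exal.opModule B L;
        haveI := Exal.isCentralScalar_opModule B L; TrivSqZeroExt.inl_mul L a b)
     map_zero' := TrivSqZeroExt.inl_zero L
     map_add' := fun a b => TrivSqZeroExt.inl_add L a b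
     commutes' := fun _ => rfl }, fun _ => rfl⟩

theorem isTrivial_of_equiv {X Y : Ext A B L} (h : X.IsTrivial) (e : X.Equiv Y) : Y.IsTrivial := by
  obtain ⟨s, hs⟩ := h
  exact ⟨e.toAlgEquiv.toAlgHom.comp s, fun b => (e.proj_apply _).trans (hs b)⟩

end Generic

variable {k Λ R L : Type u} [CommRing k] [CommRing Λ] [CommRing R] [Algebra k Λ] [Algebra Λ R]
  [Algebra k R] [IsScalarTower k Λ R] [AddCommGroup L] [Module R L] [Module Λ L] [IsScalarTower Λ R L]
  [Module k L] [IsScalarTower k Λ L] [IsScalarTower k R L]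

/-- If all `Λ`-extensions are trivial, derivations of `Λ` extend to `R`. -/
theorem exists_derivation_extension (h : ∀ X : Ext Λ R L, X.IsTrivial) (D : Derivation k Λ L) :
    ∃ D' : Derivation k R L, ∀ a, D' (algebraMap Λ R a) = D a := by
  letI := Exal.opModule R L
  haveI := Exal.isCentralScalar_opModule R L
  let X : Ext Λ R L := Ext.ofDerivation (C := R) D
  obtain ⟨s, hs⟩ := h X
  let g : R → TrivSqZeroExt R L := fun r => s r
  have hg1 : ∀ r, TrivSqZeroExt.fst (g r) = r := hs
  have hgm : ∀ r r', g (r * r') = g r * g r' := fun r r' => map_mul s r r'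
  have hga : ∀ r r', g (r + r') = g r + g r' := fun r r' => map_add s r r'
  have hgc : ∀ a, g (algebraMap Λ R a) = TrivSqZeroExt.inl (algebraMap Λ R a) + TrivSqZeroExt.inr (D a) :=
    fun a => s.commutes a
  have hmul : ∀ r r', TrivSqZeroExt.snd (g (r * r')) =
      r • TrivSqZeroExt.snd (g r') + r' • TrivSqZeroExt.snd (g r) := fun r r' => by
    rw [hgm, TrivSqZeroExt.snd_mul, hg1, hg1, op_smul_eq_smul]
  have hk : ∀ (c : k) (r : R), TrivSqZeroExt.snd (g (c • r)) = c • TrivSqZeroExt.snd (g r) := fun c r => by
    have h0 : TrivSqZeroExt.snd (g (algebraMap k R c)) = 0 := by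
      rw [IsScalarTower.algebraMap_apply k Λ R, hgc, D.map_algebraMap]
      simp
    rw [Algebra.smul_def, hmul, h0, smul_zero, add_zero, algebraMap_smul]
  refine ⟨Derivation.mk' { toFun := fun r => TrivSqZeroExt.snd (g r)
                           map_add' := fun r r' => by rw [hga, TrivSqZeroExt.snd_add]
                           map_smul' := hk } hmul, fun a => ?_⟩
  change TrivSqZeroExt.snd (g (algebraMap Λ R a)) = D a
  rw [hgc]
  simp

/-- If all `Λ`-extensions are trivial, inverse image to `Λ` is injective. -/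
theorem equiv_of_pullback_equiv (h : ∀ X : Ext Λ R L, X.IsTrivial) (Y Y' : Ext k R L)
    (he : Nonempty ((Y.pullback Λ).Equiv (Y'.pullback Λ))) : Nonempty (Y.Equiv Y') := by
  obtain ⟨e⟩ := he
  let S : Subalgebra k (Y.E × Y'.E) :=
    AlgHom.equalizer (Y.proj.comp (AlgHom.fst k Y.E Y'.E)) (Y'.proj.comp (AlgHom.snd k Y.E Y'.E))
  have hS : ∀ w : S, Y.proj w.1.1 = Y'.proj w.1.2 := fun w => w.2
  let diag : L → S := fun z => ⟨(Y.incl z, Y'.incl z), by
    change Y.proj (Y.incl z) = Y'.proj (Y'.incl z); rw [proj_incl, proj_incl]⟩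
  let J : Ideal S :=
    { carrier := Set.range diag
      zero_mem' := ⟨0, Subtype.ext (Prod.ext (map_zero Y.incl) (map_zero Y'.incl))⟩
      add_mem' := by
        rintro _ _ ⟨z, rfl⟩ ⟨w, rfl⟩
        exact ⟨z + w, Subtype.ext (Prod.ext (map_add Y.incl z w) (map_add Y'.incl z w))⟩
      smul_mem' := by
        rintro w _ ⟨z, rfl⟩
        refine ⟨Y.proj w.1.1 • z, Subtype.ext (Prod.ext ?_ ?_)⟩
        · exact (Y.isExtension.mul_incl _ _).symm
        · change Y'.incl (Y.proj w.1.1 • z) = w.1.2 * Y'.incl z
          rw [hS w, Y'.isExtension.mul_incl] }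
  have hdiag : ∀ z, diag z ∈ J := fun z => ⟨z, rfl⟩
  have hlift : ∀ a : Λ, ∃ y, Y.proj y = algebraMap Λ R a := fun a => Y.isExtension.proj_surjective _
  choose lf hlf using hlift
  let emk : ∀ (a : Λ) (y : Y.E), Y.proj y = algebraMap Λ R a → S := fun a y hy =>
    ⟨(y, (e.toAlgEquiv ⟨(y, a), hy⟩).1.1), by
      have h1 := (e.toAlgEquiv ⟨(y, a), hy⟩).2
      have h2 := e.proj_apply ⟨(y, a), hy⟩
      change Y'.proj (e.toAlgEquiv ⟨(y, a), hy⟩).1.1 = algebraMap Λ R (e.toAlgEquiv ⟨(y, a), hy⟩).1.2 at h1
      change (e.toAlgEquiv ⟨(y, a), hy⟩).1.2 = a at h2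
      change Y.proj y = Y'.proj (e.toAlgEquiv ⟨(y, a), hy⟩).1.1
      rw [h1, h2, hy]⟩
  have hemk : ∀ a y y' (hy : Y.proj y = algebraMap Λ R a) (hy' : Y.proj y' = algebraMap Λ R a),
      Ideal.Quotient.mk J (emk a y hy) = Ideal.Quotient.mk J (emk a y' hy') := fun a y y' hy hy' => by
    obtain ⟨z, hz⟩ := (Y.isExtension.exact (y - y')).mp (by rw [map_sub, hy, hy', sub_self])
    refine Ideal.Quotient.eq.mpr ⟨z, Subtype.ext (Prod.ext hz ?_)⟩
    change Y'.incl z = (e.toAlgEquiv ⟨(y, a), hy⟩).1.1 - (e.toAlgEquiv ⟨(y', a), hy'⟩).1.1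
    let p1 : (Y.pullback Λ).E := ⟨(y, a), hy⟩
    let p2 : (Y.pullback Λ).E := ⟨(y', a), hy'⟩
    have h1 : p1 = p2 + (Y.pullback Λ).incl z :=
      Subtype.ext (Prod.ext (show y = y' + Y.incl z by rw [hz, add_sub_cancel]) (add_zero a).symm)
    change Y'.incl z = (e.toAlgEquiv p1).1.1 - (e.toAlgEquiv p2).1.1
    rw [h1, map_add, e.apply_incl]
    exact (add_sub_cancel_left _ (Y'.incl z)).symm
  let F : Λ →+* S ⧸ J :=
    { toFun := fun a => Ideal.Quotient.mk J (emk a (lf a) (hlf a))
      map_one' := by
        rw [hemk 1 (lf 1) 1 (hlf 1) (by rw [map_one, map_one]), ← map_one (Ideal.Quotient.mk J)]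
        refine congrArg _ (Subtype.ext (Prod.ext rfl ?_))
        exact congrArg (fun w : (Y'.pullback Λ).E => w.1.1) (map_one e.toAlgEquiv)
      map_mul' := fun a b => by
        rw [hemk (a * b) (lf (a * b)) (lf a * lf b) (hlf _) (by rw [map_mul, hlf, hlf, map_mul]),
          ← map_mul (Ideal.Quotient.mk J)]
        refine congrArg _ (Subtype.ext (Prod.ext rfl ?_))
        exact congrArg (fun w : (Y'.pullback Λ).E => w.1.1)
          (map_mul e.toAlgEquiv ⟨(lf a, a), hlf a⟩ ⟨(lf b, b), hlf b⟩)
      map_zero' := by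
        rw [hemk 0 (lf 0) 0 (hlf 0) (by rw [map_zero, map_zero]), ← map_zero (Ideal.Quotient.mk J)]
        refine congrArg _ (Subtype.ext (Prod.ext rfl ?_))
        exact congrArg (fun w : (Y'.pullback Λ).E => w.1.1) (map_zero e.toAlgEquiv)
      map_add' := fun a b => by
        rw [hemk (a + b) (lf (a + b)) (lf a + lf b) (hlf _) (by rw [map_add, hlf, hlf, map_add]),
          ← map_add (Ideal.Quotient.mk J)]
        refine congrArg _ (Subtype.ext (Prod.ext rfl ?_))
        exact congrArg (fun w : (Y'.pullback Λ).E => w.1.1)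
          (map_add e.toAlgEquiv ⟨(lf a, a), hlf a⟩ ⟨(lf b, b), hlf b⟩) }
  letI : Algebra Λ (↥S ⧸ J) := RingHom.toAlgebra' F fun c x => by obtain ⟨w, rfl⟩ := Ideal.Quotient.mk_surjective x; obtain ⟨v, hv⟩ := Ideal.Quotient.mk_surjective (F c); rw [← hv, ← map_mul, ← map_mul, mul_comm]
  let pr0 : S →+* R := (Y.proj.toRingHom.comp (RingHom.fst Y.E Y'.E)).comp S.val.toRingHom
  let pr : (S ⧸ J) →ₐ[Λ] R :=
    { toRingHom := Ideal.Quotient.lift J pr0 (by rintro _ ⟨z, rfl⟩; exact proj_incl Y z)
      commutes' := fun a => hlf a }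
  let incl : L →+ S ⧸ J :=
    AddMonoidHom.mk' (fun z => Ideal.Quotient.mk J ⟨(0, Y'.incl z), by
        change Y.proj 0 = Y'.proj (Y'.incl z); rw [map_zero, proj_incl]⟩) fun z w => by
      rw [← map_add (Ideal.Quotient.mk J)]
      exact congrArg _ (Subtype.ext (Prod.ext (zero_add (0 : Y.E)).symm (map_add Y'.incl z w)))
  let X : Ext Λ R L :=
    { E := S ⧸ J
      proj := pr
      incl := incl
      isExtension := ⟨fun r => by
          obtain ⟨y, hy⟩ := Y.isExtension.proj_surjective r
          obtain ⟨y', hy'⟩ := Y'.isExtension.proj_surjective r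
          exact ⟨Ideal.Quotient.mk J ⟨(y, y'), hy.trans hy'.symm⟩, hy⟩,
        (injective_iff_map_eq_zero incl).mpr fun z hz => by
          obtain ⟨w, hw⟩ := Ideal.Quotient.eq_zero_iff_mem.mp hz
          have h1 : Y.incl w = 0 := congrArg (fun x : S => x.1.1) hw
          have h2 : Y'.incl w = Y'.incl z := congrArg (fun x : S => x.1.2) hw
          rw [← Y'.isExtension.incl_injective h2]
          exact Y.isExtension.incl_injective (h1.trans (map_zero _).symm),
        fun x => by
          constructor
          · intro hx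
            obtain ⟨⟨⟨y, y'⟩, hw⟩, rfl⟩ := Ideal.Quotient.mk_surjective x
            change Y.proj y = 0 at hx
            obtain ⟨z, hz⟩ := (Y.isExtension.exact y).mp hx
            obtain ⟨z', hz'⟩ := (Y'.isExtension.exact y').mp (hw.symm.trans hx)
            refine ⟨z' - z, Ideal.Quotient.eq.mpr ⟨-z, Subtype.ext (Prod.ext ?_ ?_)⟩⟩
            · change Y.incl (-z) = 0 - y
              rw [map_neg, hz, zero_sub]
            · change Y'.incl (-z) = Y'.incl (z' - z) - y'
              rw [map_neg, map_sub, hz']; abel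
          · rintro ⟨z, rfl⟩
            exact map_zero Y.proj,
        fun x z => by
          obtain ⟨⟨⟨y, y'⟩, hw⟩, rfl⟩ := Ideal.Quotient.mk_surjective x
          change Ideal.Quotient.mk J ⟨(y, y'), hw⟩ * incl z = incl (Y.proj y • z)
          erw [← map_mul (Ideal.Quotient.mk J)]
          refine congrArg _ (Subtype.ext (Prod.ext (mul_zero y) ?_))
          change y' * Y'.incl z = Y'.incl (Y.proj y • z)
          rw [Y'.isExtension.mul_incl, show Y'.proj y' = Y.proj y from hw.symm]⟩ }
  obtain ⟨s, hs⟩ := h X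
  have hsk : ∀ c : k, s (algebraMap k R c) = Ideal.Quotient.mk J (algebraMap k S c) := fun c => by
    rw [IsScalarTower.algebraMap_apply k Λ R, s.commutes]
    change Ideal.Quotient.mk J (emk _ _ _) = _
    rw [hemk (algebraMap k Λ c) _ (algebraMap k Y.E c) (hlf _)
      (by rw [AlgHom.commutes, ← IsScalarTower.algebraMap_apply])]
    refine congrArg _ (Subtype.ext (Prod.ext rfl ?_))
    exact congrArg (fun w : (Y'.pullback Λ).E => w.1.1) (e.toAlgEquiv.commutes c)
  have hex : ∀ y : Y.E, ∃ w : S, w.1.1 = y ∧ Ideal.Quotient.mk J w = s (Y.proj y) := fun y => by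
    obtain ⟨w, hw⟩ := Ideal.Quotient.mk_surjective (s (Y.proj y))
    have h1 : Y.proj w.1.1 = Y.proj y := by
      have := hs (Y.proj y)
      rw [← hw] at this
      exact this
    obtain ⟨z, hz⟩ := (Y.isExtension.exact (y - w.1.1)).mp (by rw [map_sub, h1, sub_self])
    refine ⟨w + diag z, ?_, by rw [map_add, Ideal.Quotient.eq_zero_iff_mem.mpr (hdiag z), add_zero, hw]⟩
    change w.1.1 + Y.incl z = y
    rw [hz, add_sub_cancel]
  have huniq : ∀ w w' : S, w.1.1 = w'.1.1 → Ideal.Quotient.mk J w = Ideal.Quotient.mk J w' →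
      w.1.2 = w'.1.2 := fun w w' h1 h2 => by
    obtain ⟨z, hz⟩ := Ideal.Quotient.eq.mp h2
    have h3 : Y.incl z = w.1.1 - w'.1.1 := congrArg (fun x : S => x.1.1) hz
    have h4 : Y'.incl z = w.1.2 - w'.1.2 := congrArg (fun x : S => x.1.2) hz
    rw [h1, sub_self] at h3
    rw [Y.isExtension.incl_injective (h3.trans (map_zero _).symm), map_zero] at h4
    exact sub_eq_zero.mp h4.symm
  choose f hf1 hf2 using hex
  refine equiv_of_hom
    { toFun := fun y => (f y).1.2
      map_one' := huniq (f 1) 1 (hf1 1) (by rw [hf2, map_one, map_one, map_one])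
      map_mul' := fun a b => huniq (f (a * b)) (f a * f b) ((hf1 _).trans (congrArg₂ (· * ·) (hf1 a).symm (hf1 b).symm))
        (by rw [hf2, map_mul, map_mul, map_mul, hf2, hf2])
      map_zero' := huniq (f 0) 0 (hf1 0) (by rw [hf2, map_zero, map_zero, map_zero])
      map_add' := fun a b => huniq (f (a + b)) (f a + f b) ((hf1 _).trans (congrArg₂ (· + ·) (hf1 a).symm (hf1 b).symm))
        (by rw [hf2, map_add, map_add, map_add, hf2, hf2])
      commutes' := fun c => huniq (f _) (algebraMap k S c) (hf1 _) (by rw [hf2, AlgHom.commutes, hsk]) }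
    (fun y => (hS (f y)).symm.trans (congrArg Y.proj (hf1 y))) fun z => ?_
  exact huniq (f _) (diag z) (hf1 _) (by
    rw [hf2, proj_incl, map_zero, Ideal.Quotient.eq_zero_iff_mem.mpr (hdiag z)])

/-- Surjectivity on derivations and injectivity of inverse image force all `Λ`-extensions to split. -/
theorem isTrivial_of_derivation_of_injective
    (hD : ∀ D : Derivation k Λ L, ∃ D' : Derivation k R L, ∀ a, D' (algebraMap Λ R a) = D a)
    (hinj : ∀ Y Y' : Ext k R L, Nonempty ((Y.pullback Λ).Equiv (Y'.pullback Λ)) → Nonempty (Y.Equiv Y'))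
    (X : Ext Λ R L) : X.IsTrivial := by
  let Y : Ext k R L := X.restrictBase k
  have hY : (Y.pullback Λ).IsTrivial := by
    refine ⟨{ toFun := fun a => ⟨(algebraMap Λ X.E a, a), X.proj.commutes a⟩
              map_one' := Subtype.ext (Prod.ext (map_one (algebraMap Λ X.E)) rfl)
              map_mul' := fun a b => Subtype.ext (Prod.ext (map_mul (algebraMap Λ X.E) a b) rfl)
              map_zero' := Subtype.ext (Prod.ext (map_zero (algebraMap Λ X.E)) rfl)
              map_add' := fun a b => Subtype.ext (Prod.ext (map_add (algebraMap Λ X.E) a b) rfl)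
              commutes' := fun c => Subtype.ext (Prod.ext rfl rfl) }, fun a => rfl⟩
  have hT : ((Ext.trivial k R L).pullback Λ).IsTrivial := by
    obtain ⟨s, hs⟩ := isTrivial_trivial (A := k) (B := R) (L := L)
    refine ⟨{ toFun := fun a => ⟨(s (algebraMap Λ R a), a), hs _⟩
              map_one' := Subtype.ext (Prod.ext (by change s _ = 1; rw [map_one, map_one]) rfl)
              map_mul' := fun a b => Subtype.ext (Prod.ext (by change s _ = s _ * s _; rw [map_mul, map_mul]) rfl)
              map_zero' := Subtype.ext (Prod.ext (by change s _ = 0; rw [map_zero, map_zero]) rfl)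
              map_add' := fun a b => Subtype.ext (Prod.ext (by change s _ = s _ + s _; rw [map_add, map_add]) rfl)
              commutes' := fun c => Subtype.ext (Prod.ext (by
                change s _ = algebraMap k _ c
                rw [← IsScalarTower.algebraMap_apply, s.commutes]) rfl) }, fun a => rfl⟩
  obtain ⟨ε⟩ := hinj _ _ (equiv_of_isTrivial hT hY)
  obtain ⟨s₀, hs₀⟩ := isTrivial_of_equiv isTrivial_trivial ε
  let g : R → X.E := fun r => s₀ r
  have hg : ∀ r, X.proj (g r) = r := hs₀
  have hgm : ∀ r r', g (r * r') = g r * g r' := fun r r' => map_mul s₀ r r'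
  have hga : ∀ r r', g (r + r') = g r + g r' := fun r r' => map_add s₀ r r'
  have hgk : ∀ c : k, g (algebraMap k R c) = algebraMap Λ X.E (algebraMap k Λ c) := fun c => s₀.commutes c
  have h0 : ∀ a, X.proj (algebraMap Λ X.E a - g (algebraMap Λ R a)) = 0 := fun a => by
    rw [map_sub, X.proj.commutes, hg, sub_self]
  let d : Λ → L := fun a => X.kerLift _ (h0 a)
  have hd : ∀ a, X.incl (d a) = algebraMap Λ X.E a - g (algebraMap Λ R a) := fun a => X.incl_kerLift _ (h0 a)
  have hdm : ∀ a b, d (a * b) = a • d b + b • d a := fun a b => kerLift_eq X _ (by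
    rw [map_add, ← algebraMap_smul R a (d b), ← algebraMap_smul R b (d a), ← X.proj.commutes a,
      ← X.proj.commutes b, ← X.isExtension.mul_incl, ← X.isExtension.mul_incl, hd, hd, map_mul, map_mul, hgm]
    have := incl_mul_incl X (d a) (d b)
    rw [hd, hd] at this
    linear_combination -this)
  let D : Derivation k Λ L := Derivation.mk'
    { toFun := d
      map_add' := fun a b => kerLift_eq X _ (by rw [map_add, map_add, map_add, hga, hd, hd]; abel)
      map_smul' := fun c a => by
        have h1 : d (algebraMap k Λ c) = 0 := kerLift_eq X _ (by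
          rw [← IsScalarTower.algebraMap_apply k Λ R, hgk, sub_self, map_zero])
        rw [RingHom.id_apply, Algebra.smul_def, hdm, h1, smul_zero, add_zero, algebraMap_smul] } hdm
  obtain ⟨D', hD'⟩ := hD D
  have hone : g 1 = 1 := map_one s₀
  have hzero : g 0 = 0 := map_zero s₀
  refine ⟨{ toFun := fun r => g r + X.incl (D' r)
            map_one' := by rw [hone, D'.map_one_eq_zero, map_zero, add_zero]
            map_mul' := fun a b => by
              have e1 := X.isExtension.mul_incl (g a) (D' b)
              have e2 := X.isExtension.mul_incl (g b) (D' a)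
              rw [hg] at e1 e2
              rw [hgm, D'.leibniz, map_add, ← e1, ← e2]
              linear_combination -(incl_mul_incl X (D' a) (D' b))
            map_zero' := by rw [hzero, map_zero, map_zero, add_zero]
            map_add' := fun a b => by rw [hga, map_add, map_add]; abel
            commutes' := fun a => by
              rw [hD']
              change g _ + X.incl (d a) = _
              rw [hd, add_sub_cancel] }, fun r => ?_⟩
  change X.proj (g r + X.incl (D' r)) = r
  rw [map_add, hg, proj_incl, add_zero]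

end Groth.Agent.H24Cot.SixTerm
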