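import Groth.Prelude.Def_Exal
import Mathlib.RingTheory.HopkinsLevitzki
import Mathlib.RingTheory.Filtration
import Mathlib.RingTheory.LocalRing.ResidueField.Basic
import Mathlib.RingTheory.Noetherian.Basic

/-! Vanishing of `Ex_Λ(R, k)` against lifting along small extensions of Artinian rings. -/

set_option autoImplicit false
set_option linter.style.haveILetI false

universe u

open IsLocalRing

noncomputable section

namespace Groth.Agent.H24Cot.SmallLift

variable {Λ R : Type u} [CommRing Λ] [CommRing R] [Algebra Λ R] [IsLocalRing R]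

section Middle

variable (X : Exal.Ext Λ R (ResidueField R))

theorem proj_incl (z : ResidueField R) : X.proj (X.incl z) = 0 :=
  (X.isExtension.exact _).mpr ⟨z, rfl⟩

theorem incl_mul_incl (z w : ResidueField R) : X.incl z * X.incl w = 0 := by
  rw [X.isExtension.mul_incl, proj_incl, zero_smul, map_zero]

theorem isUnit_of_isUnit_proj {e : X.E} (h : IsUnit (X.proj e)) : IsUnit e := by
  obtain ⟨r, hr⟩ := h.exists_right_inv
  obtain ⟨e', rfl⟩ := X.isExtension.proj_surjective r
  obtain ⟨z, hz⟩ := (X.isExtension.exact (e * e' - 1)).mp (by rw [map_sub, map_mul, hr, map_one, sub_self])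
  refine IsUnit.of_mul_eq_one (e' * (1 - X.incl z)) ?_
  linear_combination (X.incl z - 1) * hz - incl_mul_incl X z z

theorem isLocalRing_E : IsLocalRing X.E := by
  haveI : Nontrivial X.E := X.isExtension.proj_surjective.nontrivial
  refine IsLocalRing.of_isUnit_or_isUnit_one_sub_self fun e => ?_
  rcases IsLocalRing.isUnit_or_isUnit_one_sub_self (X.proj e) with h | h
  · exact Or.inl (isUnit_of_isUnit_proj X h)
  · refine Or.inr (isUnit_of_isUnit_proj X ?_)
    rwa [map_sub, map_one]

theorem exists_mul_eps (z : ResidueField R) : ∃ e, X.incl z = e * X.incl 1 := by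
  obtain ⟨r, rfl⟩ := residue_surjective z
  obtain ⟨e, rfl⟩ := X.isExtension.proj_surjective r
  refine ⟨e, ?_⟩
  rw [X.isExtension.mul_incl]
  congr 1
  rw [Algebra.smul_def, mul_one]; rfl

theorem eps_mem_of_incl_mem {J : Ideal X.E} {z : ResidueField R} (h : X.incl z ∈ J) (hz : z ≠ 0) :
    X.incl 1 ∈ J := by
  obtain ⟨r, hr⟩ := residue_surjective z⁻¹
  obtain ⟨e, rfl⟩ := X.isExtension.proj_surjective r
  have := J.mul_mem_left e h
  rw [X.isExtension.mul_incl, Algebra.smul_def, IsLocalRing.ResidueField.algebraMap_eq, hr,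
    inv_mul_cancel₀ hz] at this
  exact this

theorem isNoetherianRing_E [IsNoetherianRing R] : IsNoetherianRing X.E := by
  refine ⟨fun J => ?_⟩
  obtain ⟨s, hs⟩ := (IsNoetherian.noetherian (Ideal.map X.proj.toRingHom J) : _)
  have hlift : ∀ y : s, ∃ x ∈ J, X.proj x = y := fun y =>
    (Ideal.mem_map_iff_of_surjective X.proj.toRingHom X.isExtension.proj_surjective).mp
      (hs ▸ Submodule.subset_span y.2)
  choose f hfJ hf using hlift
  have hker : ∀ x ∈ J, X.proj x = 0 → x ∈ Ideal.span (Set.range f) ⊔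
      (Ideal.span {X.incl 1} ⊓ J) := fun x hx h0 => by
    obtain ⟨z, rfl⟩ := (X.isExtension.exact x).mp h0
    obtain ⟨e, he⟩ := exists_mul_eps X z
    exact Ideal.mem_sup_right ⟨Ideal.mem_span_singleton'.mpr ⟨e, he.symm⟩, hx⟩
  have hJ : J = Ideal.span (Set.range f) ⊔ (Ideal.span {X.incl 1} ⊓ J) := by
    refine le_antisymm (fun x hx => ?_) (sup_le (Ideal.span_le.mpr ?_) inf_le_right)
    · have hmem : X.proj x ∈ (Ideal.span (Set.range f)).map X.proj.toRingHom := by
        have h1 : X.proj x ∈ Ideal.map X.proj.toRingHom J := Ideal.mem_map_of_mem X.proj.toRingHom hx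
        rw [← hs] at h1
        rw [Ideal.map_span]
        refine Submodule.span_mono (fun y hy => ?_) h1
        exact ⟨f ⟨y, hy⟩, ⟨_, rfl⟩, hf _⟩
      obtain ⟨y, hy, hxy⟩ :=
        (Ideal.mem_map_iff_of_surjective X.proj.toRingHom X.isExtension.proj_surjective).mp hmem
      have hyJ : y ∈ J := (Ideal.span_le.mpr (by rintro _ ⟨i, rfl⟩; exact hfJ i)) hy
      have h2 := hker (x - y) (sub_mem hx hyJ) (by rw [map_sub, sub_eq_zero]; exact hxy.symm)
      have := add_mem h2 (Ideal.mem_sup_left hy)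
      rwa [sub_add_cancel] at this
    · rintro _ ⟨i, rfl⟩; exact hfJ i
  rw [hJ]
  refine Submodule.FG.sup (Submodule.fg_span (Set.finite_range f)) ?_
  by_cases hε : X.incl 1 ∈ J
  · rw [inf_eq_left.mpr ((Ideal.span_singleton_le_iff_mem J).mpr hε)]
    exact Submodule.fg_span_singleton _
  · convert Submodule.fg_bot
    rw [eq_bot_iff]
    rintro x ⟨h1, h2⟩
    obtain ⟨e, rfl⟩ := Ideal.mem_span_singleton'.mp h1
    rw [X.isExtension.mul_incl, SetLike.mem_coe] at h2
    rw [X.isExtension.mul_incl, Ideal.mem_bot]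
    by_contra h3
    exact hε (eps_mem_of_incl_mem X h2 (fun h => h3 (by rw [h, map_zero])))

end Middle

variable {B : Type u} [CommRing B] [Algebra Λ B] [IsLocalRing B]

/-- Extensions all trivial ⇒ lifting along `B → B/(t)`. -/
theorem exists_lift_of_forall_isTrivial
    (hX : ∀ X : Exal.Ext Λ R (ResidueField R), X.IsTrivial) (t : B) (htm : t ∈ maximalIdeal B)
    (ht : ∀ b ∈ maximalIdeal B, b * t = 0) (φ : R →ₐ[Λ] B ⧸ Ideal.span {t})
    (hB : ∀ b : B, ∃ a : Λ, b - algebraMap Λ B a ∈ maximalIdeal B) :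
    ∃ φ' : R →ₐ[Λ] B, (Ideal.Quotient.mkₐ Λ (Ideal.span {t})).comp φ' = φ := by
  let q := Ideal.Quotient.mkₐ Λ (Ideal.span {t})
  have hqs : Function.Surjective q := Ideal.Quotient.mk_surjective
  by_cases ht0 : t = 0
  · have hqi : Function.Injective q := (injective_iff_map_eq_zero q).mpr fun b hb => by
      have := Ideal.Quotient.eq_zero_iff_mem.mp hb
      rwa [Ideal.span_singleton_eq_bot.mpr ht0, Ideal.mem_bot] at this
    refine ⟨(AlgEquiv.ofBijective q ⟨hqi, hqs⟩).symm.toAlgHom.comp φ, AlgHom.ext fun r => ?_⟩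
    exact (AlgEquiv.ofBijective q ⟨hqi, hqs⟩).apply_symm_apply (φ r)
  have hsp : Ideal.span {t} ≤ maximalIdeal B := (Ideal.span_singleton_le_iff_mem _).mpr htm
  let ψ : R →+* ResidueField B := (Ideal.Quotient.factor hsp).comp φ.toRingHom
  have hψ : Function.Surjective ψ := fun y => by
    obtain ⟨b, rfl⟩ := residue_surjective y
    obtain ⟨a, ha⟩ := hB b
    refine ⟨algebraMap Λ R a, ?_⟩
    change Ideal.Quotient.factor hsp (φ (algebraMap Λ R a)) = residue B b
    rw [φ.commutes, ← Ideal.Quotient.mk_algebraMap, Ideal.Quotient.factor_mk]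
    exact (Ideal.Quotient.eq.mpr ha).symm
  have hker : RingHom.ker ψ = maximalIdeal R :=
    IsLocalRing.eq_maximalIdeal (RingHom.ker_isMaximal_of_surjective ψ hψ)
  choose lft hlft using fun r => hqs (φ r)
  have hlm : ∀ r ∈ maximalIdeal R, lft r ∈ maximalIdeal B := fun r hr => by
    rw [← hker, RingHom.mem_ker] at hr
    change Ideal.Quotient.factor hsp (φ r) = 0 at hr
    rw [← hlft r] at hr
    exact Ideal.Quotient.eq_zero_iff_mem.mp hr
  have hlu : ∀ r, lft r ∈ maximalIdeal B → r ∈ maximalIdeal R := fun r hr => by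
    rw [← hker, RingHom.mem_ker]
    change Ideal.Quotient.factor hsp (φ r) = 0
    rw [← hlft r]
    exact Ideal.Quotient.eq_zero_iff_mem.mpr hr
  have hq : ∀ b b' : B, q b = q b' → ∃ c, b - b' = c * t := fun b b' h => by
    obtain ⟨c, hc⟩ := Ideal.mem_span_singleton'.mp (Ideal.Quotient.eq.mp h)
    exact ⟨c, hc.symm⟩
  have htt : t * t = 0 := ht t htm
  let i0 : R →+ B :=
    AddMonoidHom.mk' (fun r => lft r * t) fun r r' => by
      obtain ⟨c, hc⟩ := hq (lft (r + r')) (lft r + lft r') (by rw [map_add, hlft, hlft, hlft, map_add])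
      linear_combination t * hc + c * htt
  let inc : ResidueField R →+ B :=
    QuotientAddGroup.lift (maximalIdeal R).toAddSubgroup i0 fun r hr => ht _ (hlm r hr)
  have hinc : ∀ r, inc (residue R r) = lft r * t := fun r => rfl
  have hit : ∀ z, q (inc z) = 0 := fun z => by
    obtain ⟨r, rfl⟩ := residue_surjective z
    exact Ideal.Quotient.eq_zero_iff_mem.mpr (by rw [hinc]; exact Ideal.mem_span_singleton'.mpr ⟨_, rfl⟩)
  let S : Subalgebra Λ (R × B) :=
    AlgHom.equalizer (φ.comp (AlgHom.fst Λ R B)) (q.comp (AlgHom.snd Λ R B))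
  have hS : ∀ x : S, φ x.1.1 = q x.1.2 := fun x => x.2
  let incl : ResidueField R →+ S :=
    AddMonoidHom.mk' (fun z => ⟨((0 : R), inc z), by change φ 0 = q (inc z); rw [map_zero, hit]⟩)
      fun z w => Subtype.ext (Prod.ext (zero_add (0 : R)).symm (map_add inc z w))
  let X : Exal.Ext Λ R (ResidueField R) :=
    { E := S
      proj := (AlgHom.fst Λ R B).comp S.val
      incl := incl
      isExtension := ⟨fun r => ⟨⟨(r, lft r), (hlft r).symm⟩, rfl⟩, (injective_iff_map_eq_zero incl).mpr fun z hz => by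
          obtain ⟨r, rfl⟩ := residue_surjective z
          have h1 : lft r * t = 0 := congrArg (fun w : S => w.1.2) hz
          refine (residue_eq_zero_iff r).mpr (hlu r ((mem_maximalIdeal _).mpr fun hu => ht0 ?_))
          exact (hu.mul_right_eq_zero).mp h1,
        fun x => by
          constructor
          · intro hx
            change x.1.1 = 0 at hx
            obtain ⟨c, hc⟩ := hq x.1.2 0 (by rw [← hS x, hx, map_zero, map_zero])
            obtain ⟨a, ha⟩ := hB c
            refine ⟨residue R (algebraMap Λ R a), Subtype.ext (Prod.ext hx.symm ?_)⟩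
            change inc (residue R (algebraMap Λ R a)) = x.1.2
            obtain ⟨d, hd⟩ := hq (lft (algebraMap Λ R a)) (algebraMap Λ B a)
              (by rw [hlft, φ.commutes, AlgHom.commutes])
            rw [hinc]
            linear_combination t * hd + d * htt - hc - ht _ ha
          · rintro ⟨z, rfl⟩; rfl,
        fun x z => by
          obtain ⟨r, rfl⟩ := residue_surjective z
          refine Subtype.ext (Prod.ext ?_ ?_)
          · change x.1.1 * 0 = 0
            exact mul_zero _
          · change x.1.2 * inc (residue R r) = inc (x.1.1 • residue R r)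
            rw [show x.1.1 • residue R r = residue R (x.1.1 * r) by
              rw [Algebra.smul_def, IsLocalRing.ResidueField.algebraMap_eq, map_mul], hinc, hinc]
            obtain ⟨c, hc⟩ := hq (lft (x.1.1 * r)) (x.1.2 * lft r)
              (by rw [hlft, map_mul, map_mul, hS x, hlft])
            linear_combination -t * hc - c * htt⟩ }
  obtain ⟨s, hs⟩ := hX X
  refine ⟨((AlgHom.snd Λ R B).comp S.val).comp s, AlgHom.ext fun r => ?_⟩
  exact (hS (s r)).symm.trans (congrArg φ (hs r))

/-- Lifting along small extensions of Artinian rings ⇒ extensions by the residue field all trivial. -/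
theorem isTrivial_of_lift [IsNoetherianRing R] (X : Exal.Ext Λ R (ResidueField R))
    (P : Λ → Prop) (hRP : ∀ r : R, ∃ a : Λ, P a ∧ r - algebraMap Λ R a ∈ maximalIdeal R)
    (H : ∀ (B : Type u) [CommRing B] [Algebra Λ B] [IsLocalRing B] [IsArtinianRing B],
      (∀ b : B, ∃ a : Λ, P a ∧ b - algebraMap Λ B a ∈ maximalIdeal B) →
      ∀ t : B, t ∈ maximalIdeal B → (∀ b ∈ maximalIdeal B, b * t = 0) →
      ∀ φ : R →ₐ[Λ] B ⧸ Ideal.span {t},
        ∃ φ' : R →ₐ[Λ] B, (Ideal.Quotient.mkₐ Λ (Ideal.span {t})).comp φ' = φ) : X.IsTrivial := by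
  haveI := isLocalRing_E X
  haveI := isNoetherianRing_E X
  let ε := X.incl 1
  let m := maximalIdeal X.E
  have hε0 : ε ≠ 0 := fun h => one_ne_zero (α := ResidueField R)
    (X.isExtension.incl_injective (h.trans (map_zero _).symm))
  obtain ⟨N, hN⟩ : ∃ N, ε ∉ m ^ N := by
    by_contra h
    simp only [not_exists, not_not] at h
    apply hε0
    rw [← Ideal.mem_bot, ← Ideal.iInf_pow_eq_bot_of_isLocalRing m (maximalIdeal.isMaximal _).ne_top]
    exact Ideal.mem_iInf.mpr h
  have hle : m ^ N ≤ m := by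
    rcases N with _ | n
    · exact absurd (by rw [pow_zero, Ideal.one_eq_top]; trivial) hN
    · exact Ideal.pow_le_self n.succ_ne_zero
  haveI : Nontrivial (X.E ⧸ m ^ N) := Ideal.Quotient.nontrivial_iff.mpr fun h =>
    (maximalIdeal.isMaximal X.E).ne_top (top_le_iff.mp (h ▸ hle))
  let π := Ideal.Quotient.mkₐ Λ (m ^ N)
  have hπs : Function.Surjective π := Ideal.Quotient.mk_surjective
  haveI : IsLocalRing (X.E ⧸ m ^ N) := IsLocalRing.of_surjective' _ Ideal.Quotient.mk_surjective
  haveI : IsLocalHom (Ideal.Quotient.mk (m ^ N)) :=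
    IsLocalHom.of_surjective _ Ideal.Quotient.mk_surjective
  haveI : IsNoetherianRing (X.E ⧸ m ^ N) := isNoetherianRing_of_surjective X.E _ _ Ideal.Quotient.mk_surjective
  have hmB : maximalIdeal (X.E ⧸ m ^ N) = m.map (Ideal.Quotient.mk (m ^ N)) := by
    refine le_antisymm (fun b hb => ?_) (Ideal.map_le_iff_le_comap.mpr fun e he => ?_)
    · obtain ⟨e, rfl⟩ := Ideal.Quotient.mk_surjective b
      exact Ideal.mem_map_of_mem _ ((mem_maximalIdeal e).mpr fun hu => (mem_maximalIdeal _).mp hb (hu.map _))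
    · exact (mem_maximalIdeal _).mpr fun hu => (mem_maximalIdeal e).mp he
        ((isUnit_map_iff (Ideal.Quotient.mk (m ^ N)) e).mp hu)
  haveI : IsArtinianRing (X.E ⧸ m ^ N) := by
    rw [isArtinianRing_iff_isNilpotent_maximalIdeal, hmB]
    exact ⟨N, by rw [← Ideal.map_pow, Ideal.map_quotient_self]; rfl⟩
  have hεm : ε ∈ m := (mem_maximalIdeal _).mpr fun hu => not_isUnit_zero (M₀ := R) (by
    have := hu.map X.proj
    rwa [proj_incl] at this)
  have hmul : ∀ e ∈ m, e * ε = 0 := fun e he => by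
    rw [X.isExtension.mul_incl, Algebra.smul_def, mul_one, IsLocalRing.ResidueField.algebraMap_eq,
      (residue_eq_zero_iff _).mpr ((mem_maximalIdeal _).mpr fun hu =>
        (mem_maximalIdeal e).mp he (isUnit_of_isUnit_proj X hu)), map_zero]
  have hB : ∀ b : X.E ⧸ m ^ N, ∃ a : Λ, P a ∧ b - algebraMap Λ _ a ∈ maximalIdeal (X.E ⧸ m ^ N) := fun b => by
    obtain ⟨e, rfl⟩ := hπs b
    obtain ⟨a, hPa, ha⟩ := hRP (X.proj e)
    refine ⟨a, hPa, ?_⟩
    rw [hmB, ← π.commutes, ← map_sub]
    refine Ideal.mem_map_of_mem _ ((mem_maximalIdeal _).mpr fun hu => (mem_maximalIdeal _).mp ha ?_)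
    have := hu.map X.proj
    rwa [map_sub, AlgHom.commutes] at this
  have htm : π ε ∈ maximalIdeal (X.E ⧸ m ^ N) := by rw [hmB]; exact Ideal.mem_map_of_mem _ hεm
  have htann : ∀ b ∈ maximalIdeal (X.E ⧸ m ^ N), b * π ε = 0 := fun b hb => by
    rw [hmB, Ideal.mem_map_iff_of_surjective _ Ideal.Quotient.mk_surjective] at hb
    obtain ⟨e, he, rfl⟩ := hb
    change π e * π ε = 0
    rw [← map_mul, hmul e he, map_zero]
  let π₂ := (Ideal.Quotient.mkₐ Λ (Ideal.span {π ε})).comp π
  let φ := X.proj.liftOfSurjective X.isExtension.proj_surjective π₂ fun e he => by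
    obtain ⟨z, rfl⟩ := (X.isExtension.exact e).mp he
    obtain ⟨c, hc⟩ := exists_mul_eps X z
    exact Ideal.Quotient.eq_zero_iff_mem.mpr (Ideal.mem_span_singleton'.mpr ⟨π c, by rw [← map_mul, ← hc]; rfl⟩)
  have hφ : ∀ e, φ (X.proj e) = π₂ e := fun e => AlgHom.liftOfSurjective_apply _ _ _ _ _
  obtain ⟨φ', hφ'⟩ := H _ hB (π ε) htm htann φ
  have hex : ∀ r, ∃ e, X.proj e = r ∧ π e = φ' r := fun r => by
    obtain ⟨e, rfl⟩ := X.isExtension.proj_surjective r
    have h1 : Ideal.Quotient.mkₐ Λ (Ideal.span {π ε}) (φ' (X.proj e)) = π₂ e :=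
      (AlgHom.congr_fun hφ' _).trans (hφ e)
    obtain ⟨c, hc⟩ := Ideal.mem_span_singleton'.mp (Ideal.Quotient.eq.mp h1)
    obtain ⟨c, rfl⟩ := hπs c
    refine ⟨e + c * ε, by rw [map_add, map_mul, proj_incl, mul_zero, add_zero], ?_⟩
    rw [map_add, map_mul]
    exact (congrArg (π e + ·) hc).trans (add_sub_cancel _ _)
  have huniq : ∀ e e' : X.E, X.proj e = X.proj e' → π e = π e' → e = e' := fun e e' h1 h2 => by
    obtain ⟨z, hz⟩ := (X.isExtension.exact (e - e')).mp (by rw [map_sub, h1, sub_self])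
    by_cases hz0 : z = 0
    · rwa [hz0, map_zero, eq_comm, sub_eq_zero] at hz
    · exact absurd (eps_mem_of_incl_mem X (J := m ^ N) (hz ▸ Ideal.Quotient.eq.mp h2) hz0) hN
  choose s hs1 hs2 using hex
  refine ⟨{ toFun := s
            map_one' := huniq _ _ (by rw [hs1, map_one]) (by rw [hs2, map_one, map_one])
            map_mul' := fun a b => huniq _ _ (by rw [hs1, map_mul, hs1, hs1]) (by rw [hs2, map_mul, map_mul, hs2, hs2])
            map_zero' := huniq _ _ (by rw [hs1, map_zero]) (by rw [hs2, map_zero, map_zero])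
            map_add' := fun a b => huniq _ _ (by rw [hs1, map_add, hs1, hs1]) (by rw [hs2, map_add, map_add, hs2, hs2])
            commutes' := fun a => huniq _ _ (by rw [hs1, AlgHom.commutes]) (by rw [hs2, AlgHom.commutes, AlgHom.commutes]) },
    hs1⟩

end Groth.Agent.H24Cot.SmallLift
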