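import Groth.Agent.H24Cot.Koszul
import Groth.Agent.H24Cot.Compare
import Mathlib.RingTheory.Smooth.Basic
import Mathlib.Algebra.Module.LocalizedModule.Basic
import Mathlib.RingTheory.LocalProperties.Basic

/-!
Vanishing of `T¹` and `T²` and formal smoothness.
-/

universe u t

open TensorProduct CotT

set_option linter.style.haveILetI false

noncomputable section

namespace Groth.Agent.H24Cot

variable {A B ι : Type u} {σ : Type t} [CommRing A] [CommRing B] [Algebra A B]
variable (P : Algebra.Presentation A B ι σ)

theorem exists_retraction_iff :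
    Algebra.FormallySmooth A B ↔ ∃ l, l ∘ₗ P.toExtension.cotangentComplex = LinearMap.id := by
  haveI : Algebra.FormallySmooth A P.toExtension.Ring :=
    inferInstanceAs (Algebra.FormallySmooth A (MvPolynomial ι A))
  exact P.toExtension.formallySmooth_iff_split_injection

theorem subsingleton_T1_of_formallySmooth [Algebra.FormallySmooth A B] (M : Type*) [AddCommGroup M] [Module B M] :
    Subsingleton (T1 P M) := by
  obtain ⟨l, hl⟩ := (exists_retraction_iff P).mp inferInstance
  refine subsingleton_of_forall_eq 0 fun t => ?_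
  obtain ⟨φ, rfl⟩ := homToT1_surjective P M t
  have : φ ∈ LinearMap.ker (homToT1 P M) := by
    rw [ker_homToT1]
    exact ⟨φ ∘ₗ l, by
      rw [LinearMap.lcomp_apply', LinearMap.comp_assoc, hl, LinearMap.comp_id]⟩
  exact this

theorem formallySmooth_of_subsingleton_T1 (h : Subsingleton (T1 P P.toExtension.Cotangent)) :
    Algebra.FormallySmooth A B := by
  rw [exists_retraction_iff P]
  have : LinearMap.id ∈ LinearMap.ker (homToT1 P P.toExtension.Cotangent) :=
    Subsingleton.elim _ _
  rw [ker_homToT1] at this
  obtain ⟨l, hl⟩ := this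
  exact ⟨l, hl⟩

/-- `T¹` vanishes for all modules iff the algebra is formally smooth. -/
theorem formallySmooth_iff_subsingleton_T1 :
    Algebra.FormallySmooth A B ↔
      ∀ (M : Type u) [AddCommGroup M] [Module B M], Subsingleton (T1 (canon A B) M) :=
  ⟨fun _ M _ _ => subsingleton_T1_of_formallySmooth _ M,
    fun h => formallySmooth_of_subsingleton_T1 _ (h (canon A B).toExtension.Cotangent)⟩

theorem d2_injective_of (h : ∀ q : relKer P, (∀ s, (q : relMod P) s ∈ P.toExtension.ker) →
    (q : relMod P) ∈ trivRel P) : Function.Injective (d2 P) := by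
  rw [injective_iff_map_eq_zero]
  intro z hz
  obtain ⟨z, rfl⟩ := Submodule.Quotient.mk_surjective _ z
  obtain ⟨q, rfl⟩ := TensorProduct.mk_surjective P.toExtension.Ring (relKer P) B (algebraMap_ring_surjective P) z
  rw [TensorProduct.mk_apply, d2_mk_tmul] at hz
  refine eta_eq_zero q (h q fun s => ?_)
  have := congrArg (fun w => (L1basis P).repr w s) hz
  simp only [map_zero, Finsupp.zero_apply, L1basis, Algebra.TensorProduct.basis_repr_tmul,
    Finsupp.mapRange_apply, one_smul] at this
  exact this

theorem subsingleton_T2_of_d2_injective [Algebra.FormallySmooth A B] (hd : Function.Injective (d2 P))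
    (M : Type*) [AddCommGroup M] [Module B M] : Subsingleton (T2 P M) := by
  obtain ⟨l, hl⟩ := (exists_retraction_iff P).mp inferInstance
  haveI : Module.Projective B P.toExtension.Cotangent :=
    haveI : Module.Projective B (L0 P) := Module.Projective.of_basis P.cotangentSpaceBasis
    Module.Projective.of_split P.toExtension.cotangentComplex l hl
  obtain ⟨s, hs⟩ := Module.projective_lifting_property (toCot P) LinearMap.id (toCot_surjective P)
  refine subsingleton_of_forall_eq 0 fun t => ?_
  obtain ⟨ψ, rfl⟩ := Submodule.Quotient.mk_surjective _ t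
  let e : L2 P ≃ₗ[B] LinearMap.range (d2 P) := LinearEquiv.ofInjective (d2 P) hd
  have hp : ∀ x, x - s (toCot P x) ∈ LinearMap.range (d2 P) := fun x => by
    refine ((exact_d2_toCot P) _).mp ?_
    rw [map_sub, show toCot P (s (toCot P x)) = toCot P x from LinearMap.congr_fun hs _, sub_self]
  let p : L1 P →ₗ[B] LinearMap.range (d2 P) :=
    (LinearMap.id - s ∘ₗ toCot P).codRestrict _ hp
  refine (Submodule.Quotient.mk_eq_zero (LinearMap.range (d2Star P M))).mpr ⟨ψ ∘ₗ e.symm.toLinearMap ∘ₗ p, ?_⟩
  refine LinearMap.ext fun z => ?_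
  rw [d2Star_apply, LinearMap.comp_apply, LinearMap.comp_apply, LinearMap.comp_apply]
  congr 1
  refine e.injective ?_
  rw [LinearEquiv.coe_toLinearMap, LinearEquiv.apply_symm_apply]
  refine Subtype.ext ?_
  change d2 P z - s (toCot P (d2 P z)) = d2 P z
  rw [(exact_d2_toCot P).apply_apply_eq_zero, map_zero, sub_zero]

section Syzygetic

/-- Syzygies with coefficients in the ideal are trivial if the ideal is generated by a family with trivial
relations. -/
theorem sum_smul_eq_zero_of_relationsTrivial {R : Type u} [CommRing R] {σ : Type} [Fintype σ] {c : ℕ}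
    (f : σ → R) (g : Fin c → R) (hg : RelationsTrivial g) (hspan : Ideal.span (Set.range f) = Ideal.span (Set.range g))
    (q : σ → R) (hq : ∀ i, q i ∈ Ideal.span (Set.range f)) (hrel : ∑ i, q i * f i = 0)
    (N : Type u) [AddCommGroup N] [Module R N] (x : σ → N) (hx : ∀ i j, f i • x j = f j • x i) :
    ∑ i, q i • x i = 0 := by
  classical
  have h1 : ∀ a, ∃ C : σ → R, ∑ i, C i * f i = g a := fun a =>
    Ideal.mem_span_range_iff_exists_fun.mp (hspan ▸ Ideal.subset_span ⟨a, rfl⟩)
  choose C hC using h1
  have h2 : ∀ i, ∃ e : Fin c → R, ∑ a, e a * g a = q i := fun i =>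
    Ideal.mem_span_range_iff_exists_fun.mp (hspan ▸ hq i)
  choose e he using h2
  let y : Fin c → N := fun a => ∑ i, C a i • x i
  have hfy : ∀ (i : σ) (a : Fin c), g a • x i = f i • y a := fun i a => by
    simp only [y, ← hC a, Finset.sum_smul, Finset.smul_sum, mul_smul]
    exact Finset.sum_congr rfl fun j _ => by rw [hx j i, smul_comm]
  have hgy : ∀ a b, g a • y b = g b • y a := fun a b => by
    change g a • ∑ j, C b j • x j = g b • y a
    rw [Finset.smul_sum, ← hC b, Finset.sum_smul]
    exact Finset.sum_congr rfl fun j _ => by rw [smul_comm, hfy, ← mul_smul]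
  have key := hg (fun a => ∑ i, e i a * f i) (by
    simp only [Finset.sum_mul]
    rw [Finset.sum_comm, ← hrel]
    exact Finset.sum_congr rfl fun i _ => by
      rw [← he i, Finset.sum_mul]
      exact Finset.sum_congr rfl fun a _ => mul_right_comm _ _ _) N y hgy
  rw [← key]
  simp only [Finset.sum_smul, mul_smul, ← hfy]
  rw [Finset.sum_comm]
  exact Finset.sum_congr rfl fun i _ => by simp only [← mul_smul, ← Finset.sum_smul, he]

/-- Near every maximal ideal containing the kernel, the kernel is generated by elements with trivial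
relations: then `d₂` is injective. -/
theorem d2_injective_of_local {σ : Type} [Fintype σ] (P : Algebra.Presentation A B ι σ)
    (h : ∀ (𝔪 : Ideal P.toExtension.Ring) [𝔪.IsMaximal], P.toExtension.ker ≤ 𝔪 →
      ∃ (c : ℕ) (g : Fin c → Localization.AtPrime 𝔪), RelationsTrivial g ∧
        P.toExtension.ker.map (algebraMap P.toExtension.Ring (Localization.AtPrime 𝔪)) = Ideal.span (Set.range g)) :
    Function.Injective (d2 P) := by
  classical
  refine d2_injective_of P fun q hqI => ?_
  rw [← Submodule.Quotient.mk_eq_zero]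
  set z : Nmod P := Submodule.Quotient.mk (q : relMod P) with hz
  let Ann : Ideal P.toExtension.Ring := LinearMap.ker (LinearMap.toSpanSingleton P.toExtension.Ring (Nmod P) z)
  suffices Ann = ⊤ by
    have h1 : (1 : P.toExtension.Ring) ∈ Ann := by rw [this]; trivial
    rw [LinearMap.mem_ker, LinearMap.toSpanSingleton_apply, one_smul] at h1
    exact h1
  by_contra hne
  obtain ⟨𝔪, hmax, hle⟩ := Ideal.exists_le_maximal Ann hne
  have hAnn : ∀ r, r • z = 0 → r ∈ 𝔪 := fun r hr => hle (LinearMap.mem_ker.mpr hr)
  have hI : P.toExtension.ker ≤ 𝔪 := by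
    intro r hr
    obtain ⟨d, rfl⟩ := exists_jmap_eq P hr
    refine hAnn _ ?_
    rw [← jbar_mk, hz, jbar_swap, jbar_mk, show jmap P (q : relMod P) = 0 from q.2, zero_smul]
  obtain ⟨c, g, hg, hspan⟩ := h 𝔪 hI
  let L := Localization.AtPrime 𝔪
  let N := LocalizedModule 𝔪.primeCompl (Nmod P)
  let f : σ → L := fun s => algebraMap P.toExtension.Ring L (rel P s)
  let i : Nmod P →ₗ[P.toExtension.Ring] N := LocalizedModule.mkLinearMap 𝔪.primeCompl (Nmod P)
  have hf : Ideal.span (Set.range f) = Ideal.span (Set.range g) := by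
    rw [← hspan, show P.toExtension.ker = Ideal.span (Set.range (rel P)) from
      P.span_range_relation_eq_ker.symm, Ideal.map_span, ← Set.range_comp]
    rfl
  have hqf : ∀ s, algebraMap P.toExtension.Ring L ((q : relMod P) s) ∈ Ideal.span (Set.range f) := fun s => by
    rw [hf, ← hspan]
    exact Ideal.mem_map_of_mem _ (hqI s)
  have hrel : ∑ s, algebraMap P.toExtension.Ring L ((q : relMod P) s) * f s = 0 := by
    have h0 : jmap P (q : relMod P) = 0 := q.2
    rw [jmap, Finsupp.linearCombination_apply,
      Finsupp.sum_fintype _ (fun s a => a • rel P s) (fun s => zero_smul _ _)] at h0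
    simp only [f, ← map_mul, ← map_sum]
    rw [show ∑ s, (q : relMod P) s * rel P s = 0 from h0, map_zero]
  have key := sum_smul_eq_zero_of_relationsTrivial f g hg hf _ hqf hrel N
    (fun s => i (Submodule.Quotient.mk (Finsupp.single s 1))) fun s s' => by
    simp only [f, algebraMap_smul, ← map_smul]
    congr 1
    have e := jbar_swap P (Submodule.Quotient.mk (Finsupp.single s 1)) (Submodule.Quotient.mk (Finsupp.single s' 1))
    rwa [jbar_mk, jbar_mk, jmap_single, jmap_single, one_mul, one_mul] at e
  have hiz : i z = 0 := by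
    rw [← key]
    simp only [algebraMap_smul, ← map_smul, ← map_sum]
    congr 1
    rw [hz]
    conv_lhs => rw [← Finsupp.univ_sum_single (q : relMod P)]
    rw [← Submodule.mkQ_apply, map_sum]
    exact Finset.sum_congr rfl fun s _ => by rw [← Finsupp.smul_single_one, map_smul]; rfl
  obtain ⟨⟨r, hr⟩, hr'⟩ := (IsLocalizedModule.eq_zero_iff 𝔪.primeCompl i).mp hiz
  exact hr (hAnn r hr')

end Syzygetic

end Groth.Agent.H24Cot
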