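import Mathlib.RingTheory.Smooth.Basic
import Mathlib.RingTheory.Smooth.Locus
import Mathlib.RingTheory.Etale.Kaehler
import Mathlib.RingTheory.Nilpotent.Lemmas
import Mathlib.RingTheory.Ideal.MinimalPrime.Basic

/-!
Conormal sequences of square-zero extensions of generically smooth reduced algebras.
-/

universe u

open TensorProduct Algebra

set_option linter.style.haveILetI false

noncomputable section

namespace Groth.Agent.H24Cot

variable {A B : Type u} [CommRing A] [CommRing B] [Algebra A B] (P : Algebra.Extension.{u} A B)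

/-- Generators indexed by the elements of the extension ring. -/
def ringGens : Generators A B P.Ring :=
  Generators.ofSurjective (fun e => algebraMap P.Ring B e) fun b =>
    ⟨MvPolynomial.X (P.σ b), by rw [MvPolynomial.aeval_X, P.algebraMap_σ]⟩

/-- The evaluation on the extension ring. -/
def evalRing : (ringGens P).toExtension.Ring →ₐ[A] P.Ring := MvPolynomial.aeval id

theorem algebraMap_evalRing (r : (ringGens P).toExtension.Ring) :
    algebraMap P.Ring B (evalRing P r) = algebraMap (ringGens P).toExtension.Ring B r := by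
  refine RingHom.congr_fun (f := (algebraMap P.Ring B).comp (evalRing P : (ringGens P).toExtension.Ring →+* P.Ring))
    (MvPolynomial.ringHom_ext (fun a => ?_) fun e => ?_) r
  · change algebraMap P.Ring B (evalRing P (algebraMap A (ringGens P).toExtension.Ring a)) =
      algebraMap (ringGens P).toExtension.Ring B (algebraMap A (ringGens P).toExtension.Ring a)
    rw [AlgHom.commutes, ← IsScalarTower.algebraMap_apply, ← IsScalarTower.algebraMap_apply]
  · change algebraMap P.Ring B (MvPolynomial.aeval id (MvPolynomial.X e)) = _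
    rw [MvPolynomial.aeval_X]
    exact ((Generators.algebraMap_apply (ringGens P) (MvPolynomial.X e)).trans (MvPolynomial.aeval_X _ e)).symm

/-- The morphism of extensions. -/
def evalHom : (ringGens P).toExtension.Hom P where
  toRingHom := (evalRing P : (ringGens P).toExtension.Ring →+* P.Ring)
  toRingHom_algebraMap a := (evalRing P).commutes a
  algebraMap_toRingHom r := algebraMap_evalRing P r

theorem tmul_smul_D {R : Type u} [CommRing R] [Algebra R B] [Algebra A R] (r : R) (x : Ω[R⁄A]) :
    (1 : B) ⊗ₜ[R] (r • x) = algebraMap R B r • ((1 : B) ⊗ₜ[R] x) := by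
  rw [TensorProduct.tmul_smul, algebraMap_smul]

/-- A cotangent class killed by the conormal map comes from `H¹`. -/
theorem exists_h1_lift (x : P.Cotangent) (hx : P.cotangentComplex x = 0) :
    ∃ h : (ringGens P).toExtension.H1Cotangent, Extension.Cotangent.map (evalHom P) h.1 = x := by
  obtain ⟨a, rfl⟩ := Extension.Cotangent.mk_surjective x
  rw [Extension.cotangentComplex_mk] at hx
  let G := (ringGens P).toExtension
  let v : P.Ring → G.Ring := fun e => MvPolynomial.X e
  have hv : ∀ e, evalRing P (v e) = e := fun e => MvPolynomial.aeval_X _ e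
  have hv' : ∀ e, algebraMap G.Ring B (v e) = algebraMap P.Ring B e := fun e =>
    (algebraMap_evalRing P (v e)).symm.trans (congrArg _ (hv e))
  have hK : ∀ y : G.Ring, evalRing P y = 0 → algebraMap G.Ring B y = 0 := fun y hy => by
    rw [← algebraMap_evalRing, hy, map_zero]
  let dG : G.Ring → B ⊗[G.Ring] Ω[G.Ring⁄A] := fun y => (1 : B) ⊗ₜ KaehlerDifferential.D A G.Ring y
  have hdadd : ∀ y z, dG (y + z) = dG y + dG z := fun y z => by
    simp only [dG, Derivation.map_add, TensorProduct.tmul_add]
  have hdmul : ∀ y z, dG (y * z) = algebraMap G.Ring B y • dG z + algebraMap G.Ring B z • dG y := fun y z => by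
    simp only [dG, Derivation.leibniz, TensorProduct.tmul_add, tmul_smul_D]
  let S : Submodule B (B ⊗[G.Ring] Ω[G.Ring⁄A]) :=
    { carrier := {w | ∃ y, evalRing P y = 0 ∧ dG y = w}
      zero_mem' := ⟨0, map_zero _, by simp [dG]⟩
      add_mem' := by
        rintro _ _ ⟨y, hy, rfl⟩ ⟨z, hz, rfl⟩
        exact ⟨y + z, by rw [map_add, hy, hz, add_zero], hdadd y z⟩
      smul_mem' := by
        rintro b _ ⟨y, hy, rfl⟩
        obtain ⟨r, rfl⟩ := G.algebraMap_surjective b
        exact ⟨r * y, by rw [map_mul, hy, mul_zero], by rw [hdmul, hK y hy, zero_smul, add_zero]⟩ }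
  have hcongr : ∀ y z, evalRing P y = evalRing P z → S.mkQ (dG y) = S.mkQ (dG z) := fun y z h => by
    rw [← sub_eq_zero, ← map_sub, Submodule.mkQ_apply, Submodule.Quotient.mk_eq_zero]
    refine ⟨y - z, by rw [map_sub, h, sub_self], ?_⟩
    rw [eq_sub_iff_add_eq, ← hdadd, sub_add_cancel]
  let δ : P.Ring → (B ⊗[G.Ring] Ω[G.Ring⁄A]) ⧸ S := fun e => S.mkQ (dG (v e))
  have hδa : ∀ c : A, δ (algebraMap A P.Ring c) = 0 := fun c => by
    have h := hcongr (v (algebraMap A P.Ring c)) (algebraMap A G.Ring c) (by rw [hv, AlgHom.commutes])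
    refine h.trans ?_
    simp only [dG, Derivation.map_algebraMap, TensorProduct.tmul_zero, map_zero]
  let Dv : Derivation A P.Ring ((B ⊗[G.Ring] Ω[G.Ring⁄A]) ⧸ S) :=
    Derivation.mk'
      { toFun := δ
        map_add' := fun p q => by
          change S.mkQ (dG (v (p + q))) = S.mkQ (dG (v p)) + S.mkQ (dG (v q))
          rw [← map_add, ← hdadd]
          exact hcongr _ _ (by rw [map_add, hv, hv, hv])
        map_smul' := fun c p => by
          change S.mkQ (dG (v (c • p))) = c • S.mkQ (dG (v p))
          rw [hcongr (v (c • p)) (algebraMap A G.Ring c * v p)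
            (by rw [map_mul, AlgHom.commutes, hv, hv, Algebra.smul_def]), hdmul,
            show dG (algebraMap A G.Ring c) = 0 by simp [dG], smul_zero, add_zero, map_smul,
            ← IsScalarTower.algebraMap_apply, algebraMap_smul] }
      fun p q => by
        change S.mkQ (dG (v (p * q))) = p • S.mkQ (dG (v q)) + q • S.mkQ (dG (v p))
        rw [hcongr (v (p * q)) (v p * v q) (by rw [map_mul, hv, hv, hv]), hdmul, map_add, map_smul, map_smul,
          hv', hv', algebraMap_smul, algebraMap_smul]
  have hθ := congrArg (LinearMap.liftBaseChange B Dv.liftKaehlerDifferential) hx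
  rw [LinearMap.liftBaseChange_tmul, one_smul, Derivation.liftKaehlerDifferential_comp_D, map_zero] at hθ
  obtain ⟨y, hy, hyd⟩ := (Submodule.Quotient.mk_eq_zero S).mp hθ
  have hz : v a - y ∈ G.ker := by
    change algebraMap G.Ring B (v a - y) = 0
    rw [map_sub, hv', hK y hy, sub_zero]
    exact a.2
  refine ⟨⟨Extension.Cotangent.mk ⟨v a - y, hz⟩, ?_⟩, ?_⟩
  · rw [LinearMap.mem_ker, Extension.cotangentComplex_mk]
    change dG (v a - y) = 0
    have h2 : dG (v a - y) + dG y = dG (v a) := by rw [← hdadd, sub_add_cancel]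
    rw [hyd] at h2
    exact add_eq_right.mp h2
  · rw [Extension.Cotangent.map_mk]
    congr 1
    refine Subtype.ext ?_
    change evalRing P (v a - y) = a
    rw [map_sub, hv, hy, sub_zero]

/-- At a point of smoothness the kernel of the conormal map is locally zero. -/
theorem exists_smul_eq_zero_of_isSmoothAt (p : Ideal B) [p.IsPrime] [Algebra.IsSmoothAt A p] (x : P.Cotangent)
    (hx : P.cotangentComplex x = 0) : ∃ s ∉ p, s • x = 0 := by
  obtain ⟨h, rfl⟩ := exists_h1_lift P x hx
  haveI : Subsingleton (Algebra.H1Cotangent A (Localization.AtPrime p)) :=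
    Algebra.FormallySmooth.subsingleton_h1Cotangent
  let e := Generators.equivH1Cotangent (ringGens P)
  obtain ⟨⟨s, hs⟩, h0⟩ := (IsLocalizedModule.eq_zero_iff p.primeCompl
    (Algebra.H1Cotangent.map A A B (Localization.AtPrime p)) (m := e h)).mp (Subsingleton.elim _ _)
  refine ⟨s, hs, ?_⟩
  have h1 : s • h = 0 := e.injective (by rw [map_smul, map_zero]; exact h0)
  have h2 : Extension.Cotangent.map (evalHom P) ((s • h : (ringGens P).toExtension.H1Cotangent).1) = 0 := by
    rw [h1]; exact map_zero _
  rw [← h2]
  exact ((Extension.Cotangent.map (evalHom P)).map_smul s h.1).symm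

/-- Injectivity of the conormal map with projective kernel. -/
theorem cotangentComplex_injective_of_generically_smooth [IsReduced B] [Module.Projective B P.Cotangent]
    (hsm : ∀ p : PrimeSpectrum B, p.asIdeal ∈ minimalPrimes B → Algebra.IsSmoothAt A p.asIdeal) :
    Function.Injective P.cotangentComplex := by
  rw [injective_iff_map_eq_zero]
  intro x hx
  obtain ⟨s, hs⟩ := Module.projective_def.mp ‹Module.Projective B P.Cotangent›
  refine hs.injective ((Finsupp.ext fun i => ?_).trans (map_zero s).symm)
  rw [Finsupp.zero_apply]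
  have hnil : s x i ∈ nilradical B := by
    rw [nilradical, ← Ideal.sInf_minimalPrimes, Ideal.mem_sInf]
    intro p hp
    haveI : p.IsPrime := hp.1.1
    haveI := hsm ⟨p, inferInstance⟩ hp
    obtain ⟨t, ht, h0⟩ := exists_smul_eq_zero_of_isSmoothAt P p x hx
    have h1 : t * s x i = 0 := by
      have := congrArg (fun w => s w i) h0
      simpa using this
    exact (Ideal.IsPrime.mem_or_mem inferInstance (h1.symm ▸ p.zero_mem : t * s x i ∈ p)).resolve_left ht
  rwa [nilradical_eq_zero, Ideal.zero_eq_bot, Ideal.mem_bot] at hnil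

end Groth.Agent.H24Cot
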