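import Mathlib
import Groth.Agent.H24Cot.Compare
import Groth.Agent.H24Cot.Basic

/-!
# Uniform annihilation of `T¹` and the smooth locus (helper24)
-/

set_option autoImplicit false
set_option linter.style.haveILetI false
universe u
open CotT

namespace Groth.Agent.H24Cot.UniformT1

/-- A projective localization gives a section up to an element of the submonoid. -/
theorem exists_section {B : Type u} [CommRing B] {M N : Type u} [AddCommGroup M] [Module B M] [AddCommGroup N]
    [Module B N] [Module.FinitePresentation B M] (π : N →ₗ[B] M) (hπ : Function.Surjective π) (S : Submonoid B)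
    [Module.Projective (Localization S) (LocalizedModule S M)] :
    ∃ t ∈ S, ∃ σ : M →ₗ[B] N, π ∘ₗ σ = t • LinearMap.id := by
  let fM := LocalizedModule.mkLinearMap S M
  let fN := LocalizedModule.mkLinearMap S N
  let π' := IsLocalizedModule.mapExtendScalars S fN fM (Localization S) π
  have hπ' : Function.Surjective π' := IsLocalizedModule.map_surjective S fN fM π hπ
  obtain ⟨σ', hσ'⟩ := Module.projective_lifting_property π' LinearMap.id hπ'
  obtain ⟨σ, t₁, hσ⟩ := Module.FinitePresentation.exists_lift_of_isLocalizedModule S fN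
    (σ'.restrictScalars B ∘ₗ fM)
  obtain ⟨t₂, ht₂⟩ : ∃ t₂ : S, t₂ • (π ∘ₗ σ) = t₂ • ((t₁ : B) • LinearMap.id) := by
    refine Module.Finite.exists_smul_of_comp_eq_of_isLocalizedModule S fM _ _ (LinearMap.ext fun m => ?_)
    have h1 : fN (σ m) = (t₁ : B) • σ' (fM m) := LinearMap.congr_fun hσ m
    have h2 : π' (fN (σ m)) = fM (π (σ m)) := IsLocalizedModule.map_apply S fN fM π (σ m)
    rw [h1, LinearMap.map_smul_of_tower, show π' (σ' (fM m)) = fM m from LinearMap.congr_fun hσ' (fM m)] at h2
    show fM (π (σ m)) = fM ((t₁ : B) • m)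
    rw [map_smul, ← h2]
  refine ⟨(t₂ : B) * t₁, (t₂ * t₁).2, (t₂ : B) • σ, ?_⟩
  rw [LinearMap.comp_smul, mul_smul]
  exact ht₂

variable {A B : Type u} [CommRing A] [CommRing B] [Algebra A B]

theorem uniform_iff [IsNoetherianRing B] [Algebra.FinitePresentation A B] (t : B) :
    (∀ q : PrimeSpectrum B, t ∉ q.asIdeal → q ∈ Algebra.smoothLocus A B) ↔
    ∃ n₀ : ℕ, ∀ (M : Type u) [AddCommGroup M] [Module B M] [Module.Finite B M],
      ∀ x : T1 (canon A B) M, t ^ n₀ • x = 0 := by
  let P := Algebra.Presentation.ofFinitePresentation A B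
  let X := P.toExtension
  haveI : Module.Finite B X.Cotangent := Algebra.Extension.Cotangent.finite P.toGenerators.fg_ker_of_finitePresentation
  haveI : Module.Finite B X.CotangentSpace := Module.Finite.of_basis P.cotangentSpaceBasis
  have key : ∀ (M : Type u) [AddCommGroup M] [Module B M] (s : B),
      (∀ x : T1 (canon A B) M, s • x = 0) ↔
        ∀ φ : X.Cotangent →ₗ[B] M, ∃ l : X.CotangentSpace →ₗ[B] M, l ∘ₗ X.cotangentComplex = s • φ := by
    intro M _ _ s
    let e := T1equiv (canon A B) P M
    constructor
    · intro h φ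
      have h1 : s • φ ∈ LinearMap.ker (homToT1 P M) := by
        rw [LinearMap.mem_ker, map_smul]
        refine e.injective ?_
        rw [map_smul, h, map_zero]
      rw [ker_homToT1] at h1
      exact h1
    · intro h x
      obtain ⟨y, rfl⟩ := e.surjective x
      obtain ⟨φ, rfl⟩ := homToT1_surjective P M y
      obtain ⟨l, hl⟩ := h φ
      have h1 : s • φ ∈ LinearMap.ker (homToT1 P M) := by
        rw [ker_homToT1]; exact ⟨l, hl⟩
      rw [← map_smul, ← map_smul, LinearMap.mem_ker.mp h1, map_zero]
  have hrange : ∀ x, X.toKaehler x = 0 ↔ ∃ c, X.cotangentComplex c = x := X.exact_cotangentComplex_toKaehler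
  constructor
  · intro hsm
    have hloc : ∀ q : PrimeSpectrum B, t ∉ q.asIdeal →
        q ∉ Module.support B (Algebra.H1Cotangent A B) ∧ q ∈ Module.freeLocus B Ω[B⁄A] := fun q hq => by
      have h := hsm q hq
      rw [Algebra.smoothLocus_eq_compl_support_inter] at h
      exact h
    obtain ⟨a, ha⟩ : ∃ a : ℕ, ∀ x : X.H1Cotangent, t ^ a • x = 0 := by
      haveI : Module.Finite B X.H1Cotangent := inferInstanceAs (Module.Finite B (LinearMap.ker X.cotangentComplex))
      have hrad : t ∈ (Module.annihilator B X.H1Cotangent).radical := by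
        rw [Ideal.radical_eq_sInf, Submodule.mem_sInf]
        rintro p ⟨hle, hp⟩
        by_contra htp
        refine (hloc ⟨p, hp⟩ htp).1 ?_
        have h1 : (⟨p, hp⟩ : PrimeSpectrum B) ∈ Module.support B X.H1Cotangent := by
          rw [Module.support_eq_zeroLocus]
          exact hle
        exact (Set.ext_iff.mp P.toGenerators.equivH1Cotangent.support_eq ⟨p, hp⟩).mp h1
      obtain ⟨a, ha⟩ := hrad
      exact ⟨a, fun x => Module.mem_annihilator.mp ha x⟩
    haveI : Module.Projective (Localization (Submonoid.powers t)) (LocalizedModule (Submonoid.powers t) Ω[B⁄A]) :=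
      (Module.basicOpen_subset_freeLocus_iff).mp fun q hq => (hloc q hq).2
    obtain ⟨_, ⟨b, rfl⟩, σ, hσ⟩ := exists_section X.toKaehler X.toKaehler_surjective (Submonoid.powers t)
    refine ⟨a + b, fun M _ _ _ => (key M _).mpr fun φ => ?_⟩
    have hmem : ∀ x, ∃ c, X.cotangentComplex c = t ^ b • x - σ (X.toKaehler x) := fun x => by
      refine (hrange _).mp ?_
      rw [map_sub, map_smul, show X.toKaehler (σ (X.toKaehler x)) = t ^ b • X.toKaehler x from LinearMap.congr_fun hσ _, sub_self]
    choose c hc using hmem
    have hwd : ∀ c c', X.cotangentComplex c = X.cotangentComplex c' → t ^ a • c = t ^ a • c' := fun c c' h => by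
      have h1 : t ^ a • (c - c') = 0 :=
        congrArg Subtype.val (ha ⟨c - c', by rw [LinearMap.mem_ker, map_sub, h, sub_self]⟩)
      rwa [smul_sub, sub_eq_zero] at h1
    let l : X.CotangentSpace →ₗ[B] X.Cotangent :=
      { toFun := fun x => t ^ a • c x
        map_add' := fun x y => by
          rw [← smul_add]
          exact hwd _ _ (by rw [map_add, hc, hc, hc, map_add, map_add, smul_add]; abel)
        map_smul' := fun r x => by
          rw [RingHom.id_apply, smul_comm r (t ^ a)]
          exact hwd _ _ (by rw [map_smul, hc, hc, map_smul, map_smul, smul_sub, smul_comm r (t ^ b)]) }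
    refine ⟨φ ∘ₗ l, LinearMap.ext fun x => ?_⟩
    change φ (t ^ a • c (X.cotangentComplex x)) = t ^ (a + b) • φ x
    rw [hwd (c (X.cotangentComplex x)) (t ^ b • x) (by
      rw [hc, X.exact_cotangentComplex_toKaehler.apply_apply_eq_zero, map_zero, sub_zero, map_smul]),
      smul_smul, ← pow_add, map_smul]
  · rintro ⟨n, hn⟩ q hq
    obtain ⟨l, hl⟩ := (key X.Cotangent (t ^ n)).mp (hn X.Cotangent) LinearMap.id
    have hlc : ∀ c, l (X.cotangentComplex c) = t ^ n • c := fun c => LinearMap.congr_fun hl c
    rw [Algebra.smoothLocus_eq_compl_support_inter]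
    refine ⟨fun hmem => ?_, ?_⟩
    · have h1 : q ∈ Module.support B X.H1Cotangent :=
        (Set.ext_iff.mp P.toGenerators.equivH1Cotangent.support_eq q).mpr hmem
      refine Module.notMem_support_iff'.mpr (fun m => ⟨t ^ n, fun h => hq (q.2.mem_of_pow_mem n h), ?_⟩) h1
      refine Subtype.ext ?_
      rw [Algebra.Extension.H1Cotangent.val_smul, Algebra.Extension.H1Cotangent.val_zero, ← hlc, m.2, map_zero]
    · let π := X.toKaehler
      have hwd : ∀ x x', π x = π x' →
          t ^ n • x - X.cotangentComplex (l x) = t ^ n • x' - X.cotangentComplex (l x') := fun x x' h => by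
        obtain ⟨c, hc⟩ := (hrange (x - x')).mp (by rw [map_sub]; exact sub_eq_zero.mpr h)
        have h2 := congrArg (fun y => t ^ n • y - X.cotangentComplex (l y)) hc
        simp only [hlc, map_smul, sub_self, smul_sub, map_sub] at h2
        rw [← sub_eq_zero, h2]
        abel
      let s : Ω[B⁄A] → X.CotangentSpace := Function.surjInv X.toKaehler_surjective
      have hs : ∀ w, π (s w) = w := Function.surjInv_eq X.toKaehler_surjective
      let σ : Ω[B⁄A] →ₗ[B] X.CotangentSpace :=
        { toFun := fun w => t ^ n • s w - X.cotangentComplex (l (s w))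
          map_add' := fun x y => by
            rw [hwd (s (x + y)) (s x + s y) (by rw [map_add, hs, hs, hs]), smul_add, map_add, map_add]
            abel
          map_smul' := fun r x => by
            rw [RingHom.id_apply, hwd (s (r • x)) (r • s x) (by rw [map_smul, hs, hs]), map_smul, map_smul,
              smul_sub, smul_comm r (t ^ n)] }
      have hσ : ∀ w, π (σ w) = t ^ n • w := fun w => by
        change π (t ^ n • s w - X.cotangentComplex (l (s w))) = _
        rw [map_sub, map_smul, hs, X.exact_cotangentComplex_toKaehler.apply_apply_eq_zero, sub_zero]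
      let S := q.asIdeal.primeCompl
      haveI : Module.Free B X.CotangentSpace := .of_basis P.cotangentSpaceBasis
      haveI : Module.Free (Localization S) (LocalizedModule S X.CotangentSpace) :=
        .of_basis (P.cotangentSpaceBasis.ofIsLocalizedModule (Localization S) S (LocalizedModule.mkLinearMap S X.CotangentSpace))
      have hu : IsUnit (algebraMap B (Localization S) (t ^ n)) :=
        IsLocalization.map_units (Localization S) (⟨t ^ n, fun h => hq (q.2.mem_of_pow_mem n h)⟩ : S)
      let π' := LocalizedModule.map S π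
      let σ' := LocalizedModule.map S σ
      have hcomp : ((hu.unit⁻¹.1 : Localization S) • π') ∘ₗ σ' = LinearMap.id := by
        refine LinearMap.ext fun x => ?_
        induction x using LocalizedModule.induction_on with
        | h m s =>
          rw [LinearMap.comp_apply, LinearMap.smul_apply, LocalizedModule.map_mk, LocalizedModule.map_mk, hσ,
            ← LocalizedModule.smul'_mk, ← algebraMap_smul (Localization S) (t ^ n), smul_smul, IsUnit.val_inv_mul,
            one_smul, LinearMap.id_apply]
      haveI : Module.Projective (Localization S) (LocalizedModule S Ω[B⁄A]) :=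
        Module.Projective.of_split σ' _ hcomp
      exact (Module.mem_freeLocus).mpr (Module.free_of_flat_of_isLocalRing (R := Localization.AtPrime q.asIdeal))

end Groth.Agent.H24Cot.UniformT1
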